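import Cfsg.Agent.Mrg.Omega.NO3b.Exit.TightDat

section


/-!
# The second half of LOC: `V = V₁ + C_V(Y)` (no Gaschütz, no generation of `V`)

`D : Dat Y Q BB V F L C h` (#18653), `V₁ = [U, AA]`.

* `Mdl.split` : in the abstract situation, `v ∈ V` is the sum of values `f a` (`f ∈ Hom_Y(A, U)`) and of a vector
  fixed by all elements of `Y` which act on `A` as transvections;
* **`split`** : `V = V₁ + C_V(Y)`.
-/

set_option autoImplicit false

namespace Cfsg.Agent.Omega.NO3b.Exit.Ten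

open Subgroup

universe u v w

/-- the elements of `Y` which act on `A` as a transvection with functional `φ` fix `c` -/
def Fx {Y : Type u} {A : Type v} {U : Type w} [Group Y] [AddCommGroup A] [DistribMulAction Y A] [Finite A]
    [IsIrr Y A] [AddCommGroup U] [DistribMulAction Y U] (c : U) (φ : Module.Dual (KK Y A) A) : Prop :=
  ∀ (k : Y) (a : A), φ a = 0 → (∀ x : A, k • x = x + φ x • a) → k • c = c

namespace Mdl

variable {Y : Type u} {A : Type v} {U : Type w} [Group Y] [AddCommGroup A] [DistribMulAction Y A]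
  [AddCommGroup U] [DistribMulAction Y U] {V F C : AddSubgroup U} {A₀ : AddSubgroup A} {Q : Subgroup Y}
  {β : A →+ U →+ U} [Finite A] [hI : IsIrr Y A]

/-- `Fx c` is a subspace of the dual. -/
theorem fx_add (D : Mdl V F C A₀ Q β) {c : U} {φ χ : Module.Dual (KK Y A) A} (h1 : Fx c φ) (h2 : Fx c χ)
    (h0 : Fx c (0 : Module.Dual (KK Y A) A)) : Fx c (φ + χ) := by
  by_cases hx : ∃ b, χ b = 0 ∧ φ b ≠ 0
  · obtain ⟨b, hb, hb'⟩ := hx
    intro k a ha hk
    -- a transvection `t` with functional `χ`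
    obtain ⟨l, d, -, ht⟩ := D.trans' χ (a := (φ b)⁻¹ • b) (by rw [map_smul, hb, smul_zero])
    set t : Y := l * d * l⁻¹ with ht0
    have htc : t • c = c := h2 t _ (by rw [map_smul, hb, smul_zero]) ht
    have e1 : ∀ x, φ (t • x) = (φ + χ) x := by
      intro x
      rw [ht, map_add, map_smul, map_smul, smul_eq_mul, smul_eq_mul, inv_mul_cancel₀ hb', mul_one]
      rfl
    have h3 : (t * k * t⁻¹) • c = c := by
      refine h1 _ (t • a) (by rw [e1, ha]) fun x => ?_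
      have e2 : (φ + χ) (t⁻¹ • x) = φ x := by rw [← e1, smul_inv_smul]
      rw [mul_smul, mul_smul, hk, e2, smul_add, smul_inv_smul, smul_comm t (φ x) a]
    have h4 : t⁻¹ • c = c := by rw [inv_smul_eq_iff, htc]
    rw [mul_smul, mul_smul, h4] at h3
    have h5 : k • c = t⁻¹ • c := by rw [← h3, inv_smul_smul]; rw [h3]
    rw [h5, h4]
  · push Not at hx
    -- `ker χ ≤ ker φ`
    intro k a ha hk
    by_cases hχ : χ = 0
    · have e : φ + χ = φ := by rw [hχ]; exact add_zero φ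
      rw [e] at ha hk
      exact h1 k a ha hk
    · obtain ⟨b, hb⟩ : ∃ b, χ b ≠ 0 := by
        by_contra hcon
        push Not at hcon
        exact hχ (LinearMap.ext hcon)
      have hφ : ∀ x, φ x = χ x * ((χ b)⁻¹ * φ b) := by
        intro x
        have h3 : χ (x - (χ x * (χ b)⁻¹) • b) = 0 := by
          rw [map_sub, map_smul, smul_eq_mul, mul_assoc, inv_mul_cancel₀ hb, mul_one, sub_self]
        have h4 := hx _ h3
        rw [map_sub, map_smul, smul_eq_mul, sub_eq_zero, mul_assoc] at h4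
        exact h4
      by_cases hs : (1 : KK Y A) + (χ b)⁻¹ * φ b = 0
      · refine h0 k a rfl fun x => ?_
        rw [hk]
        congr 1
        have e : (φ + χ) x = χ x * ((1 : KK Y A) + (χ b)⁻¹ * φ b) := by
          rw [LinearMap.add_apply, hφ x, mul_add, mul_one, add_comm]
        rw [e, hs, mul_zero]
        rfl
      · have e : ∀ x, (φ + χ) x = χ x * ((1 : KK Y A) + (χ b)⁻¹ * φ b) := fun x => by
          rw [LinearMap.add_apply, hφ x, mul_add, mul_one, add_comm]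
        refine h2 k (((1 : KK Y A) + (χ b)⁻¹ * φ b) • a) ?_ fun x => ?_
        · have h5 : χ a = 0 := by
            rw [e] at ha
            exact (mul_eq_zero.1 ha).resolve_right hs
          rw [map_smul, h5, smul_zero]
        · rw [hk, e, smul_smul]

theorem fx_smul {c : U} {φ : Module.Dual (KK Y A) A} (h1 : Fx c φ) (h0 : Fx c (0 : Module.Dual (KK Y A) A))
    (κ : KK Y A) : Fx c (κ • φ) := by
  intro k a ha hk
  by_cases hκ : κ = 0
  · refine h0 k a rfl fun x => ?_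
    rw [hk, LinearMap.smul_apply, hκ, LinearMap.zero_apply, zero_smul]
  · refine h1 k (κ • a) ?_ fun x => ?_
    · rw [LinearMap.smul_apply, smul_eq_mul] at ha
      rw [map_smul, (mul_eq_zero.1 ha).resolve_left hκ, smul_zero]
    · rw [hk, LinearMap.smul_apply, smul_eq_mul, smul_smul, mul_comm]

/-- the step -/
theorem split_step (D : Mdl V F C A₀ Q β) (hker : ∀ k : Y, (∀ a : A, k • a = a) → ∀ v ∈ V, k • v = v)
    {ι : Type*} [DecidableEq ι] (b : Module.Basis ι (KK Y A) A) {v : U} (hv : v ∈ V) (s : Finset ι) :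
    ∃ w : U, w ∈ AddSubgroup.closure {x | ∃ (f : HomY Y A U) (a : A), x = (f : A →+ U) a} ∧
      v - w ∈ V ∧ ∀ i ∈ s, Fx (v - w) (b.coord i) := by
  induction s using Finset.induction_on with
  | empty => exact ⟨0, zero_mem _, by rwa [sub_zero], fun i hi => absurd hi (Finset.notMem_empty i)⟩
  | insert i s hi ih =>
    obtain ⟨w, hw, hc, hs⟩ := ih
    have hne : b.coord i ≠ 0 := by
      intro h0
      have h1 : b.coord i (b i) = 0 := by rw [h0]; rfl
      rw [Module.Basis.coord_apply, b.repr_self, Finsupp.single_eq_same] at h1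
      exact one_ne_zero h1
    obtain ⟨k, hk⟩ := D.axis hne
    have hbi : k⁻¹ • b i ∉ A₀ := by
      rw [← hk, Module.Basis.coord_apply, b.repr_self, Finsupp.single_eq_same]
      exact one_ne_zero
    have hcV : k⁻¹ • (v - w) ∈ V := by
      have h1 := D.yV k⁻¹ (v - w)
      have e : k⁻¹ • (v - w) = (k⁻¹ • (v - w) - (v - w)) + (v - w) := by abel
      rw [e]
      exact V.add_mem h1 hc
    obtain ⟨f, hf⟩ := D.val_surj hbi hcV
    rw [f.2, ← smul_sub] at hf
    have e0 : v - (w + (f : A →+ U) (b i)) = v - w - (f : A →+ U) (b i) := by abel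
    refine ⟨w + (f : A →+ U) (b i), add_mem hw (AddSubgroup.subset_closure ⟨f, b i, rfl⟩), ?_, ?_⟩
    · rw [e0]
      exact V.sub_mem hc (D.val_mem f _)
    · intro j hj
      rw [e0]
      rcases Finset.mem_insert.1 hj with rfl | hj
      · intro l a ha hl
        obtain ⟨d, hd, hd'⟩ := D.trans_of hk ha
        have h1 : (k * d * k⁻¹) • (v - w - (f : A →+ U) (b j)) = v - w - (f : A →+ U) (b j) := by
          rw [mul_smul, mul_smul, D.qF d hd _ hf, smul_inv_smul]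
        have h2 : ((k * d * k⁻¹)⁻¹ * l) • (v - w - (f : A →+ U) (b j)) = v - w - (f : A →+ U) (b j) := by
          refine hker _ (fun x => ?_) _ (V.sub_mem hc (D.val_mem f _))
          rw [mul_smul, hl, ← hd', inv_smul_smul]
        rw [mul_smul, inv_smul_eq_iff, h1] at h2
        exact h2
      · intro l a ha hl
        have h1 := hs j hj l a ha hl
        have hij : j ≠ i := fun e => hi (e ▸ hj)
        have h2 : l • (f : A →+ U) (b i) = (f : A →+ U) (b i) := by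
          rw [← f.2, hl, Module.Basis.coord_apply, b.repr_self, Finsupp.single_eq_of_ne hij, zero_smul, add_zero]
        rw [smul_sub, h1, h2]

/-- `V = V₁ + C_V(transvections)` -/
theorem split (D : Mdl V F C A₀ Q β) (hker : ∀ k : Y, (∀ a : A, k • a = a) → ∀ v ∈ V, k • v = v)
    {v : U} (hv : v ∈ V) :
    ∃ w : U, w ∈ AddSubgroup.closure {x | ∃ (f : HomY Y A U) (a : A), x = (f : A →+ U) a} ∧
      v - w ∈ V ∧ ∀ k : Y, ∀ d ∈ Q, (k * d * k⁻¹) • (v - w) = v - w := by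
  classical
  have hfin : Module.Finite (KK Y A) A := Module.Finite.of_finite
  let b := Module.finBasis (KK Y A) A
  obtain ⟨w, hw, hc, hs⟩ := D.split_step hker b hv Finset.univ
  refine ⟨w, hw, hc, ?_⟩
  have h0 : Fx (v - w) (0 : Module.Dual (KK Y A) A) := by
    intro k a _ hk
    refine hker k (fun x => ?_) _ hc
    rw [hk, LinearMap.zero_apply, zero_smul, add_zero]
  let Λ : Submodule (KK Y A) (Module.Dual (KK Y A) A) :=
    { carrier := {φ | Fx (v - w) φ}
      zero_mem' := h0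
      add_mem' := fun h1 h2 => D.fx_add h1 h2 h0
      smul_mem' := fun κ _ h1 => fx_smul h1 h0 κ }
  have hΛ : Λ = ⊤ := by
    rw [eq_top_iff, ← b.dualBasis.span_eq, Submodule.span_le]
    rintro _ ⟨i, rfl⟩
    have e : b.dualBasis i = b.coord i := by
      ext x
      rw [Module.Basis.dualBasis_apply]
      rfl
    rw [e]
    exact hs i (Finset.mem_univ i)
  have hall : ∀ φ : Module.Dual (KK Y A) A, Fx (v - w) φ := fun φ => by
    have h1 : φ ∈ Λ := by rw [hΛ]; trivial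
    exact h1
  intro k d hd
  obtain ⟨φ₀, hφ₀, hφ₀'⟩ := D.exists_dual
  obtain ⟨χ, -, hχ, hχd⟩ := D.exists_trans hd
  obtain ⟨a₀, ha₀⟩ : ∃ a, φ₀ a ≠ 0 := by
    by_contra hcon
    push Not at hcon
    exact hφ₀ (LinearMap.ext hcon)
  obtain ⟨χ', hχA, -, hχd'⟩ := D.exists_trans hd
  have hχA : ∀ a, χ a ∈ A₀ := by
    intro a
    have h1 := hχA a
    have h2 := (hχd a).symm.trans (hχd' a)
    rw [add_left_cancel h2]
    exact h1
  have e : ∀ x, χ x = φ₀ x • ((φ₀ a₀)⁻¹ • χ a₀) := by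
    intro x
    have h1 : x - (φ₀ x * (φ₀ a₀)⁻¹) • a₀ ∈ A₀ := by
      rw [← hφ₀', map_sub, map_smul, smul_eq_mul, mul_assoc, inv_mul_cancel₀ ha₀, mul_one, sub_self]
    have h2 := hχ _ h1
    rw [map_sub, map_smul, sub_eq_zero] at h2
    rw [h2, smul_smul]
  let φ' : Module.Dual (KK Y A) A :=
    { toFun := fun x => φ₀ (k⁻¹ • x)
      map_add' := fun x y => by rw [smul_add, map_add]
      map_smul' := fun κ x => by rw [RingHom.id_apply, smul_comm k⁻¹ κ x, map_smul] }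
  have hφ' : ∀ x, φ' x = φ₀ (k⁻¹ • x) := fun _ => rfl
  refine hall φ' (k * d * k⁻¹) (k • ((φ₀ a₀)⁻¹ • χ a₀)) ?_ fun x => ?_
  · rw [hφ', inv_smul_smul, hφ₀']
    exact D.smul_mem _ (hχA a₀)
  · rw [mul_smul, mul_smul, hχd, e, hφ', smul_add, smul_inv_smul, smul_comm k (φ₀ (k⁻¹ • x))]

end Mdl

end Cfsg.Agent.Omega.NO3b.Exit.Ten

namespace Cfsg.Agent.Omega.NO3b.Exit.TBlk

open Subgroup Ten

universe u v

variable {H : Type u} {U : Type v} [Group H] [AddCommGroup U] [DistribMulAction H U]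
variable {Y Q BB : Subgroup H} {V F L C : AddSubgroup U} {h : H} (D : Dat Y Q BB V F L C h)
include D

/-- elements of `Y` centralising `AA` are trivial on `V` -/
theorem ker_AA [Finite H] [Finite U] {k : H} (hk : k ∈ Y) (hc : ∀ x ∈ D.AA, k * x * k⁻¹ = x) {v : U} (hv : v ∈ V) :
    k • v = v := by
  -- trivial on `V₁`
  have key : ∀ n ∈ Y, (∀ x ∈ D.AA, n * x * n⁻¹ = x) → ∀ w ∈ V1 D, n • w = w := by
    intro n hn hnc w hw
    induction hw using AddSubgroup.closure_induction with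
    | mem w hw =>
      obtain ⟨y, hy, u, rfl⟩ := hw
      rw [← D.br_conj hn (D.AA_le hy), hnc y hy]
    | zero => exact smul_zero _
    | add a b _ _ ha hb => rw [smul_add, ha, hb]
    | neg a _ ha => rw [smul_neg, ha]
  let N : Subgroup H :=
    { carrier := {n | n ∈ Y ∧ ∀ x ∈ D.AA, n * x * n⁻¹ = x}
      one_mem' := ⟨one_mem _, fun x _ => by group⟩
      mul_mem' := by
        rintro a b ⟨ha, ha'⟩ ⟨hb, hb'⟩
        refine ⟨mul_mem ha hb, fun x hx => ?_⟩
        have e : a * b * x * (a * b)⁻¹ = a * (b * x * b⁻¹) * a⁻¹ := by group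
        rw [e, hb' x hx, ha' x hx]
      inv_mem' := by
        rintro a ⟨ha, ha'⟩
        refine ⟨inv_mem ha, fun x hx => ?_⟩
        have h1 := ha' x hx
        conv_lhs => rw [← h1]
        group }
  refine D.red N (fun n hn => hn.1) ?_ ?_ k ⟨hk, hc⟩ v hv
  · rintro g hg n ⟨hn, hn'⟩
    refine ⟨mul_mem (mul_mem hg hn) (inv_mem hg), fun x hx => ?_⟩
    have hx' : g⁻¹ * x * g ∈ D.AA := by
      have := D.AA_conj (inv_mem hg) hx
      rwa [inv_inv] at this
    have h1 := hn' _ hx'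
    have e : g * n * g⁻¹ * x * (g * n * g⁻¹)⁻¹ = g * (n * (g⁻¹ * x * g) * n⁻¹) * g⁻¹ := by group
    rw [e, h1]
    group
  · rintro n ⟨hn, hn'⟩
    refine ⟨1, fun w hw => ?_⟩
    have h1 : br n w ∈ V1 D := br_Y_V1 D hn hw
    have h2 := key n hn hn' _ h1
    have h3 : br (n * n) w = 0 := by
      rw [br_mul, br_eq_zero.2 h2, zero_add, D.two]
    rw [pow_one, pow_two]
    exact br_eq_zero.1 h3

/-- **`V = V₁ + C_V(Y)`** -/
theorem split [Finite H] [Finite U] {v : U} (hv : v ∈ V) : ∃ w ∈ V1 D, ∃ c ∈ V, (∀ k ∈ Y, k • c = c) ∧ v = w + c := by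
  obtain ⟨w, hw, hc, hQ⟩ := D.mdl.split (fun k hk v hv => by
    refine ker_AA D k.2 (fun x hx => ?_) hv
    have h1 := congrArg AM.val (hk (AM.mk x hx))
    exact h1) hv
  refine ⟨w, ?_, v - w, hc, ?_, by abel⟩
  · refine (AddSubgroup.closure_le _).2 ?_ hw
    rintro _ ⟨f, a, rfl⟩
    obtain ⟨u, hu⟩ := D.mdl.psi_surj f
    rw [← hu, Mdl.psi_apply, D.bt_apply]
    exact br_mem_V1 D a.val_mem u
  · intro k hk
    let N : Subgroup H :=
      { carrier := {n | n ∈ Y ∧ ∀ g ∈ Y, (g * n * g⁻¹) • (v - w) = v - w}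
        one_mem' := ⟨one_mem _, fun g _ => by rw [mul_one, mul_inv_cancel, one_smul]⟩
        mul_mem' := by
          rintro a b ⟨ha, ha'⟩ ⟨hb, hb'⟩
          refine ⟨mul_mem ha hb, fun g hg => ?_⟩
          have e : g * (a * b) * g⁻¹ = g * a * g⁻¹ * (g * b * g⁻¹) := by group
          rw [e, mul_smul, hb' g hg, ha' g hg]
        inv_mem' := by
          rintro a ⟨ha, ha'⟩
          refine ⟨inv_mem ha, fun g hg => ?_⟩
          have e : g * a⁻¹ * g⁻¹ = (g * a * g⁻¹)⁻¹ := by group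
          rw [e, inv_smul_eq_iff, ha' g hg] }
    have h1 : Y ≤ N := by
      refine D.gen N (fun n hn => hn.1) ?_ ?_
      · rintro g hg n ⟨hn, hn'⟩
        refine ⟨mul_mem (mul_mem hg hn) (inv_mem hg), fun g' hg' => ?_⟩
        have e : g' * (g * n * g⁻¹) * g'⁻¹ = g' * g * n * (g' * g)⁻¹ := by group
        rw [e]
        exact hn' _ (mul_mem hg' hg)
      · intro d hd
        refine ⟨D.QY hd, fun g hg => ?_⟩
        exact hQ ⟨g, hg⟩ ⟨d, D.QY hd⟩ hd
    have h2 := (h1 hk).2 1 (one_mem _)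
    rwa [one_mul, inv_one, mul_one] at h2

end Cfsg.Agent.Omega.NO3b.Exit.TBlk

end

section


/-!
# The blocks of `V` in LOC without (PR) (helper255, bb 20845), part 2

* `all_sep` : an element of `all = Σ m V₁` without components is zero; `gen_dec` : `V = all + C_V(YM)` (`TenSplit.lean`);
* `exists_comp` : every block carries a component `≠ 0` of some `z ∈ C_V(S)`;
* `ann_one`, `odd_T` : the action on one block;
* **`hX`** : `x ∈ YM` which fixes `C_V(S)` fixes `C_V(S ∩ YM)`;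
* `moves` : `S ∩ YM` moves `V`.
-/

set_option autoImplicit false

open scoped Pointwise

namespace Cfsg.Agent.Omega.NO3b.Exit.BlkZ

open Subgroup Cfsg.Agent.Omega.NO3b.Exit Ten Descent
open Cfsg.Agent.Omega.NO3b.Exit.TBlk hiding Blk

universe u v

section dat

variable {H : Type u} {U : Type v} [Group H] [AddCommGroup U] [DistribMulAction H U]
variable {Y Q BB : Subgroup H} {V F L C : AddSubgroup U} {h : H} (D : Dat Y Q BB V F L C h)

theorem allTv [Finite H] [Finite U] : AllTv Y (AM D) := by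
  intro φ a ha
  obtain ⟨k, d, -, hk⟩ := D.mdl.trans' φ ha
  exact ⟨_, hk⟩

theorem V1_le_img [Finite H] [Finite U] : V1 D ≤ img Y (AM D) U := by
  refine (AddSubgroup.closure_le _).2 ?_
  rintro _ ⟨y, hy, u, rfl⟩
  have h1 := mem_img (D.mdl.psi u) (AM.mk y hy)
  rw [Mdl.psi_apply, D.bt_apply] at h1
  exact h1

include D in
/-- `Q` moves `V` -/
theorem exists_Q [Finite H] [Finite U] : ∃ d ∈ Q, ∃ v ∈ V, d • v ≠ v := by
  obtain ⟨a, ha, ha'⟩ := D.exists_notMem
  obtain ⟨s, hs, hs1, hsF⟩ := D.ne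
  obtain ⟨d, hd, e⟩ := D.surj (D.AA_le ha) ha' (D.AA_V ha) (s := s) ⟨hs, hsF⟩
  refine ⟨d, hd, ?_⟩
  by_contra hcon
  push Not at hcon
  apply hs1
  rw [← e, mul_inv_eq_one]
  refine D.ext fun u => ?_
  rw [D.br_conj (D.QY hd) (D.AA_le ha)]
  exact hcon _ (D.AA_V ha u)

end dat

/-- a subgroup of odd index meets a subnormal subgroup in a subgroup of odd index -/
theorem sn_odd {H : Type u} [Group H] [Finite H] {Y K T : Subgroup H} (h : Sn Y K) (hT : ¬ 2 ∣ T.relIndex K) :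
    ¬ 2 ∣ T.relIndex Y := by
  induction h with
  | refl => exact hT
  | @step K K' _ h1 h2 ih =>
    refine ih ?_
    have hn : (K.subgroupOf K').Normal := ⟨fun n hn g => h2 g g.2 n hn⟩
    have h3 := not_dvd_relIndex (M := K') (S := T.subgroupOf K') (N := K.subgroupOf K') hT
    rwa [relIndex_subgroupOf h1] at h3

theorem sn_inf' {H : Type u} [Group H] {Y K : Subgroup H} (h : Sn Y K) (L : Subgroup H) : Sn (Y ⊓ L) (K ⊓ L) := by
  induction h with
  | refl => exact Sn.refl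
  | step _ h1 h2 ih =>
    exact ih.step (inf_le_inf_right _ h1) fun k hk n hn =>
      mem_inf.2 ⟨h2 k hk.1 n hn.1, mul_mem (mul_mem hk.2 hn.2) (inv_mem hk.2)⟩

namespace Blk0

variable {H : Type u} {U : Type v} [Group H] [Finite H] [AddCommGroup U] [DistribMulAction H U] [Finite U]
variable {Y Q BB : Subgroup H} {V F L C : AddSubgroup U} {h : H} {M KV S : Subgroup H}
variable (B : Blk0 Y Q BB V F L C h M KV S)
include B

/-- the ring generated by `KV` acts on `V₁ = A ⊗ E` through `A` -/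
theorem exists_ringK {c : AddMonoid.End U} (hc : c ∈ ring U KV) :
    ∃ c' : AddMonoid.End (AM B.dat), ∀ (f : HomY Y (AM B.dat) U) (a : AM B.dat),
      c ((f : AM B.dat →+ U) a) = (f : AM B.dat →+ U) (c' a) := by
  induction hc using AddSubgroup.closure_induction with
  | mem c hc =>
    obtain ⟨x, hx, rfl⟩ := hc
    let c' : AddMonoid.End (AM B.dat) :=
      AddMonoidHom.mk' (fun a => AM.mk (x * a.val * x⁻¹) (B.AA_K x hx _ a.val_mem)) fun a b => AM.ext (by
        change x * (a.val * b.val) * x⁻¹ = x * a.val * x⁻¹ * (x * b.val * x⁻¹)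
        group)
    refine ⟨c', fun f a => ?_⟩
    obtain ⟨u, rfl⟩ := B.dat.mdl.psi_surj f
    rw [Mdl.psi_apply, Mdl.psi_apply, B.dat.bt_apply, B.dat.bt_apply]
    exact (B.br_K hx a.val_mem u).symm
  | zero => exact ⟨0, fun f a => (map_zero (f : AM B.dat →+ U)).symm⟩
  | add c d _ _ hc hd =>
    obtain ⟨c', h1⟩ := hc
    obtain ⟨d', h2⟩ := hd
    refine ⟨c' + d', fun f a => ?_⟩
    change c ((f : AM B.dat →+ U) a) + d ((f : AM B.dat →+ U) a) = (f : AM B.dat →+ U) (c' a + d' a)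
    rw [h1, h2, map_add]
  | neg c _ hc =>
    obtain ⟨c', h1⟩ := hc
    refine ⟨-c', fun f a => ?_⟩
    change - c ((f : AM B.dat →+ U) a) = (f : AM B.dat →+ U) (- c' a)
    rw [h1, map_neg]

/-- one block -/
theorem ann_one {T : Subgroup H} (hT2 : IsPGroup 2 T) (hT : ¬ 2 ∣ T.relIndex Y) {w w' : U} (hw : w ∈ V1 B.dat)
    (hwT : ∀ t ∈ T, t ∈ Y → t • w = w) (hw0 : w ≠ 0) (hw' : w' ∈ V1 B.dat) (hwT' : ∀ t ∈ T, t ∈ Y → t • w' = w')
    {c : AddMonoid.End U} (hc : c ∈ ring U KV) (h0 : c w = 0) : c w' = 0 := by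
  have hT' : ¬ 2 ∣ (T.subgroupOf Y).index := hT
  have hT2' : IsPGroup 2 (T.subgroupOf Y) := hT2.comap_of_injective _ (subtype_injective Y)
  obtain ⟨n, -, hn0, hn⟩ := exists_fix (V := AM B.dat) (H := Y) hT2' B.dat.AM_two (A := ⊤)
    (fun _ _ _ _ => trivial) (by
      intro h
      obtain ⟨a, ha⟩ := (B.dat.isIrr).ne
      have : a ∈ (⊤ : AddSubgroup (AM B.dat)) := trivial
      rw [h] at this
      exact ha this)
  obtain ⟨f, rfl⟩ := exists_of_fix (allTv B.dat) B.dat.AM_two hT' hn0 hn (V1_le_img B.dat hw)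
    (fun t ht => hwT t (mem_subgroupOf.1 ht) t.2)
  obtain ⟨f', rfl⟩ := exists_of_fix (allTv B.dat) B.dat.AM_two hT' hn0 hn (V1_le_img B.dat hw')
    (fun t ht => hwT' t (mem_subgroupOf.1 ht) t.2)
  obtain ⟨c', hcc⟩ := exists_ringK B hc
  have hf0 : f ≠ 0 := by
    rintro rfl
    exact hw0 rfl
  rw [hcc] at h0 ⊢
  have h1 : c' n = 0 := HomY.inj hf0 (h0.trans (map_zero _).symm)
  rw [h1, map_zero]

omit [Finite H] [Finite U] in
/-- `x ∈ M` maps `rest m` to `rest (x m)` -/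
theorem smul_rest {m x : H} (hx : x ∈ M) {v : U} (hv : v ∈ B.rest m) : x • v ∈ B.rest (x * m) := by
  induction hv using AddSubgroup.closure_induction with
  | mem v hv =>
    obtain ⟨m', hm', hne, hv⟩ := hv
    refine AddSubgroup.subset_closure ⟨x * m', mul_mem hx hm', fun e => hne ?_, ?_⟩
    · rw [mul_smul, mul_smul] at e
      exact smul_left_cancel x e
    · rw [mul_smul]
      exact AddSubgroup.smul_mem_pointwise_smul _ _ _ hv
  | zero => rw [smul_zero]; exact zero_mem _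
  | add a b _ _ ha hb => rw [smul_add]; exact add_mem ha hb
  | neg a _ ha => rw [smul_neg]; exact neg_mem ha

omit [Finite H] [Finite U] in
theorem rest_congr {m m' : H} (e : m • V1 B.dat = m' • V1 B.dat) : B.rest m = B.rest m' := by
  unfold rest
  rw [e]

theorem rest_K {m x : H} (hm : m ∈ M) (hx : x ∈ KV) {v : U} (hv : v ∈ B.rest m) : x • v ∈ B.rest m := by
  have h3 := B.smul_rest (B.KM hx) hv
  rwa [B.rest_congr (m := x * m) (m' := m) (by rw [mul_smul, B.smul_eq_K hm hx])] at h3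

/-- an element of the block `m V₁` fixed by `m Y m⁻¹` is zero -/
theorem block_fix {m : H} {v : U} (hv : v ∈ m • V1 B.dat) (hf : ∀ k ∈ Y, (m * k * m⁻¹) • v = v) : v = 0 := by
  obtain ⟨w, hw, rfl⟩ := B.mem_smul.1 hv
  have h1 : w = 0 := V1_fix B.dat hw fun k hk => by
    have h2 := hf k hk
    rw [smul_smul, inv_mul_cancel_right, mul_smul] at h2
    exact smul_left_cancel m h2
  rw [h1, smul_zero]

/-- an element of `all` fixed by all `m Y m⁻¹` is zero -/
theorem all_sep {v : U} (hv : v ∈ B.all) (hf : ∀ m ∈ M, ∀ k ∈ Y, (m * k * m⁻¹) • v = v) : v = 0 := by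
  classical
  have hfin : Finite (AddSubgroup U) := Finite.of_injective (fun A : AddSubgroup U => (A : Set U)) SetLike.coe_injective
  have : Fintype (AddSubgroup U) := Fintype.ofFinite _
  let A : Finset (AddSubgroup U) → AddSubgroup U := fun T =>
    AddSubgroup.closure {v | ∃ W ∈ T, (∃ m ∈ M, m • V1 B.dat = W) ∧ v ∈ W}
  have key : ∀ T : Finset (AddSubgroup U), ∀ v ∈ A T, (∀ m ∈ M, ∀ k ∈ Y, (m * k * m⁻¹) • v = v) → v = 0 := by
    intro T
    induction T using Finset.induction with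
    | empty =>
      intro v hv _
      have h1 : A ∅ ≤ ⊥ := (AddSubgroup.closure_le _).2 (by
        rintro v ⟨W, hW, -⟩
        exact absurd hW (Finset.notMem_empty _))
      exact AddSubgroup.mem_bot.1 (h1 hv)
    | insert W T hWT ih =>
      intro v hv hf
      have hdec : ∀ v ∈ A (insert W T), ∃ w v', v = w + v' ∧ v' ∈ A T ∧ (w = 0 ∨ w ∈ W ∧ ∃ m ∈ M, m • V1 B.dat = W) := by
        intro y hy
        induction hy using AddSubgroup.closure_induction with
        | mem y hy =>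
          obtain ⟨W', hW', hm, hyW⟩ := hy
          rcases Finset.mem_insert.1 hW' with hW' | hW'
          · rw [hW'] at hm hyW
            exact ⟨y, 0, (add_zero y).symm, zero_mem _, Or.inr ⟨hyW, hm⟩⟩
          · exact ⟨0, y, (zero_add y).symm, AddSubgroup.subset_closure ⟨W', hW', hm, hyW⟩, Or.inl rfl⟩
        | zero => exact ⟨0, 0, (add_zero 0).symm, zero_mem _, Or.inl rfl⟩
        | add a b _ _ ha hb =>
          obtain ⟨a1, a2, rfl, ha2, ha1⟩ := ha
          obtain ⟨b1, b2, rfl, hb2, hb1⟩ := hb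
          refine ⟨a1 + b1, a2 + b2, by abel, add_mem ha2 hb2, ?_⟩
          rcases ha1 with rfl | ⟨ha1, hm⟩
          · rcases hb1 with rfl | ⟨hb1, hm⟩
            · left; rw [add_zero]
            · right; rw [zero_add]; exact ⟨hb1, hm⟩
          · rcases hb1 with rfl | ⟨hb1, -⟩
            · right; rw [add_zero]; exact ⟨ha1, hm⟩
            · right; exact ⟨add_mem ha1 hb1, hm⟩
        | neg a _ ha =>
          obtain ⟨a1, a2, rfl, ha2, ha1⟩ := ha
          refine ⟨-a1, -a2, by abel, neg_mem ha2, ?_⟩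
          rcases ha1 with rfl | ⟨ha1, hm⟩
          · left; rw [neg_zero]
          · right; exact ⟨neg_mem ha1, hm⟩
      obtain ⟨w, v', rfl, hv', hw⟩ := hdec v hv
      have hw0 : w = 0 := by
        rcases hw with h0 | ⟨hw, m, hm, rfl⟩
        · exact h0
        · have h1 : v' ∈ B.rest m := by
            have h2 : A T ≤ B.rest m := (AddSubgroup.closure_le _).2 (by
              rintro x ⟨W', hW', ⟨m', hm', rfl⟩, hx⟩
              exact AddSubgroup.subset_closure ⟨m', hm', fun e => hWT (e ▸ hW'), hx⟩)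
            exact h2 hv'
          refine B.block_fix hw fun k hk => ?_
          have h2 := hf m hm k hk
          rw [smul_add, B.cent_rest hm hk h1] at h2
          exact add_right_cancel h2
      subst hw0
      rw [zero_add] at hf ⊢
      exact ih v' hv' hf
  refine key Finset.univ v ?_ hf
  have h2 : B.all ≤ A Finset.univ := (AddSubgroup.closure_le _).2 (by
    rintro x ⟨m, hm, hx⟩
    exact AddSubgroup.subset_closure ⟨m • V1 B.dat, Finset.mem_univ _, ⟨m, hm, rfl⟩, hx⟩)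
  exact h2 hv

omit [Finite H] [Finite U] in
theorem fix_YM {v : U} (hf : ∀ m ∈ M, ∀ k ∈ Y, (m * k * m⁻¹) • v = v) {x : H} (hx : x ∈ B.YM) : x • v = v := by
  induction hx using closure_induction with
  | mem x hx =>
    obtain ⟨m, hm, k, hk, rfl⟩ := hx
    exact hf m hm k hk
  | one => exact one_smul _ _
  | mul a b _ _ ha hb => rw [mul_smul, hb, ha]
  | inv a _ ha => rw [inv_smul_eq_iff, ha]

/-- an element of `all` in all `rest m` is zero -/
theorem all_sep' {v : U} (hv : v ∈ B.all) (hf : ∀ m ∈ M, v ∈ B.rest m) : v = 0 :=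
  B.all_sep hv fun m hm _ hk => B.cent_rest hm hk (hf m hm)

/-- **Gaschütz**, one fixed point -/
theorem fix_dec {z : U} (hzV : z ∈ V) (hz : ∀ s ∈ S, s • z = z) : ∃ a ∈ B.all, ∃ c ∈ V, (∀ s ∈ S, s • a = a) ∧
    (∀ s ∈ S, s • c = c) ∧ (∀ x ∈ B.YM, x • c = c) ∧ z = a + c := by
  have hn : (B.YM.subgroupOf M).Normal := ⟨fun n hn g => by
    rw [mem_subgroupOf] at hn ⊢
    exact B.YM_conj g.2 hn⟩
  obtain ⟨z', h1, h2, h3⟩ := exists_fixed (M := M) (U := U) B.dat.two (S := S.subgroupOf M) (N := B.YM.subgroupOf M)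
    (z := z) B.syl B.all (fun s hs => hz _ (mem_subgroupOf.1 hs)) fun n hn => B.br_YM (mem_subgroupOf.1 hn) hzV
  have hz'V : z' ∈ V := by
    have e : z' = (z' - z) + z := by abel
    rw [e]; exact add_mem (B.all_le h3) hzV
  have h2' : ∀ s ∈ S, s • z' = z' := fun s hs => h2 ⟨s, B.SM hs⟩ (mem_subgroupOf.2 hs)
  refine ⟨-(z' - z), neg_mem h3, z', hz'V, fun s hs => ?_, h2',
    fun x hx => h1 ⟨x, B.KM (B.YM_le hx)⟩ (mem_subgroupOf.2 hx), by abel⟩
  rw [smul_neg, smul_sub, hz s hs, h2' s hs]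

/-- `YM` acts on `V` modulo `rest 1` as `Y`. -/
theorem br_rest {K : Subgroup H} (hs : Sn Y K) (hK : K ≤ B.YM) {c : U} (hc : c ∈ V)
    (hf : ∀ k ∈ Y, br k c ∈ B.rest 1) {k : H} (hk : k ∈ K) : br k c ∈ B.rest 1 := by
  induction hs generalizing k with
  | refl => exact hf k hk
  | @step K K' h0 h1 h2 ih =>
    have hKY : K ≤ B.YM := h1.trans hK
    have hkK : k ∈ KV := B.YM_le (hK hk)
    -- `x ↦ br x w` modulo `rest 1`
    obtain ⟨a, ha, b, hb, e⟩ := B.mem_all (B.br_YM (hK hk) hc) 1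
    have key : ∀ n ∈ Y, n • a = a := by
      intro n hn
      have hnK : n ∈ KV := B.YK hn
      have hn' : k⁻¹ * n * k ∈ K := by
        have := h2 k⁻¹ (inv_mem hk) n (h0.le hn)
        rwa [inv_inv] at this
      have e1 : n • k • c - k • c ∈ B.rest 1 := by
        have h3 := B.rest_K (one_mem M) hkK (ih hKY hn')
        have e2 : k • br (k⁻¹ * n * k) c = n • k • c - k • c := by
          rw [br_def, smul_sub, smul_smul]
          congr 1
          rw [smul_smul]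
          congr 1
          group
        rwa [e2] at h3
      have e3 : n • br k c - br k c ∈ B.rest 1 := by
        have e4 : n • br k c - br k c = (n • k • c - k • c) - br n c := by
          rw [br_def k, br_def n, smul_sub]; abel
        rw [e4]
        exact sub_mem e1 (hf n hn)
      have h5 : n • a - a ∈ (1 : H) • V1 B.dat ⊓ B.rest 1 := by
        refine AddSubgroup.mem_inf.2 ⟨sub_mem (B.smul_V1_K (one_mem M) hnK ha) ha, ?_⟩
        have e5 : n • a - a = (n • br k c - br k c) - (n • b - b) := by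
          rw [e, smul_add]; abel
        rw [e5]
        exact sub_mem e3 (sub_mem (B.rest_K (one_mem M) hnK hb) hb)
      rw [B.indep (one_mem M), AddSubgroup.mem_bot] at h5
      exact sub_eq_zero.1 h5
    have ha0 : a = 0 := B.block_fix ha fun n hn => by
      rw [one_mul, inv_one, mul_one]
      exact key n hn
    rw [e, ha0, zero_add]
    exact hb

/-- every `v ∈ V` is, modulo `m V₁`, moved by `YM` only in `rest m` -/
theorem exists_rest {m : H} (hm : m ∈ M) {v : U} (hv : v ∈ V) :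
    ∃ a ∈ m • V1 B.dat, v - a ∈ V ∧ ∀ x ∈ B.YM, br x (v - a) ∈ B.rest m := by
  obtain ⟨w, hw, c, hc, hcY, e⟩ := TBlk.split B.dat (B.mV m⁻¹ (inv_mem hm) v hv)
  have e1 : v - m • w = m • c := by
    rw [sub_eq_iff_eq_add, ← smul_add, add_comm, ← e, smul_inv_smul]
  refine ⟨m • w, AddSubgroup.smul_mem_pointwise_smul _ _ _ hw, ?_, ?_⟩
  · rw [e1]; exact B.mV m hm c hc
  · intro x hx
    have hYY : Y ≤ B.YM := fun k hk => by
      have := B.conj_mem_YM (one_mem M) hk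
      rwa [one_mul, inv_one, mul_one] at this
    have hs : Sn Y B.YM := by
      have h1 := sn_inf' B.sn B.YM
      rwa [inf_eq_left.2 hYY, inf_eq_right.2 B.YM_le] at h1
    have hx' : m⁻¹ * x * m ∈ B.YM := by
      have := B.YM_conj (inv_mem hm) hx
      rwa [inv_inv] at this
    have h2 := B.br_rest hs le_rfl hc (fun k hk => by rw [br_eq_zero.2 (hcY k hk)]; exact zero_mem _) hx'
    have h3 := B.smul_rest hm h2
    rw [mul_one] at h3
    have e2 : m • br (m⁻¹ * x * m) c = br x (v - m • w) := by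
      rw [e1, ← br_conj_smul]
      congr 1
      group
    rwa [e2] at h3

theorem exists_all (s : Finset H) (hs : ∀ m ∈ s, m ∈ M) {v : U} (hv : v ∈ V) :
    ∃ w ∈ B.all, v - w ∈ V ∧ ∀ m ∈ s, ∀ x ∈ B.YM, br x (v - w) ∈ B.rest m := by
  classical
  induction s using Finset.induction_on with
  | empty => exact ⟨0, zero_mem _, by rwa [sub_zero], fun m hm => absurd hm (Finset.notMem_empty m)⟩
  | insert m s _ ih =>
    obtain ⟨w, hw, hwV, hws⟩ := ih fun m hm => hs m (Finset.mem_insert_of_mem hm)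
    have hm : m ∈ M := hs m (Finset.mem_insert_self m s)
    by_cases hex : ∃ m' ∈ s, m • V1 B.dat = m' • V1 B.dat
    · obtain ⟨m', hm', e⟩ := hex
      refine ⟨w, hw, hwV, fun l hl x hx => ?_⟩
      rcases Finset.mem_insert.1 hl with rfl | hl
      · rw [B.rest_congr e]; exact hws m' hm' x hx
      · exact hws l hl x hx
    · push Not at hex
      obtain ⟨a, ha, haV, hax⟩ := B.exists_rest hm hwV
      refine ⟨w + a, add_mem hw (B.le_all hm ha), ?_, fun l hl x hx => ?_⟩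
      · rw [← sub_sub]; exact haV
      · rw [← sub_sub]
        rcases Finset.mem_insert.1 hl with rfl | hl
        · exact hax x hx
        · rw [br_sub]
          refine sub_mem (hws l hl x hx) ?_
          have hne : l • V1 B.dat ≠ m • V1 B.dat := fun e => hex l hl e.symm
          refine B.le_rest hm hne ?_
          rw [br_def]
          exact sub_mem (B.smul_V1_K hm (B.YM_le hx) ha) ha

/-- `V = all + C_V(YM)` -/
theorem gen_dec {v : U} (hv : v ∈ V) : ∃ a ∈ B.all, ∃ c ∈ V, (∀ x ∈ B.YM, x • c = c) ∧ v = a + c := by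
  classical
  have : Fintype H := Fintype.ofFinite H
  obtain ⟨w, hw, hwV, hws⟩ := B.exists_all (Finset.univ.filter fun m => m ∈ M)
    (fun m hm => (Finset.mem_filter.1 hm).2) hv
  refine ⟨w, hw, v - w, hwV, fun x hx => ?_, by abel⟩
  have h1 : br x (v - w) = 0 := B.all_sep' (B.br_YM hx hwV) fun m hm =>
    hws m (Finset.mem_filter.2 ⟨Finset.mem_univ m, hm⟩) x hx
  exact br_eq_zero.1 h1

/-- the sum of the blocks in the `S`-orbit of `m V₁` -/
def orbS (_B : Blk0 Y Q BB V F L C h M KV S) (m : H) : AddSubgroup U :=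
  AddSubgroup.closure {v | ∃ s ∈ S, v ∈ (s * m) • V1 _B.dat}

omit [Finite H] [Finite U] in
theorem orbS_le_all {m : H} (hm : m ∈ M) : B.orbS m ≤ B.all := (AddSubgroup.closure_le _).2 (by
  rintro v ⟨s, hs, hv⟩
  exact B.le_all (mul_mem (B.SM hs) hm) hv)

omit [Finite H] [Finite U] in
theorem smul_orbS {m s : H} (hs : s ∈ S) {v : U} (hv : v ∈ B.orbS m) : s • v ∈ B.orbS m := by
  induction hv using AddSubgroup.closure_induction with
  | mem v hv =>
    obtain ⟨t, ht, hv⟩ := hv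
    refine AddSubgroup.subset_closure ⟨s * t, mul_mem hs ht, ?_⟩
    rw [mul_assoc, mul_smul s (t * m)]
    exact AddSubgroup.smul_mem_pointwise_smul _ _ _ hv
  | zero => rw [smul_zero]; exact zero_mem _
  | add a b _ _ ha hb => rw [smul_add]; exact add_mem ha hb
  | neg a _ ha => rw [smul_neg]; exact neg_mem ha

/-- every block carries a component `≠ 0` of some fixed point `z` of `S` -/
theorem exists_comp {m : H} (hm : m ∈ M) : ∃ z ∈ B.orbS m, (∀ s ∈ S, s • z = z) ∧ z ∉ B.rest m := by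
  obtain ⟨z, hz, hz0, hzS⟩ := exists_fix B.S2 B.dat.two (A := B.orbS m) (fun s hs v hv => B.smul_orbS hs hv) (by
    intro h0
    obtain ⟨v, hv, -, hv0⟩ : ∃ v ∈ V1 B.dat, v ∈ F ∧ v ≠ 0 := by
      obtain ⟨s, hs, hs1, hsF⟩ := B.dat.ne
      have h1 : ∃ l ∈ L, br s l ≠ 0 := by
        by_contra h0
        push Not at h0
        exact hs1 (B.dat.eq_one hs h0)
      obtain ⟨l, hl, hne⟩ := h1
      exact ⟨br s l, br_mem_V1 B.dat (B.dat.AZ_le_AA ⟨hs, hsF⟩) l, hsF l, hne⟩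
    have h1 : m • v ∈ B.orbS m := AddSubgroup.subset_closure ⟨1, one_mem _, by
      rw [one_mul]; exact AddSubgroup.smul_mem_pointwise_smul _ _ _ hv⟩
    rw [h0, AddSubgroup.mem_bot] at h1
    exact hv0 (by rw [← inv_smul_smul m v, h1, smul_zero]))
  refine ⟨z, hz, hzS, fun h1 => hz0 (B.all_sep' (B.orbS_le_all hm hz) fun m' hm' => ?_)⟩
  by_cases hex : ∃ s ∈ S, (s * m) • V1 B.dat = m' • V1 B.dat
  · obtain ⟨s, hs, e⟩ := hex
    have h2 := B.smul_rest (B.SM hs) h1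
    rw [hzS s hs] at h2
    rwa [B.rest_congr e] at h2
  · push Not at hex
    have h2 : B.orbS m ≤ B.rest m' := (AddSubgroup.closure_le _).2 (by
      rintro v ⟨s, hs, hv⟩
      exact AddSubgroup.subset_closure ⟨s * m, mul_mem (B.SM hs) hm, fun e => hex s hs e.symm, hv⟩)
    exact h2 hz

omit [Finite U] in
theorem odd_T {m : H} (hm : m ∈ M) : ¬ 2 ∣ (S.map (MulAut.conj m⁻¹).toMonoidHom).relIndex Y := by
  refine sn_odd (K := KV) B.sn ?_
  have hn : (KV.subgroupOf M).Normal := ⟨fun n hn g => B.nK g g.2 n hn⟩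
  have h1 : ¬ 2 ∣ ((S.map (MulAut.conj m⁻¹).toMonoidHom).subgroupOf M).index := by
    have e : (S.map (MulAut.conj m⁻¹).toMonoidHom).relIndex (M.map (MulAut.conj m⁻¹).toMonoidHom) = S.relIndex M :=
      relIndex_map_map_of_injective _ _ (MulAut.conj m⁻¹).injective
    have e2 : M.map (MulAut.conj m⁻¹).toMonoidHom = M := by
      ext x
      constructor
      · rintro ⟨y, hy, rfl⟩
        exact mul_mem (mul_mem (inv_mem hm) hy) (inv_mem (inv_mem hm))
      · intro hx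
        refine ⟨m * x * m⁻¹, mul_mem (mul_mem hm hx) (inv_mem hm), ?_⟩
        change m⁻¹ * (m * x * m⁻¹) * m⁻¹⁻¹ = x
        group
    rw [e2] at e
    change ¬ 2 ∣ (S.map (MulAut.conj m⁻¹).toMonoidHom).relIndex M
    rw [e]
    exact B.syl
  have h2 := not_dvd_relIndex (N := KV.subgroupOf M) h1
  rwa [relIndex_subgroupOf B.KM] at h2

/-- the component in `m V₁` of a vector fixed by `s` is fixed by `s ∈ KV` -/
theorem comp_fix {m : H} (hm : m ∈ M) {z a b : U} (ha : a ∈ m • V1 B.dat)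
    (hb : b ∈ B.rest m) (e : z = a + b) {s : H} (hz : s • z = z) (hsK : s ∈ KV) : s • a = a := by
  have h1 : s • a ∈ m • V1 B.dat := B.smul_V1_K hm hsK ha
  have h2 : s • b ∈ B.rest m := B.rest_K hm hsK hb
  rw [e, smul_add] at hz
  have h4 : s • a - a = b - s • b := by
    rw [sub_eq_sub_iff_add_eq_add, hz, add_comm]
  have h5 : s • a - a ∈ m • V1 B.dat ⊓ B.rest m :=
    AddSubgroup.mem_inf.2 ⟨sub_mem h1 ha, by rw [h4]; exact sub_mem hb h2⟩
  rw [B.indep hm, AddSubgroup.mem_bot] at h5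
  exact sub_eq_zero.1 h5

/-- the action of the ring on two components in one block -/
theorem ann_comp {m : H} (hm : m ∈ M) {a a' : U} (ha : a ∈ m • V1 B.dat) (ha0 : a ≠ 0)
    (haS : ∀ s ∈ S, s ∈ B.YM → s • a = a) (ha' : a' ∈ m • V1 B.dat) (haS' : ∀ s ∈ S, s ∈ B.YM → s • a' = a')
    {c : AddMonoid.End U} (hc : c ∈ ring U KV) (h1 : c a = 0) : c a' = 0 := by
  have hcm : op U m⁻¹ * c * op U m⁻¹⁻¹ ∈ ring U KV :=
    Descent.conj_mem (fun x hx => B.nK _ (inv_mem hm) x hx) hc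
  have key : ∀ v : U, (op U m⁻¹ * c * op U m⁻¹⁻¹) (m⁻¹ • v) = m⁻¹ • c v := by
    intro v
    change m⁻¹ • c (m⁻¹⁻¹ • m⁻¹ • v) = _
    rw [inv_inv, smul_inv_smul]
  have hmem : ∀ v ∈ m • V1 B.dat, m⁻¹ • v ∈ V1 B.dat := fun v hv =>
    AddSubgroup.mem_pointwise_smul_iff_inv_smul_mem.1 hv
  have hfix : ∀ v : U, (∀ s ∈ S, s ∈ B.YM → s • v = v) →
      ∀ t ∈ S.map (MulAut.conj m⁻¹).toMonoidHom, t ∈ Y → t • m⁻¹ • v = m⁻¹ • v := by
    rintro v hv _ ⟨s, hs, rfl⟩ ht
    have hsK : s ∈ B.YM := by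
      have h2 := B.conj_mem_YM hm ht
      have e3 : m * (MulAut.conj m⁻¹).toMonoidHom s * m⁻¹ = s := by
        change m * (m⁻¹ * s * m⁻¹⁻¹) * m⁻¹ = s
        group
      rwa [e3] at h2
    change (m⁻¹ * s * m⁻¹⁻¹) • m⁻¹ • v = _
    rw [smul_smul, inv_inv, mul_assoc, mul_inv_cancel, mul_one, mul_smul, hv s hs hsK]
  have h2 : (op U m⁻¹ * c * op U m⁻¹⁻¹) (m⁻¹ • a') = 0 := by
    refine B.ann_one (T := S.map (MulAut.conj m⁻¹).toMonoidHom) (B.S2.map _) (B.odd_T hm)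
      (w := m⁻¹ • a) (hmem a ha) (hfix a haS) ?_ (hmem a' ha') (hfix a' haS') hcm ?_
    · intro h3
      exact ha0 (by rw [← smul_inv_smul m a, h3, smul_zero])
    · rw [key, h1, smul_zero]
  rw [key] at h2
  rw [← smul_inv_smul m (c a'), h2, smul_zero]

/-- **(hX)** -/
theorem hX {x : H} (hx : x ∈ B.YM) (hxS : ∀ z ∈ V, (∀ s ∈ S, s • z = z) → x • z = z) {v : U} (hv : v ∈ V)
    (hvS : ∀ s ∈ S, s ∈ B.YM → s • v = v) : x • v = v := by
  obtain ⟨a, ha, c, -, hcx, rfl⟩ := B.gen_dec hv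
  have haS : ∀ s ∈ S, s ∈ B.YM → s • a = a := by
    intro s hs hsY
    have h1 := hvS s hs hsY
    rw [smul_add, hcx s hsY] at h1
    exact add_right_cancel h1
  rw [smul_add, hcx x hx]
  congr 1
  rw [← sub_eq_zero]
  have hxK := B.YM_le hx
  refine B.all_sep' (sub_mem (B.all_M (B.KM hxK) ha) ha) fun m hm => ?_
  obtain ⟨a1, ha1, b1, hb1, e⟩ := B.mem_all ha m
  obtain ⟨z, hz, hzS, hzr⟩ := B.exists_comp hm
  obtain ⟨z1, hz1, z2, hz2, ez⟩ := B.mem_all (B.orbS_le_all hm hz) m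
  have hz10 : z1 ≠ 0 := by
    rintro rfl
    rw [zero_add] at ez
    exact hzr (ez ▸ hz2)
  have h1 : (op U x - 1) a1 = 0 := by
    refine B.ann_comp hm hz1 hz10 (fun s hs hsY => B.comp_fix hm hz1 hz2 ez (hzS s hs) (B.YM_le hsY)) ha1
      (fun s hs hsY => B.comp_fix hm ha1 hb1 e (haS s hs hsY) (B.YM_le hsY))
      (c := op U x - 1) (sub_mem (op_mem hxK) (one_mem' KV)) ?_
    change x • z1 - z1 = 0
    rw [sub_eq_zero]
    exact B.comp_fix hm hz1 hz2 ez (hxS z (B.all_le (B.orbS_le_all hm hz)) hzS) hxK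
  change x • a1 - a1 = 0 at h1
  rw [e]
  have e2 : x • (a1 + b1) - (a1 + b1) = (x • a1 - a1) + (x • b1 - b1) := by rw [smul_add]; abel
  rw [e2, h1, zero_add]
  exact sub_mem (B.rest_K hm hxK hb1) hb1

/-- `S ∩ YM` moves `V` -/
theorem moves : ∃ s ∈ S, s ∈ B.YM ∧ ∃ v ∈ V, s • v ≠ v := by
  by_contra hcon
  push Not at hcon
  obtain ⟨d, hd, v, hv, hdv⟩ := exists_Q B.dat
  let N : Subgroup Y :=
    { carrier := {k | ∀ v ∈ V, (k : H) • v = v}
      one_mem' := fun v _ => one_smul _ v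
      mul_mem' := fun {a b} ha hb v hv => by
        rw [Subgroup.coe_mul, mul_smul, hb v hv, ha v hv]
      inv_mem' := fun {a} ha v hv => by
        rw [Subgroup.coe_inv, inv_smul_eq_iff, ha v hv] }
  have hN : N.Normal := ⟨fun n hn g v hv => by
    rw [Subgroup.coe_mul, Subgroup.coe_mul, Subgroup.coe_inv, mul_smul, mul_smul,
      hn _ (B.dat.smul_V (inv_mem g.2) hv), smul_inv_smul]⟩
  have h1 : S.subgroupOf Y ≤ N := by
    intro k hk v hv
    have hkY : (k : H) ∈ B.YM := by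
      have := B.conj_mem_YM (one_mem M) k.2
      rwa [one_mul, inv_one, mul_one] at this
    exact hcon k (mem_subgroupOf.1 hk) hkY v hv
  have h2 : ¬ 2 ∣ N.index := by
    intro h0
    have h3 := B.odd_T (one_mem M)
    have e : S.map (MulAut.conj (1 : H)⁻¹).toMonoidHom = S := by
      ext x
      constructor
      · rintro ⟨y, hy, rfl⟩
        change (1 : H)⁻¹ * y * (1 : H)⁻¹⁻¹ ∈ S
        rwa [inv_one, inv_one, one_mul, mul_one]
      · intro hx
        refine ⟨x, hx, ?_⟩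
        change (1 : H)⁻¹ * x * (1 : H)⁻¹⁻¹ = x
        rw [inv_one, inv_one, one_mul, mul_one]
    rw [e] at h3
    exact h3 (h0.trans (index_dvd_of_le h1))
  have hdN : (⟨d, B.dat.QY hd⟩ : Y) ∈ N := by
    have h3 : ((⟨d, B.dat.QY hd⟩ : Y) : Y ⧸ N) ^ 2 = 1 := by
      have h4 : (⟨d, B.dat.QY hd⟩ : Y) ^ 2 = 1 := Subtype.ext (by
        rw [Subgroup.coe_pow, sq]
        exact B.dat.Q_sq hd)
      change ((((⟨d, B.dat.QY hd⟩ : Y) ^ 2 : Y)) : Y ⧸ N) = 1
      rw [h4]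
      rfl
    have h4 : Nat.Coprime 2 (Nat.card (Y ⧸ N)) := (Nat.prime_two.coprime_iff_not_dvd).2 h2
    have h5 : ((⟨d, B.dat.QY hd⟩ : Y) : Y ⧸ N) = 1 := by
      rw [← orderOf_eq_one_iff]
      have h6 := orderOf_dvd_of_pow_eq_one h3
      have h7 := orderOf_dvd_natCard ((⟨d, B.dat.QY hd⟩ : Y) : Y ⧸ N)
      exact Nat.eq_one_of_dvd_coprimes h4 h6 h7
    exact (QuotientGroup.eq_one_iff _).1 h5
  exact hdv (hdN v hv)

end Blk0

end Cfsg.Agent.Omega.NO3b.Exit.BlkZ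

end

section


/-!
# The blocks of `V` in LOC without (PR) (helper255, bb 20845), part 3: `P` is transitive on the blocks

`PF B O VP` : `B : Blk0 Y Q BB V F L C h M KV S`, `O = O²(P) ≤ M`, `VP = ⟨C_V(S)^O⟩`,

* (MIN) `N ≤ M`, normalised by `O` and `S`, contains `O` or `S ∩ N` centralises `VP`;
* (NE) `S ∩ YM` moves `VP`; (CZ) `C_V(S) ∩ C_V(O) = 0`.

Then `O_le` : `O ≤ YM`, `all_eq` : `V = Σ m V₁`, **`trans`** : `S` is transitive on the blocks, **`ann`** : `z ≠ 0`,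
`z' ∈ C_V(S)`: every element of the ring generated by `KV` which kills `z` kills `z'`.
-/

set_option autoImplicit false

open scoped Pointwise

namespace Cfsg.Agent.Omega.NO3b.Exit.BlkZ

open Subgroup Cfsg.Agent.Omega.NO3b.Exit Ten Descent
open Cfsg.Agent.Omega.NO3b.Exit.TBlk hiding Blk

universe u v

section grp

variable {Γ : Type u} [Group Γ] [Finite Γ]

theorem relIndex_sup_normal (S N : Subgroup Γ) [N.Normal] : S.relIndex (N ⊔ S) = S.relIndex N := by
  have h1 : S.relIndex N * N.relIndex (N ⊔ S) = (S ⊓ N).relIndex (N ⊔ S) := by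
    have := relIndex_inf_mul_relIndex S N (N ⊔ S)
    rwa [inf_eq_left.2 (le_sup_left : N ≤ N ⊔ S)] at this
  have h2 : N.relIndex S * S.relIndex (N ⊔ S) = (N ⊓ S).relIndex (N ⊔ S) := by
    have := relIndex_inf_mul_relIndex N S (N ⊔ S)
    rwa [inf_eq_left.2 (le_sup_right : S ≤ N ⊔ S)] at this
  rw [relIndex_sup_left] at h1
  rw [inf_comm, ← h1] at h2
  have h3 : N.relIndex S ≠ 0 := index_ne_zero_of_finite
  refine Nat.eq_of_mul_eq_mul_left (Nat.pos_of_ne_zero h3) ?_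
  rw [h2, mul_comm]

/-- a Sylow 2-subgroup of `K E`, `K`, `E` normal, is contained in `(S ∩ K) E` -/
theorem le_sup_of_syl {S K E : Subgroup Γ} [K.Normal] [E.Normal] (hS : IsPGroup 2 S) (ho : ¬ 2 ∣ S.index)
    (hKE : K ⊔ E = ⊤) : S ≤ (S ⊓ K) ⊔ E := by
  have hf : Fact (Nat.Prime 2) := ⟨Nat.prime_two⟩
  set L := (S ⊓ K) ⊔ E with hL
  have h1 : ¬ 2 ∣ L.index := by
    have e1 : K ⊔ L = ⊤ := by
      rw [eq_top_iff, ← hKE]
      exact sup_le le_sup_left (le_sup_right.trans le_sup_right)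
    have e2 : L.index = L.relIndex K := by
      rw [← relIndex_sup_normal L K, e1, relIndex_top_right]
    have e3 : L.relIndex K ∣ S.relIndex K := by
      rw [← inf_relIndex_right S K]
      exact relIndex_dvd_of_le_left K le_sup_left
    rw [e2]
    exact fun h => not_dvd_relIndex ho (h.trans e3)
  have hL2 : L ≤ S ⊔ E := sup_le (inf_le_left.trans le_sup_left) le_sup_right
  have h2 : L.relIndex (S ⊔ E) ∣ L.index := relIndex_dvd_index_of_le hL2
  have h3 : L.relIndex (S ⊔ E) ∣ E.relIndex S := by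
    have e1 := relIndex_mul_relIndex E L (S ⊔ E) le_sup_right hL2
    have e2 : E.relIndex (S ⊔ E) = E.relIndex S := relIndex_sup_right S E
    exact ⟨E.relIndex (S ⊓ K ⊔ E), by rw [← e2, ← e1, mul_comm]⟩
  have h4 : ∃ n, E.relIndex S = 2 ^ n := by
    obtain ⟨n, hn⟩ := IsPGroup.iff_card.1 hS
    obtain ⟨k, -, hk⟩ := (Nat.dvd_prime_pow Nat.prime_two).1 ((relIndex_dvd_card E S).trans hn.dvd)
    exact ⟨k, hk⟩
  obtain ⟨n, hn⟩ := h4
  rw [hn] at h3
  obtain ⟨k, -, hk⟩ := (Nat.dvd_prime_pow Nat.prime_two).1 h3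
  have h5 : L.relIndex (S ⊔ E) = 1 := by
    rcases Nat.eq_zero_or_pos k with h0 | h0
    · rw [hk, h0, pow_zero]
    · exfalso
      apply h1
      refine (dvd_trans ?_ h2)
      rw [hk]
      exact dvd_pow_self 2 h0.ne'
  exact le_sup_left.trans (relIndex_eq_one.1 h5)

end grp

namespace Blk0

variable {H : Type u} {U : Type v} [Group H] [Finite H] [AddCommGroup U] [DistribMulAction H U] [Finite U]
variable {Y Q BB : Subgroup H} {V F L C : AddSubgroup U} {h : H} {M KV S : Subgroup H}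
variable (B : Blk0 Y Q BB V F L C h M KV S)
include B

/-- the sum of the blocks outside the `S`-orbit of `m V₁` -/
def othS (_B : Blk0 Y Q BB V F L C h M KV S) (m : H) : AddSubgroup U :=
  AddSubgroup.closure {v | ∃ m' ∈ M, (∀ s ∈ S, (s * m) • V1 _B.dat ≠ m' • V1 _B.dat) ∧ v ∈ m' • V1 _B.dat}

omit [Finite H] [Finite U] in
theorem othS_le_all (m : H) : B.othS m ≤ B.all := (AddSubgroup.closure_le _).2 (by
  rintro v ⟨m', hm', -, hv⟩
  exact B.le_all hm' hv)

omit [Finite H] [Finite U] in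
theorem orbS_le_rest {m m' : H} (hm : m ∈ M) (hne : ∀ s ∈ S, (s * m) • V1 B.dat ≠ m' • V1 B.dat) :
    B.orbS m ≤ B.rest m' := (AddSubgroup.closure_le _).2 (by
  rintro v ⟨s, hs, hv⟩
  exact AddSubgroup.subset_closure ⟨s * m, mul_mem (B.SM hs) hm, fun e => hne s hs e.symm, hv⟩)

omit [Finite H] [Finite U] in
theorem othS_le_rest {m m' s : H} (hs : s ∈ S) (e : (s * m) • V1 B.dat = m' • V1 B.dat) :
    B.othS m ≤ B.rest m' := (AddSubgroup.closure_le _).2 (by
  rintro v ⟨m'', hm'', hne, hv⟩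
  exact AddSubgroup.subset_closure ⟨m'', hm'', fun e' => hne s hs (e.trans e'), hv⟩)

omit [Finite H] [Finite U] in
/-- blocks outside the orbit -/
theorem orbS_le_othS {m m' : H} (hm' : m' ∈ M) (hne : ∀ s ∈ S, (s * m) • V1 B.dat ≠ m' • V1 B.dat) :
    B.orbS m' ≤ B.othS m := (AddSubgroup.closure_le _).2 (by
  rintro v ⟨s, hs, hv⟩
  refine AddSubgroup.subset_closure ⟨s * m', mul_mem (B.SM hs) hm', fun t ht e => ?_, hv⟩
  refine hne (s⁻¹ * t) (mul_mem (inv_mem hs) ht) ?_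
  rw [mul_assoc, mul_smul, e, mul_smul s m', inv_smul_smul])

omit [Finite H] [Finite U] in
theorem smul_othS {m s : H} (hs : s ∈ S) {v : U} (hv : v ∈ B.othS m) : s • v ∈ B.othS m := by
  induction hv using AddSubgroup.closure_induction with
  | mem v hv =>
    obtain ⟨m', hm', hne, hv⟩ := hv
    refine AddSubgroup.subset_closure ⟨s * m', mul_mem (B.SM hs) hm', fun t ht e => ?_, ?_⟩
    · refine hne (s⁻¹ * t) (mul_mem (inv_mem hs) ht) ?_
      rw [mul_assoc, mul_smul, e, mul_smul s m', inv_smul_smul]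
    · rw [mul_smul]
      exact AddSubgroup.smul_mem_pointwise_smul _ _ _ hv
  | zero => rw [smul_zero]; exact zero_mem _
  | add a b _ _ ha hb => rw [smul_add]; exact add_mem ha hb
  | neg a _ ha => rw [smul_neg]; exact neg_mem ha

theorem othS_K {m x : H} (hx : x ∈ KV) {v : U} (hv : v ∈ B.othS m) : x • v ∈ B.othS m := by
  induction hv using AddSubgroup.closure_induction with
  | mem v hv =>
    obtain ⟨m', hm', hne, hv⟩ := hv
    exact AddSubgroup.subset_closure ⟨m', hm', hne, B.smul_V1_K hm' hx hv⟩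
  | zero => rw [smul_zero]; exact zero_mem _
  | add a b _ _ ha hb => rw [smul_add]; exact add_mem ha hb
  | neg a _ ha => rw [smul_neg]; exact neg_mem ha

theorem orbS_K {m x : H} (hm : m ∈ M) (hx : x ∈ KV) {v : U} (hv : v ∈ B.orbS m) : x • v ∈ B.orbS m := by
  induction hv using AddSubgroup.closure_induction with
  | mem v hv =>
    obtain ⟨s, hs, hv⟩ := hv
    exact AddSubgroup.subset_closure ⟨s, hs, B.smul_V1_K (mul_mem (B.SM hs) hm) hx hv⟩
  | zero => rw [smul_zero]; exact zero_mem _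
  | add a b _ _ ha hb => rw [smul_add]; exact add_mem ha hb
  | neg a _ ha => rw [smul_neg]; exact neg_mem ha

theorem orb_disj {m : H} (hm : m ∈ M) {v : U} (h1 : v ∈ B.orbS m) (h2 : v ∈ B.othS m) : v = 0 := by
  refine B.all_sep' (B.orbS_le_all hm h1) fun m' hm' => ?_
  by_cases hex : ∃ s ∈ S, (s * m) • V1 B.dat = m' • V1 B.dat
  · obtain ⟨s, hs, e⟩ := hex
    exact B.othS_le_rest hs e h2
  · push Not at hex
    exact B.orbS_le_rest hm hex h1

omit [Finite H] [Finite U] in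
theorem orb_add {v : U} (hv : v ∈ B.all) (m : H) : ∃ a ∈ B.orbS m, ∃ b ∈ B.othS m, v = a + b := by
  induction hv using AddSubgroup.closure_induction with
  | mem v hv =>
    obtain ⟨m', hm', hv⟩ := hv
    by_cases hex : ∃ s ∈ S, (s * m) • V1 B.dat = m' • V1 B.dat
    · obtain ⟨s, hs, e⟩ := hex
      exact ⟨v, AddSubgroup.subset_closure ⟨s, hs, e ▸ hv⟩, 0, zero_mem _, (add_zero v).symm⟩
    · push Not at hex
      exact ⟨0, zero_mem _, v, AddSubgroup.subset_closure ⟨m', hm', hex, hv⟩, (zero_add v).symm⟩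
  | zero => exact ⟨0, zero_mem _, 0, zero_mem _, (add_zero 0).symm⟩
  | add a b _ _ ha hb =>
    obtain ⟨a1, ha1, a2, ha2, rfl⟩ := ha
    obtain ⟨b1, hb1, b2, hb2, rfl⟩ := hb
    exact ⟨_, add_mem ha1 hb1, _, add_mem ha2 hb2, by abel⟩
  | neg a _ ha =>
    obtain ⟨a1, ha1, a2, ha2, rfl⟩ := ha
    exact ⟨_, neg_mem ha1, _, neg_mem ha2, by abel⟩

omit [Finite H] [Finite U] B in
/-- the elements of `R` trivial on `W` -/
def fixer (R : Subgroup H) (W : AddSubgroup U) : Subgroup H where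
  carrier := {x | x ∈ R ∧ ∀ w ∈ W, x • w = w}
  one_mem' := ⟨one_mem _, fun w _ => one_smul _ w⟩
  mul_mem' := fun {a b} ha hb => ⟨mul_mem ha.1 hb.1, fun w hw => by rw [mul_smul, hb.2 w hw, ha.2 w hw]⟩
  inv_mem' := fun {a} ha => ⟨inv_mem ha.1, fun w hw => by rw [inv_smul_eq_iff, ha.2 w hw]⟩

omit [Finite H] [Finite U] B in
theorem fixer_conj {R : Subgroup H} {W : AddSubgroup U} {g n : H} (hR : g * n * g⁻¹ ∈ R)
    (hW : ∀ w ∈ W, g⁻¹ • w ∈ W) (hn : n ∈ fixer R W) : g * n * g⁻¹ ∈ fixer R W :=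
  ⟨hR, fun w hw => by rw [mul_smul, mul_smul, hn.2 _ (hW w hw), smul_inv_smul]⟩

/-- On an `S`-orbit of blocks the elements of `S ∩ YM` act as elements of `S` trivial on the other blocks. -/
theorem exists_K {m : H} (hm : m ∈ M) {s : H} (hs : s ∈ S) (hsY : s ∈ B.YM) :
    ∃ k ∈ S, k ∈ fixer B.YM (B.othS m) ∧ ∀ v ∈ B.orbS m, s • v = k • v := by
  let K : Subgroup B.YM := (fixer B.YM (B.othS m)).subgroupOf B.YM
  let E : Subgroup B.YM := (fixer B.YM (B.orbS m)).subgroupOf B.YM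
  have hK : K.Normal := ⟨fun n hn g => by
    rw [mem_subgroupOf] at hn ⊢
    exact fixer_conj (B.YM_conj (B.KM (B.YM_le g.2)) n.2) (fun w hw => B.othS_K (inv_mem (B.YM_le g.2)) hw) hn⟩
  have hE : E.Normal := ⟨fun n hn g => by
    rw [mem_subgroupOf] at hn ⊢
    exact fixer_conj (B.YM_conj (B.KM (B.YM_le g.2)) n.2) (fun w hw => B.orbS_K hm (inv_mem (B.YM_le g.2)) hw) hn⟩
  have hYMn : (B.YM.subgroupOf M).Normal := ⟨fun n hn g => by
    rw [mem_subgroupOf] at hn ⊢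
    exact B.YM_conj g.2 hn⟩
  have hodd : ¬ 2 ∣ (S.subgroupOf B.YM).index := by
    have h1 := not_dvd_relIndex (M := M) (S := S.subgroupOf M) (N := B.YM.subgroupOf M) B.syl
    rwa [relIndex_subgroupOf (B.YM_le.trans B.KM)] at h1
  have hKE : K ⊔ E = ⊤ := by
    rw [eq_top_iff]
    rintro ⟨x, hx⟩ -
    have key : ∀ x (hx : x ∈ B.YM), ∃ a ∈ K, ∃ b ∈ E, a * b = ⟨x, hx⟩ := by
      intro x hx
      induction hx using closure_induction with
      | mem x hx =>
        obtain ⟨m', hm', k, hk, rfl⟩ := hx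
        by_cases hex : ∃ s ∈ S, (s * m) • V1 B.dat = m' • V1 B.dat
        · obtain ⟨s, hs, e⟩ := hex
          refine ⟨⟨_, B.conj_mem_YM hm' hk⟩, ?_, 1, one_mem _, mul_one _⟩
          exact ⟨B.conj_mem_YM hm' hk, fun w hw => B.cent_rest hm' hk (B.othS_le_rest hs e hw)⟩
        · push Not at hex
          refine ⟨1, one_mem _, ⟨_, B.conj_mem_YM hm' hk⟩, ?_, one_mul _⟩
          exact ⟨B.conj_mem_YM hm' hk, fun w hw => B.cent_rest hm' hk (B.orbS_le_rest hm hex hw)⟩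
      | one => exact ⟨1, one_mem _, 1, one_mem _, mul_one _⟩
      | mul x y hx hy ihx ihy =>
        obtain ⟨a, ha, b, hb, e⟩ := ihx
        obtain ⟨a', ha', b', hb', e'⟩ := ihy
        refine ⟨a * (b * a' * b⁻¹), mul_mem ha (hK.conj_mem a' ha' b), b * b', mul_mem hb hb', ?_⟩
        have e2 : (⟨x * y, mul_mem hx hy⟩ : B.YM) = ⟨x, hx⟩ * ⟨y, hy⟩ := rfl
        rw [e2, ← e, ← e']
        group
      | inv x hx ih =>
        obtain ⟨a, ha, b, hb, e⟩ := ih
        refine ⟨b⁻¹ * a⁻¹ * b, ?_, b⁻¹, inv_mem hb, ?_⟩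
        · have h1 := hK.conj_mem a⁻¹ (inv_mem ha) b⁻¹
          rwa [inv_inv] at h1
        · have e2 : (⟨x⁻¹, inv_mem hx⟩ : B.YM) = (⟨x, hx⟩ : B.YM)⁻¹ := rfl
          rw [e2, ← e]
          group
    obtain ⟨a, ha, b, hb, e⟩ := key x hx
    rw [← e]
    exact mul_mem_sup ha hb
  have h1 := le_sup_of_syl (S := S.subgroupOf B.YM) (B.S2.comap_of_injective _ (subtype_injective _)) hodd hKE
    (show (⟨s, hsY⟩ : B.YM) ∈ S.subgroupOf B.YM from hs)
  obtain ⟨k, hk, e, he, h2⟩ := mem_sup_of_normal_right.1 h1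
  refine ⟨k, hk.1, hk.2, fun v hv => ?_⟩
  have h3 : (k : H) * (e : H) = s := congrArg Subtype.val h2
  have h4 : (e : H) • v = v := he.2 v hv
  rw [← h3, mul_smul, h4]

end Blk0

/-- The part of `P`. -/
structure PF {H : Type u} {U : Type v} [Group H] [AddCommGroup U] [DistribMulAction H U]
    {Y Q BB : Subgroup H} {V F L C : AddSubgroup U} {h : H} {M KV S : Subgroup H}
    (B : Blk0 Y Q BB V F L C h M KV S) (O : Subgroup H) (VP : AddSubgroup U) : Prop where
  OM : O ≤ M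
  gen : ∀ W : AddSubgroup U, (∀ o ∈ O, ∀ w ∈ W, o • w ∈ W) → (∀ v ∈ V, (∀ s ∈ S, s • v = v) → v ∈ W) → VP ≤ W
  fix : ∀ z ∈ V, (∀ s ∈ S, s • z = z) → z ∈ VP
  VO : ∀ o ∈ O, ∀ v ∈ VP, o • v ∈ VP
  min : ∀ N ≤ M, (∀ o ∈ O, ∀ n ∈ N, o * n * o⁻¹ ∈ N) → (∀ s ∈ S, ∀ n ∈ N, s * n * s⁻¹ ∈ N) →
    O ≤ N ∨ ∀ s ∈ S, s ∈ N → ∀ v ∈ VP, s • v = v
  ne : ∃ s ∈ S, s ∈ B.YM ∧ ∃ v ∈ VP, s • v ≠ v
  cz : ∀ z ∈ V, (∀ s ∈ S, s • z = z) → (∀ o ∈ O, o • z = z) → z = 0

namespace PF

variable {H : Type u} {U : Type v} [Group H] [AddCommGroup U] [DistribMulAction H U]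
variable {Y Q BB : Subgroup H} {V F L C : AddSubgroup U} {h : H} {M KV S O : Subgroup H} {VP : AddSubgroup U}
variable {B : Blk0 Y Q BB V F L C h M KV S} (P : PF B O VP)
include P

theorem O_le : O ≤ B.YM := by
  refine (P.min B.YM (B.YM_le.trans B.KM) (fun o ho n hn => B.YM_conj (P.OM ho) hn)
    fun s hs n hn => B.YM_conj (B.SM hs) hn).resolve_right fun h1 => ?_
  obtain ⟨s, hs, hsY, v, hv, hne⟩ := P.ne
  exact hne (h1 s hs hsY v hv)

variable [Finite H] [Finite U]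

theorem le_sum : V ≤ B.all := by
  intro v hv
  obtain ⟨a, ha, c, hc, hcY, rfl⟩ := B.gen_dec hv
  let W : AddSubgroup U :=
    { carrier := {c | c ∈ V ∧ ∀ x ∈ B.YM, x • c = c}
      zero_mem' := ⟨zero_mem _, fun x _ => smul_zero x⟩
      add_mem' := fun ha hb => ⟨add_mem ha.1 hb.1, fun x hx => by rw [smul_add, ha.2 x hx, hb.2 x hx]⟩
      neg_mem' := fun ha => ⟨neg_mem ha.1, fun x hx => by rw [smul_neg, ha.2 x hx]⟩ }
  have hW : W = ⊥ := by
    by_contra hne
    obtain ⟨z, hz, hz0, hzS⟩ := exists_fix B.S2 B.dat.two (A := W) (fun s hs w hw =>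
      ⟨B.mV s (B.SM hs) w hw.1, fun x hx => by
        have h1 : s⁻¹ * x * s ∈ B.YM := by
          have := B.YM_conj (inv_mem (B.SM hs)) hx
          rwa [inv_inv] at this
        have h2 := hw.2 _ h1
        rwa [mul_smul, mul_smul, inv_smul_eq_iff] at h2⟩) hne
    exact hz0 (P.cz z hz.1 hzS fun o ho => hz.2 o (P.O_le ho))
  have hc0 : c ∈ W := ⟨hc, hcY⟩
  rw [hW, AddSubgroup.mem_bot] at hc0
  rw [hc0, add_zero]
  exact ha

theorem all_eq : B.all = V := le_antisymm B.all_le P.le_sum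

/-- `V = m V₁ + rest`. -/
theorem exists_add (m : H) {v : U} (hv : v ∈ V) :
    ∃ a ∈ m • V1 B.dat, ∃ b ∈ B.rest m, v = a + b := B.mem_all (P.le_sum hv) m

/-- an element of `V` without components is zero -/
theorem inf_rest {v : U} (hvV : v ∈ V) (hv : ∀ m ∈ M, v ∈ B.rest m) : v = 0 := B.all_sep' (P.le_sum hvV) hv

/-- `VP = (VP ∩ orbit) + (other blocks)` -/
theorem VP_dec {m : H} (hm : m ∈ M) {v : U} (hv : v ∈ VP) : ∃ a ∈ VP, a ∈ B.orbS m ∧ ∃ b ∈ B.othS m, v = a + b := by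
  let W : AddSubgroup U :=
    { carrier := {v | ∃ a ∈ VP, a ∈ B.orbS m ∧ ∃ b ∈ B.othS m, v = a + b}
      zero_mem' := ⟨0, zero_mem _, zero_mem _, 0, zero_mem _, (add_zero 0).symm⟩
      add_mem' := by
        rintro _ _ ⟨a, ha, ha', b, hb, rfl⟩ ⟨c, hc, hc', d, hd, rfl⟩
        exact ⟨a + c, add_mem ha hc, add_mem ha' hc', b + d, add_mem hb hd, by abel⟩
      neg_mem' := by
        rintro _ ⟨a, ha, ha', b, hb, rfl⟩
        exact ⟨-a, neg_mem ha, neg_mem ha', -b, neg_mem hb, by abel⟩ }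
  have h1 : VP ≤ W := by
    refine P.gen W ?_ ?_
    · rintro o ho _ ⟨a, ha, ha', b, hb, rfl⟩
      have hoK := B.YM_le (P.O_le ho)
      exact ⟨o • a, P.VO o ho a ha, B.orbS_K hm hoK ha', o • b, B.othS_K hoK hb, smul_add _ _ _⟩
    · intro z hz hzS
      obtain ⟨a, ha, b, hb, rfl⟩ := B.orb_add (P.le_sum hz) m
      have haS : ∀ s ∈ S, s • a = a := by
        intro s hs
        have h3 := hzS s hs
        rw [smul_add] at h3
        have h4 : s • a - a = b - s • b := by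
          rw [sub_eq_sub_iff_add_eq_add, h3, add_comm]
        rw [← sub_eq_zero]
        refine B.orb_disj hm (sub_mem (B.smul_orbS hs ha) ha) ?_
        rw [h4]
        exact sub_mem hb (B.smul_othS hs hb)
      exact ⟨a, P.fix a (B.all_le (B.orbS_le_all hm ha)) haS, ha, b, hb, rfl⟩
  exact h1 hv

/-- **`S` is transitive on the blocks.** -/
theorem trans {m m' : H} (hm : m ∈ M) (hm' : m' ∈ M) : ∃ s ∈ S, (s * m) • V1 B.dat = m' • V1 B.dat := by
  -- some orbit with `O ≤ K`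
  have hex : ∃ m0 ∈ M, O ≤ Blk0.fixer B.YM (B.othS m0) := by
    by_contra hcon
    push Not at hcon
    obtain ⟨s, hs, hsY, v, hv, hne⟩ := P.ne
    apply hne
    rw [← sub_eq_zero]
    have hvV : v ∈ V := by
      have h1 : VP ≤ V := P.gen V (fun o ho w hw => B.mV o (P.OM ho) w hw) fun v hv _ => hv
      exact h1 hv
    refine P.inf_rest (sub_mem (B.mV s (B.SM hs) v hvV) hvV) fun m1 hm1 => ?_
    obtain ⟨a, ha, ha', b, hb, e⟩ := P.VP_dec hm1 hv
    obtain ⟨k, hkS, hk, hks⟩ := B.exists_K hm1 hs hsY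
    have h1 := (P.min (Blk0.fixer B.YM (B.othS m1)) (fun x hx => B.KM (B.YM_le hx.1))
      (fun o ho n hn => Blk0.fixer_conj (B.YM_conj (P.OM ho) hn.1)
        (fun w hw => B.othS_K (inv_mem (B.YM_le (P.O_le ho))) hw) hn)
      (fun t ht n hn => Blk0.fixer_conj (B.YM_conj (B.SM ht) hn.1)
        (fun w hw => B.smul_othS (inv_mem ht) hw) hn)).resolve_left (hcon m1 hm1)
    have h2 : s • a = a := by rw [hks a ha', h1 k hkS hk a ha]
    rw [e]
    have e2 : s • (a + b) - (a + b) = (s • a - a) + (s • b - b) := by rw [smul_add]; abel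
    rw [e2, h2, sub_self, zero_add]
    have h3 : s • b - b ∈ B.othS m1 := sub_mem (B.smul_othS hs hb) hb
    exact B.othS_le_rest (one_mem S) (by rw [one_mul]) h3
  obtain ⟨m0, hm0, hO⟩ := hex
  have key : ∀ m1 ∈ M, ∃ s ∈ S, (s * m0) • V1 B.dat = m1 • V1 B.dat := by
    intro m1 hm1
    by_contra hcon
    push Not at hcon
    obtain ⟨z, hz, hzS, hzr⟩ := B.exists_comp hm1
    apply hzr
    rw [P.cz z (B.all_le (B.orbS_le_all hm1 hz)) hzS fun o ho => (hO ho).2 z (B.orbS_le_othS hm1 hcon hz)]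
    exact zero_mem _
  obtain ⟨s, hs, e⟩ := key m hm
  obtain ⟨s', hs', e'⟩ := key m' hm'
  refine ⟨s' * s⁻¹, mul_mem hs' (inv_mem hs), ?_⟩
  rw [← e', mul_smul, ← e, ← mul_smul, mul_assoc, inv_mul_cancel_left]

/-- the component of a fixed point is nonzero -/
theorem comp_ne {z : U} (hz0 : z ≠ 0) (hzV : z ∈ V) (hz : ∀ s ∈ S, s • z = z) {m : H} (hm : m ∈ M) :
    z ∉ B.rest m := by
  intro h1
  refine hz0 (P.inf_rest hzV fun m' hm' => ?_)
  obtain ⟨s, hs, e⟩ := P.trans hm hm'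
  have h2 := B.smul_rest (B.SM hs) h1
  rw [hz s hs] at h2
  rwa [B.rest_congr e] at h2

/-- **(ANN)** -/
theorem ann {z z' : U} (hzV : z ∈ V) (hz0 : z ≠ 0) (hz : ∀ s ∈ S, s • z = z) (hzV' : z' ∈ V)
    (hz' : ∀ s ∈ S, s • z' = z') {c : AddMonoid.End U} (hc : c ∈ ring U KV) (h0 : c z = 0) : c z' = 0 := by
  have hcV : c z' ∈ V := apply_mem (X := KV) (fun k hk v hv => B.mV k (B.KM hk) v hv) hzV' hc
  refine P.inf_rest hcV fun m hm => ?_
  obtain ⟨a, ha, b, hb, e⟩ := P.exists_add m hzV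
  obtain ⟨a', ha', b', hb', e'⟩ := P.exists_add m hzV'
  have hca : c a ∈ m • V1 B.dat := apply_mem (fun x hx v hv => B.smul_V1_K hm hx hv) ha hc
  have hcb : c b ∈ B.rest m := apply_mem (fun x hx v hv => B.rest_K hm hx hv) hb hc
  have hcb' : c b' ∈ B.rest m := apply_mem (fun x hx v hv => B.rest_K hm hx hv) hb' hc
  have h1 : c a = 0 := by
    rw [e, map_add] at h0
    have h2 : c a ∈ m • V1 B.dat ⊓ B.rest m := by
      refine AddSubgroup.mem_inf.2 ⟨hca, ?_⟩
      rw [eq_neg_of_add_eq_zero_left h0]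
      exact neg_mem hcb
    rwa [B.indep hm, AddSubgroup.mem_bot] at h2
  have ha0 : a ≠ 0 := by
    intro h2
    apply P.comp_ne hz0 hzV hz hm
    rw [e, h2, zero_add]
    exact hb
  have h3 : c a' = 0 := B.ann_comp hm ha ha0 (fun s hs hsY => B.comp_fix hm ha hb e (hz s hs) (B.YM_le hsY)) ha'
    (fun s hs hsY => B.comp_fix hm ha' hb' e' (hz' s hs) (B.YM_le hsY)) hc h1
  rw [e', map_add, h3, zero_add]
  exact hcb'

end PF

end Cfsg.Agent.Omega.NO3b.Exit.BlkZ

end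

section


/-!
# (C)(2) of GammaFF, part 2: `dim Y_i ≥ 2` (helper194, #20969 (f4))

`V = ⊕ N_i ⊗_K Y_i` (`BlkTr.lean`).

* `relIndex_le` : if `E = Hom_Y(A, U)` has dimension `≤ 1`, then `|V / F| ≤ |A₀|`;
* `Blk0.relIndex_le` : if `V = ⟨z^{YM}⟩` for one `z ∈ C_V(S)`, then `|V / F| ≤ |A₀|`.
-/

set_option autoImplicit false

open scoped Pointwise

namespace Cfsg.Agent.Omega.NO3b.CTwoFF

open Subgroup Cfsg.Agent.Omega.NO3b.Exit Ten Descent
open Cfsg.Agent.Omega.NO3b.Exit.BlkZ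
open Cfsg.Agent.Omega.NO3b.Exit.TBlk hiding Blk

universe u v w

section mdl

variable {Y : Type u} {A : Type v} {U : Type w} [Group Y] [AddCommGroup A] [DistribMulAction Y A]
  [AddCommGroup U] [DistribMulAction Y U] {V F C : AddSubgroup U} {A₀ : AddSubgroup A} {Q : Subgroup Y}
  {β : A →+ U →+ U} [Finite A] [IsIrr Y A]

/-- `dim E ≤ 1` implies `|V / F| ≤ |A₀|` -/
theorem relIndex_le (D : Mdl V F C A₀ Q β) {f : HomY Y A U} (hf : ∀ g : HomY Y A U, ∃ κ : KK Y A, g = κ • f) :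
    F.relIndex V ≤ Nat.card A₀ := by
  obtain ⟨a, ha⟩ := D.nt
  obtain ⟨s, hs, hs0⟩ := D.ne
  let θ : KK Y A → V ⧸ F.addSubgroupOf V :=
    fun κ => QuotientAddGroup.mk (⟨(f : A →+ U) (κ • a), D.val_mem f _⟩ : V)
  have hθ : Function.Surjective θ := by
    intro q
    obtain ⟨⟨v, hv⟩, rfl⟩ := QuotientAddGroup.mk_surjective q
    obtain ⟨g, hg⟩ := D.val_surj ha hv
    obtain ⟨κ, rfl⟩ := hf g
    refine ⟨κ, ?_⟩
    refine QuotientAddGroup.eq.2 ?_
    rw [AddSubgroup.mem_addSubgroupOf]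
    rw [HomY.smul_apply] at hg
    change -(f : A →+ U) (κ • a) + v ∈ F
    rwa [neg_add_eq_sub]
  have h1 : Nat.card (V ⧸ F.addSubgroupOf V) ≤ Nat.card (KK Y A) := Nat.card_le_card_of_surjective θ hθ
  have h2 : Nat.card (KK Y A) ≤ Nat.card A₀ := by
    refine Nat.card_le_card_of_injective (fun κ => (⟨κ • s, D.smul_mem κ hs⟩ : A₀)) fun κ κ' h => ?_
    have h3 : κ • s = κ' • s := congrArg Subtype.val h
    by_contra hne
    apply hs0
    have h4 : κ - κ' ≠ 0 := sub_ne_zero.2 hne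
    have h5 : (κ - κ') • s = 0 := by rw [sub_smul, h3, sub_self]
    rw [← one_smul (KK Y A) s, ← inv_mul_cancel₀ h4, mul_smul, h5, smul_zero]
  exact h1.trans h2

end mdl

section blk

variable {H : Type u} {U : Type v} [Group H] [Finite H] [AddCommGroup U] [DistribMulAction H U] [Finite U]
variable {Y Q BB : Subgroup H} {V F L C : AddSubgroup U} {h : H} {M KV S : Subgroup H}

omit [Finite U] in
/-- `S` has odd index over `Y`. -/
theorem odd_Y (B : Blk0 Y Q BB V F L C h M KV S) : ¬ 2 ∣ S.relIndex Y := by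
  have h1 := B.odd_T (m := 1) (one_mem _)
  have e : S.map (MulAut.conj (1 : H)⁻¹).toMonoidHom = S := by
    rw [inv_one, map_one]
    exact Subgroup.map_id S
  rwa [e] at h1

/-- If `V = ⟨z^{YM}⟩`, `z ∈ C_V(S)`, then every element of `Hom_Y(A, U)` is a multiple of one of them. -/
theorem exists_one (B : Blk0 Y Q BB V F L C h M KV S) (hall : V ≤ B.all) {z : U} (hzV : z ∈ V)
    (hz : ∀ s ∈ S, s • z = z)
    (hgen : ∀ W : AddSubgroup U, (∀ y ∈ B.YM, ∀ w ∈ W, y • w ∈ W) → z ∈ W → V ≤ W) :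
    ∃ f : HomY Y (AM B.dat) U, ∀ g : HomY Y (AM B.dat) U, ∃ κ : KK Y (AM B.dat), g = κ • f := by
  have h1V : (1 : H) • V1 B.dat = V1 B.dat := one_smul _ _
  obtain ⟨a, ha, b, hb, e⟩ := B.mem_all (hall hzV) 1
  have haS : ∀ s ∈ S, s ∈ B.YM → s • a = a := fun s hs hsY => B.comp_fix (one_mem _) ha hb e (hz s hs) (B.YM_le hsY)
  have hYM : ∀ y ∈ Y, y ∈ B.YM := fun y hy => by
    have := B.conj_mem_YM (one_mem M) hy
    rwa [one_mul, inv_one, mul_one] at this
  have hT' : ¬ 2 ∣ (S.subgroupOf Y).index := odd_Y B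
  have hT2' : IsPGroup 2 (S.subgroupOf Y) := B.S2.comap_of_injective _ (subtype_injective Y)
  obtain ⟨n, -, hn0, hn⟩ := exists_fix (V := AM B.dat) (H := Y) hT2' B.dat.AM_two (A := ⊤)
    (fun _ _ _ _ => trivial) (by
      intro h
      obtain ⟨a, ha⟩ := (B.dat.isIrr).ne
      have : a ∈ (⊤ : AddSubgroup (AM B.dat)) := trivial
      rw [h] at this
      exact ha this)
  have ha1 : a ∈ V1 B.dat := by rwa [h1V] at ha
  obtain ⟨f, hf⟩ := exists_of_fix (allTv B.dat) B.dat.AM_two hT' hn0 hn (V1_le_img B.dat ha1)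
    (fun t ht => haS t (mem_subgroupOf.1 ht) (hYM t t.2))
  -- `f(A) + rest` is invariant
  have hV : V ≤ (f : AM B.dat →+ U).range ⊔ B.rest 1 := by
    refine hgen _ ?_ ?_
    · intro y hy w hw
      obtain ⟨p, hp, r, hr, rfl⟩ := AddSubgroup.mem_sup.1 hw
      obtain ⟨x, rfl⟩ := hp
      rw [smul_add]
      refine AddSubgroup.add_mem _ (AddSubgroup.mem_sup_left ?_)
        (AddSubgroup.mem_sup_right (B.rest_K (one_mem _) (B.YM_le hy) hr))
      obtain ⟨c', hc'⟩ := B.exists_ringK (op_mem (V := U) (B.YM_le hy))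
      exact ⟨c' x, (hc' f x).symm⟩
    · rw [e]
      refine AddSubgroup.add_mem _ (AddSubgroup.mem_sup_left ?_) (AddSubgroup.mem_sup_right hb)
      exact ⟨n, hf.symm⟩
  refine ⟨f, fun g => ?_⟩
  obtain ⟨x, hx⟩ := (B.dat.isIrr).ne
  have hgV : (g : AM B.dat →+ U) x ∈ V1 B.dat := by
    obtain ⟨u, rfl⟩ := B.dat.mdl.psi_surj g
    rw [Mdl.psi_apply, B.dat.bt_apply]
    exact br_mem_V1 B.dat x.val_mem u
  obtain ⟨p, ⟨y, rfl⟩, r, hr, hsum⟩ := AddSubgroup.mem_sup.1 (hV (V1_le B.dat hgV))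
  have hfV : (f : AM B.dat →+ U) y ∈ V1 B.dat := by
    obtain ⟨u, rfl⟩ := B.dat.mdl.psi_surj f
    rw [Mdl.psi_apply, B.dat.bt_apply]
    exact br_mem_V1 B.dat y.val_mem u
  have hr0 : r = 0 := by
    have h2 : r ∈ (1 : H) • V1 B.dat ⊓ B.rest 1 := by
      refine AddSubgroup.mem_inf.2 ⟨?_, hr⟩
      rw [h1V]
      have e2 : r = (g : AM B.dat →+ U) x - (f : AM B.dat →+ U) y := by rw [← hsum]; abel
      rw [e2]
      exact sub_mem hgV hfV
    rwa [B.indep (one_mem _), AddSubgroup.mem_bot] at h2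
  rw [hr0, add_zero] at hsum
  exact HomY.fact hsum.symm hx

theorem card_AZM (D : Dat Y Q BB V F L C h) : Nat.card D.AZM = Nat.card D.AZ := by
  refine Nat.card_congr ⟨fun a => ⟨a.1.val, a.2⟩, fun x => ⟨AM.mk x.1 (D.AZ_le_AA x.2), x.2⟩, fun a => ?_, fun x => ?_⟩
  · exact Subtype.ext (AM.ext rfl)
  · rfl

/-- **`V = ⟨z^{YM}⟩` implies `|V / F| ≤ |A₀|`.** -/
theorem relIndex_le_AZ (B : Blk0 Y Q BB V F L C h M KV S) (hall : V ≤ B.all) {z : U} (hzV : z ∈ V)
    (hz : ∀ s ∈ S, s • z = z)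
    (hgen : ∀ W : AddSubgroup U, (∀ y ∈ B.YM, ∀ w ∈ W, y • w ∈ W) → z ∈ W → V ≤ W) :
    F.relIndex V ≤ Nat.card B.dat.AZ := by
  obtain ⟨f, hf⟩ := exists_one B hall hzV hz hgen
  rw [← card_AZM]
  exact relIndex_le B.dat.mdl hf

end blk

end Cfsg.Agent.Omega.NO3b.CTwoFF

end

section


/-!
# The blocks of `V` in LOC without (PR) (helper255, bb 20845), part 4: if `V_P = ⟨z^{O²(P)}⟩`, then `V_P` is FF

* `exists_T` : a Sylow 2-subgroup `T` of `Y` which fixes `n` induces all transvections with centre `n`;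
* `PF.exists_move` : some component of some `v ∈ V_P` is moved by `S ∩ m Y m⁻¹`;
* **`PF.exists_ff`** : if every `v ∈ V_P` is `c z` with `c` in the ring generated by `O²(P)`, then there is an
  offender `Θ ≤ S` on `V_P`.
-/

set_option autoImplicit false

open scoped Pointwise

namespace Cfsg.Agent.Omega.NO3b.Exit.BlkZ

open Subgroup Cfsg.Agent.Omega.NO3b.Exit Ten Descent
open Cfsg.Agent.Omega.NO3b.Exit.TBlk hiding Blk

universe u v

/-- a 2-subgroup normalised by a subgroup `T` of odd index which is a 2-group is contained in `T` -/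
theorem le_of_syl {Γ : Type u} [Group Γ] [Finite Γ] {T N : Subgroup Γ} (hT : IsPGroup 2 T) (ho : ¬ 2 ∣ T.index)
    (hN : IsPGroup 2 N) (hTN : T ≤ normalizer (N : Set Γ)) : N ≤ T := by
  have hf : Fact (Nat.Prime 2) := ⟨Nat.prime_two⟩
  have h1 : IsPGroup 2 (T ⊔ N : Subgroup Γ) := IsPGroup.to_sup_of_normal_right' hT hN hTN
  obtain ⟨n, hn⟩ := IsPGroup.iff_card.1 h1
  obtain ⟨k, -, hk⟩ := (Nat.dvd_prime_pow Nat.prime_two).1 ((relIndex_dvd_card T (T ⊔ N)).trans hn.dvd)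
  have h2 : T.relIndex (T ⊔ N) ∣ T.index := relIndex_dvd_index_of_le le_sup_left
  have h3 : T.relIndex (T ⊔ N) = 1 := by
    rcases Nat.eq_zero_or_pos k with h0 | h0
    · rw [hk, h0, pow_zero]
    · exfalso
      apply ho
      refine (dvd_trans ?_ h2)
      rw [hk]
      exact dvd_pow_self 2 h0.ne'
  exact le_sup_right.trans (relIndex_eq_one.1 h3)

section one

/-- the transvections with centre `n` -/
def tvc (Y : Type u) {A : Type v} [Group Y] [AddCommGroup A] [DistribMulAction Y A] [Finite A]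
    [hI : IsIrr Y A] (n : A) : Subgroup Y where
  carrier := {y | ∃ φ : Module.Dual (KK Y A) A, φ n = 0 ∧ ∀ x : A, y • x = x + φ x • n}
  one_mem' := ⟨0, rfl, fun x => by rw [one_smul, LinearMap.zero_apply, zero_smul, add_zero]⟩
  mul_mem' := by
    rintro a b ⟨φ, hφ, ha⟩ ⟨ψ, hψ, hb⟩
    refine ⟨φ + ψ, by rw [LinearMap.add_apply, hφ, hψ, add_zero], fun x => ?_⟩
    rw [mul_smul, hb, ha, map_add, map_smul, hφ, smul_zero, add_zero, LinearMap.add_apply, add_smul]
    abel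
  inv_mem' := by
    rintro a ⟨φ, hφ, ha⟩
    refine ⟨-φ, by rw [LinearMap.neg_apply, hφ, neg_zero], fun x => ?_⟩
    rw [inv_smul_eq_iff, ha, map_add, map_smul, hφ, smul_zero, add_zero, LinearMap.neg_apply, neg_smul]
    abel

variable {Y : Type u} {A : Type v} [Group Y] [Finite Y] [AddCommGroup A] [DistribMulAction Y A] [Finite A]
  [hI : IsIrr Y A]

/-- a Sylow 2-subgroup `T` of `Y` which fixes `n` induces all transvections with centre `n` -/
theorem exists_T (htv : AllTv Y A) (two : ∀ a : A, a + a = 0) {T : Subgroup Y} (hT2 : IsPGroup 2 T)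
    (hT : ¬ 2 ∣ T.index) {n : A} (hn : ∀ t ∈ T, t • n = n) {φ : Module.Dual (KK Y A) A} (hφ : φ n = 0) :
    ∃ t ∈ T, ∀ x : A, t • x = x + φ x • n := by
  have hf : Fact (Nat.Prime 2) := ⟨Nat.prime_two⟩
  let C0 : Subgroup Y :=
    { carrier := {y | ∀ x : A, y • x = x}
      one_mem' := fun x => one_smul _ x
      mul_mem' := fun {a b} ha hb x => by rw [mul_smul, hb x, ha x]
      inv_mem' := fun {a} ha x => by rw [inv_smul_eq_iff, ha x] }
  have hC0 : C0.Normal := ⟨fun c hc g x => by rw [mul_smul, mul_smul, hc, smul_inv_smul]⟩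
  let N0 : Subgroup Y := tvc Y n
  let π := QuotientGroup.mk' C0
  have h1 : IsPGroup 2 (N0.map π) := by
    rintro ⟨_, y, ⟨φ, hφ, hy⟩, rfl⟩
    refine ⟨1, Subtype.ext ?_⟩
    change (π y) ^ 2 ^ 1 = 1
    rw [pow_one, ← map_pow]
    refine (QuotientGroup.eq_one_iff (y ^ 2)).2 fun x => ?_
    rw [pow_two, mul_smul, hy, hy, map_add, map_smul, hφ, smul_zero, add_zero, add_assoc, ← add_smul]
    have e : (φ x + φ x) • n = 0 := by rw [add_smul, two]
    rw [e, add_zero]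
  have h2 : T.map π ≤ normalizer ((N0.map π : Subgroup (Y ⧸ C0)) : Set (Y ⧸ C0)) := by
    have h3 : T ≤ normalizer (N0 : Set Y) := by
      have key : ∀ t ∈ T, ∀ y ∈ N0, t * y * t⁻¹ ∈ N0 := by
        rintro t ht y ⟨φ, hφ, hy⟩
        have hti : t⁻¹ • n = n := by rw [inv_smul_eq_iff, hn t ht]
        let μ : A →ₗ[KK Y A] A :=
          { toFun := fun x => t⁻¹ • x
            map_add' := fun x y => smul_add _ _ _
            map_smul' := fun κ x => (KK.smul_smul_comm t⁻¹ κ x).symm }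
        refine ⟨φ.comp μ, ?_, fun x => ?_⟩
        · change φ (t⁻¹ • n) = 0
          rw [hti, hφ]
        · change (t * y * t⁻¹) • x = x + φ (t⁻¹ • x) • n
          rw [mul_smul, mul_smul, hy, smul_add, smul_inv_smul, ← KK.smul_smul_comm, hn t ht]
      intro t ht
      rw [mem_normalizer_iff]
      intro y
      refine ⟨key t ht y, fun h => ?_⟩
      have h4 := key t⁻¹ (inv_mem ht) _ h
      have e : t⁻¹ * (t * y * t⁻¹) * t⁻¹⁻¹ = y := by group
      rwa [e] at h4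
    rintro _ ⟨t, ht, rfl⟩
    rw [mem_normalizer_iff]
    have key : ∀ t ∈ T, ∀ y ∈ N0.map π, π t * y * (π t)⁻¹ ∈ N0.map π := by
      rintro t ht _ ⟨y, hy, rfl⟩
      exact ⟨t * y * t⁻¹, (mem_normalizer_iff.1 (h3 ht) y).1 hy, by rw [map_mul, map_mul, map_inv]⟩
    intro y
    refine ⟨key t ht y, fun h => ?_⟩
    have h4 := key t⁻¹ (inv_mem ht) _ h
    rw [map_inv] at h4
    have e : (π t)⁻¹ * (π t * y * (π t)⁻¹) * (π t)⁻¹⁻¹ = y := by group
    rwa [e] at h4
  have h3 : ¬ 2 ∣ (T.map π).index := fun h => hT (h.trans (index_map_dvd T (QuotientGroup.mk'_surjective C0)))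
  have h4 := le_of_syl (hT2.map π) h3 h1 h2
  obtain ⟨y, hy⟩ := htv φ n hφ
  obtain ⟨t, ht, e⟩ := h4 ⟨y, ⟨φ, hφ, hy⟩, rfl⟩
  refine ⟨t, ht, fun x => ?_⟩
  have h5 : y⁻¹ * t ∈ C0 := QuotientGroup.eq.1 e.symm
  have h6 := h5 x
  rw [mul_smul, inv_smul_eq_iff] at h6
  rw [h6, hy]

end one

namespace Blk0

variable {H : Type u} {U : Type v} [Group H] [Finite H] [AddCommGroup U] [DistribMulAction H U] [Finite U]
variable {Y Q BB : Subgroup H} {V F L C : AddSubgroup U} {h : H} {M KV S : Subgroup H}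
variable (B : Blk0 Y Q BB V F L C h M KV S)
include B

omit [Finite H] [Finite U] B in
theorem smul_T {m : H} {v : U} (hv : ∀ s ∈ S, m⁻¹ * s * m ∈ Y → s • v = v) :
    ∀ t ∈ S.map (MulAut.conj m⁻¹).toMonoidHom, t ∈ Y → t • m⁻¹ • v = m⁻¹ • v := by
  rintro _ ⟨s, hs, rfl⟩ ht
  have hsY : m⁻¹ * s * m ∈ Y := by
    have e3 : (MulAut.conj m⁻¹).toMonoidHom s = m⁻¹ * s * m := by
      change m⁻¹ * s * m⁻¹⁻¹ = _
      rw [inv_inv]
    rwa [e3] at ht
  change (m⁻¹ * s * m⁻¹⁻¹) • m⁻¹ • v = _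
  rw [smul_smul, inv_inv, mul_assoc, mul_inv_cancel, mul_one, mul_smul, hv s hs hsY]

/-- the action of the ring on two components in one block -/
theorem ann_comp' {m : H} (hm : m ∈ M) {a a' : U} (ha : a ∈ m • V1 B.dat) (ha0 : a ≠ 0)
    (haS : ∀ s ∈ S, m⁻¹ * s * m ∈ Y → s • a = a) (ha' : a' ∈ m • V1 B.dat)
    (haS' : ∀ s ∈ S, m⁻¹ * s * m ∈ Y → s • a' = a')
    {c : AddMonoid.End U} (hc : c ∈ ring U KV) (h1 : c a = 0) : c a' = 0 := by
  have hcm : op U m⁻¹ * c * op U m⁻¹⁻¹ ∈ ring U KV :=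
    Descent.conj_mem (fun x hx => B.nK _ (inv_mem hm) x hx) hc
  have key : ∀ v : U, (op U m⁻¹ * c * op U m⁻¹⁻¹) (m⁻¹ • v) = m⁻¹ • c v := by
    intro v
    change m⁻¹ • c (m⁻¹⁻¹ • m⁻¹ • v) = _
    rw [inv_inv, smul_inv_smul]
  have hmem : ∀ v ∈ m • V1 B.dat, m⁻¹ • v ∈ V1 B.dat := fun v hv =>
    AddSubgroup.mem_pointwise_smul_iff_inv_smul_mem.1 hv
  have h2 : (op U m⁻¹ * c * op U m⁻¹⁻¹) (m⁻¹ • a') = 0 := by
    refine B.ann_one (T := S.map (MulAut.conj m⁻¹).toMonoidHom) (B.S2.map _) (B.odd_T hm)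
      (w := m⁻¹ • a) (hmem a ha) (smul_T haS) ?_ (hmem a' ha') (smul_T haS') hcm ?_
    · intro h3
      exact ha0 (by rw [← smul_inv_smul m a, h3, smul_zero])
    · rw [key, h1, smul_zero]
  rw [key] at h2
  rw [← smul_inv_smul m (c a'), h2, smul_zero]

omit [Finite H] [Finite U] in
/-- `m⁻¹ s m ∈ Y` implies `s ∈ YM` -/
theorem mem_YM_of {m s : H} (hm : m ∈ M) (hs : m⁻¹ * s * m ∈ Y) : s ∈ B.YM := by
  have h2 := B.conj_mem_YM hm hs
  have e3 : m * (m⁻¹ * s * m) * m⁻¹ = s := by group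
  rwa [e3] at h2

/-- values of `HomY` are in `V₁` -/
theorem hom_mem (f : HomY Y (AM B.dat) U) (w : AM B.dat) : (f : AM B.dat →+ U) w ∈ V1 B.dat := by
  obtain ⟨u, rfl⟩ := B.dat.mdl.psi_surj f
  rw [Mdl.psi_apply, B.dat.bt_apply]
  exact br_mem_V1 B.dat w.val_mem u

end Blk0

namespace PF

variable {H : Type u} {U : Type v} [Group H] [Finite H] [AddCommGroup U] [DistribMulAction H U] [Finite U]
variable {Y Q BB : Subgroup H} {V F L C : AddSubgroup U} {h : H} {M KV S O : Subgroup H} {VP : AddSubgroup U}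
variable {B : Blk0 Y Q BB V F L C h M KV S} (P : PF B O VP)
include P

omit [Finite H] [Finite U] in
theorem VP_le : VP ≤ V := P.gen V (fun o ho w hw => B.mV o (P.OM ho) w hw) fun _ hv _ => hv

/-- some component of some `v ∈ V_P` is moved by `S ∩ m Y m⁻¹` -/
theorem exists_move : ∃ m ∈ M, ∃ v ∈ VP, ∃ a ∈ m • V1 B.dat, ∃ b ∈ B.rest m, v = a + b ∧
    ∃ s ∈ S, m⁻¹ * s * m ∈ Y ∧ s • a ≠ a := by
  by_contra hcon
  push Not at hcon
  obtain ⟨s, hs, hsY, v, hv, hne⟩ := P.ne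
  apply hne
  rw [← sub_eq_zero]
  have hvV := P.VP_le hv
  refine P.inf_rest (sub_mem (B.mV s (B.SM hs) v hvV) hvV) fun m hm => ?_
  obtain ⟨a, ha, b, hb, e⟩ := P.exists_add m hvV
  obtain ⟨z, hz, hzS, hzr⟩ := B.exists_comp hm
  obtain ⟨z1, hz1, z2, hz2, ez⟩ := B.mem_all (B.orbS_le_all hm hz) m
  have hz10 : z1 ≠ 0 := by
    rintro rfl
    rw [zero_add] at ez
    exact hzr (ez ▸ hz2)
  have hsK := B.YM_le hsY
  have h1 : (op U s - 1) a = 0 := by
    refine B.ann_comp' hm hz1 hz10 (fun t ht htY => B.comp_fix hm hz1 hz2 ez (hzS t ht) (B.YM_le (B.mem_YM_of hm htY)))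
      ha (fun t ht htY => hcon m hm v hv a ha b hb e t ht htY)
      (c := op U s - 1) (sub_mem (op_mem hsK) (one_mem' KV)) ?_
    change s • z1 - z1 = 0
    rw [sub_eq_zero]
    exact B.comp_fix hm hz1 hz2 ez (hzS s hs) hsK
  change s • a - a = 0 at h1
  rw [e]
  have e2 : s • (a + b) - (a + b) = (s • a - a) + (s • b - b) := by rw [smul_add]; abel
  rw [e2, h1, zero_add]
  exact sub_mem (B.rest_K hm hsK hb) hb

/-- **If `V_P` is generated by one element of `C_V(S)` as an `O²(P)`-module, then `V_P` is FF.** -/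
theorem exists_ff {z : U} (hzV : z ∈ V) (hz0 : z ≠ 0) (hzS : ∀ s ∈ S, s • z = z)
    (hgen : ∀ v ∈ VP, ∃ c ∈ ring U O, c z = v) :
    ∃ (Θ : Subgroup H) (X1 X2 : Type u) (_ : Finite X1) (_ : Finite X2) (γ : U → X1) (δ : H → X2),
      Nat.card X1 ≤ Nat.card X2 ∧ Θ ≤ S ∧ (∃ θ ∈ Θ, ∃ v ∈ VP, θ • v ≠ v) ∧
      (∀ a ∈ Θ, ∀ v ∈ VP, (a * a) • v = v) ∧ (∀ a ∈ Θ, ∀ b ∈ Θ, ∀ v ∈ VP, (a * b * a⁻¹ * b⁻¹) • v = v) ∧
      (∀ v ∈ VP, ∀ v' ∈ VP, γ v = γ v' → ∀ θ ∈ Θ, θ • (v - v') = v - v') ∧ (∀ x, ∃ θ ∈ Θ, δ θ = x) ∧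
      (∀ θ ∈ Θ, ∀ θ' ∈ Θ, (∀ v ∈ VP, θ • v = θ' • v) → δ θ = δ θ') := by
  classical
  obtain ⟨m, hm, v1, hv1, a1, ha1, b1, hb1, e1, s1, hs1, hs1Y, hs1a⟩ := P.exists_move
  have D := B.dat
  let T : Subgroup Y := (S.map (MulAut.conj m⁻¹).toMonoidHom).subgroupOf Y
  have hT2 : IsPGroup 2 T := (B.S2.map _).comap_of_injective _ (subtype_injective Y)
  have hTo : ¬ 2 ∣ T.index := B.odd_T hm
  obtain ⟨n, -, hn0, hn⟩ := exists_fix (V := AM B.dat) (H := Y) hT2 B.dat.AM_two (A := ⊤)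
    (fun _ _ _ _ => trivial) (by
      intro h
      obtain ⟨a, ha⟩ := (B.dat.isIrr).ne
      have : a ∈ (⊤ : AddSubgroup (AM B.dat)) := trivial
      rw [h] at this
      exact ha this)
  -- the component of `z`
  obtain ⟨z1, hz1, z2, hz2, ez⟩ := P.exists_add m hzV
  have hz10 : z1 ≠ 0 := by
    rintro rfl
    rw [zero_add] at ez
    exact P.comp_ne hz0 hzV hzS hm (ez ▸ hz2)
  have hmem : ∀ v ∈ m • V1 B.dat, m⁻¹ • v ∈ V1 B.dat := fun v hv =>
    AddSubgroup.mem_pointwise_smul_iff_inv_smul_mem.1 hv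
  obtain ⟨f, hf⟩ := exists_of_fix (allTv B.dat) B.dat.AM_two hTo hn0 hn (V1_le_img B.dat (hmem z1 hz1))
    (fun t ht => Blk0.smul_T (fun s hs hsY => B.comp_fix hm hz1 hz2 ez (hzS s hs) (B.YM_le (B.mem_YM_of hm hsY))) t
      (mem_subgroupOf.1 ht) t.2)
  have hf0 : f ≠ 0 := by
    rintro rfl
    apply hz10
    rw [← smul_inv_smul m z1, hf]
    exact smul_zero m
  -- components of elements of `VP`
  have hfm : ∀ w : AM B.dat, m • (f : AM B.dat →+ U) w ∈ m • V1 B.dat := fun w =>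
    AddSubgroup.smul_mem_pointwise_smul _ _ _ (B.hom_mem f w)
  have hcomp : ∀ v ∈ VP, ∃ w : AM B.dat, ∃ b ∈ B.rest m, v = m • (f : AM B.dat →+ U) w + b := by
    intro v hv
    obtain ⟨c, hc, rfl⟩ := hgen v hv
    have hcK : c ∈ ring U KV := by
      have h1 : ring U O ≤ ring U KV := AddSubgroup.closure_mono (by
        rintro _ ⟨x, hx, rfl⟩
        exact ⟨x, B.YM_le (P.O_le hx), rfl⟩)
      exact h1 hc
    have hcm : op U m⁻¹ * c * op U m⁻¹⁻¹ ∈ ring U KV :=
      Descent.conj_mem (fun x hx => B.nK _ (inv_mem hm) x hx) hcK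
    obtain ⟨c', hc'⟩ := B.exists_ringK hcm
    refine ⟨c' n, c z2, apply_mem (fun x hx v hv => B.rest_K hm hx hv) hz2 hcK, ?_⟩
    have h2 : (op U m⁻¹ * c * op U m⁻¹⁻¹) (m⁻¹ • z1) = m⁻¹ • c z1 := by
      change m⁻¹ • c (m⁻¹⁻¹ • m⁻¹ • z1) = _
      rw [inv_inv, smul_inv_smul]
    rw [hf, hc'] at h2
    rw [h2, smul_inv_smul, ← map_add, ← ez]
  let ω : U → AM B.dat := fun v => if hv : v ∈ VP then (hcomp v hv).choose else 0
  have hω : ∀ v ∈ VP, ∃ b ∈ B.rest m, v = m • (f : AM B.dat →+ U) (ω v) + b := by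
    intro v hv
    have e : ω v = (hcomp v hv).choose := dif_pos hv
    rw [e]
    exact (hcomp v hv).choose_spec
  have huniq : ∀ w w' : AM B.dat, ∀ b ∈ B.rest m, ∀ b' ∈ B.rest m,
      m • (f : AM B.dat →+ U) w + b = m • (f : AM B.dat →+ U) w' + b' → w = w' := by
    intro w w' b hb b' hb' e
    have h1 : m • (f : AM B.dat →+ U) w - m • (f : AM B.dat →+ U) w' ∈ m • V1 B.dat ⊓ B.rest m := by
      refine AddSubgroup.mem_inf.2 ⟨sub_mem (hfm w) (hfm w'), ?_⟩
      have e2 : m • (f : AM B.dat →+ U) w - m • (f : AM B.dat →+ U) w' = b' - b := by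
        rw [sub_eq_sub_iff_add_eq_add, e, add_comm]
      rw [e2]
      exact sub_mem hb' hb
    rw [B.indep hm, AddSubgroup.mem_bot, sub_eq_zero] at h1
    exact HomY.inj hf0 (smul_left_cancel m h1)
  -- the action of `m Y m⁻¹`
  have hact : ∀ (y : Y) (w : AM B.dat) (b : U), b ∈ B.rest m →
      (m * (y : H) * m⁻¹) • (m • (f : AM B.dat →+ U) w + b) = m • (f : AM B.dat →+ U) (y • w) + b := by
    intro y w b hb
    have e2 : (f : AM B.dat →+ U) (y • w) = (y : H) • (f : AM B.dat →+ U) w := f.2 y w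
    rw [smul_add, B.cent_rest hm y.2 hb, smul_smul, inv_mul_cancel_right, mul_smul, e2]
  let Θ : Subgroup H := ((T ⊓ tvc Y n).map Y.subtype).map (MulAut.conj m).toMonoidHom
  have hΘ : ∀ θ ∈ Θ, ∃ y : Y, y ∈ T ∧ (∃ φ : Module.Dual (KK Y (AM B.dat)) (AM B.dat), φ n = 0 ∧
      ∀ x, y • x = x + φ x • n) ∧ θ = m * (y : H) * m⁻¹ := by
    rintro _ ⟨_, ⟨y, ⟨hyT, hy⟩, rfl⟩, rfl⟩
    exact ⟨y, hyT, hy, rfl⟩
  -- `θ v = v + m f(κ n)`
  have hmv : ∀ θ ∈ Θ, ∃ φ : Module.Dual (KK Y (AM B.dat)) (AM B.dat), φ n = 0 ∧ (∀ v ∈ VP,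
      θ • v = v + m • (f : AM B.dat →+ U) (φ (ω v) • n)) ∧ ∀ κ : KK Y (AM B.dat),
      θ • m • (f : AM B.dat →+ U) (κ • n) = m • (f : AM B.dat →+ U) (κ • n) := by
    intro θ hθ
    obtain ⟨y, -, ⟨φ, hφ, hy⟩, rfl⟩ := hΘ θ hθ
    refine ⟨φ, hφ, fun v hv => ?_, fun κ => ?_⟩
    · obtain ⟨b, hb, e⟩ := hω v hv
      have h1 := hact y (ω v) b hb
      rw [← e, hy, map_add, smul_add] at h1
      rw [h1]
      calc m • (f : AM B.dat →+ U) (ω v) + m • (f : AM B.dat →+ U) (φ (ω v) • n) + b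
          = (m • (f : AM B.dat →+ U) (ω v) + b) + m • (f : AM B.dat →+ U) (φ (ω v) • n) := by abel
        _ = v + m • (f : AM B.dat →+ U) (φ (ω v) • n) := by rw [← e]
    · have h1 := hact y (κ • n) 0 (zero_mem _)
      have h2 : y • (κ • n) = κ • n := by
        rw [hy, φ.map_smul, hφ, smul_zero, zero_smul, add_zero]
      rw [add_zero, add_zero, h2] at h1
      exact h1
  let K := KK Y (AM B.dat)
  let N : Submodule K (AM B.dat) := Submodule.span K {n}
  let W : Submodule K (AM B.dat ⧸ N) := Submodule.span K {x | ∃ v ∈ VP, x = N.mkQ (ω v)}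
  have hWm : ∀ v ∈ VP, N.mkQ (ω v) ∈ W := fun v hv => Submodule.subset_span ⟨v, hv, rfl⟩
  let γ : U → W := fun v => if hv : v ∈ VP then ⟨N.mkQ (ω v), hWm v hv⟩ else 0
  have hγ : ∀ v (hv : v ∈ VP), γ v = ⟨N.mkQ (ω v), hWm v hv⟩ := fun v hv => dif_pos hv
  let Rel : H → Module.Dual K W → Prop := fun θ ψ => ∀ v (hv : v ∈ VP),
    θ • v = v + m • (f : AM B.dat →+ U) (ψ ⟨N.mkQ (ω v), hWm v hv⟩ • n)
  have hRel : ∀ θ ψ θ' ψ', Rel θ ψ → Rel θ' ψ' → (∀ v ∈ VP, θ • v = θ' • v) → ψ = ψ' := by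
    intro θ ψ θ' ψ' h1 h2 h3
    have h4 : ∀ v (hv : v ∈ VP), ψ ⟨N.mkQ (ω v), hWm v hv⟩ = ψ' ⟨N.mkQ (ω v), hWm v hv⟩ := by
      intro v hv
      have h5 := h3 v hv
      rw [h1 v hv, h2 v hv] at h5
      have h6 := HomY.inj hf0 (smul_left_cancel m (add_left_cancel h5))
      exact smul_left_injective K hn0 h6
    refine LinearMap.ext fun ⟨x, hx⟩ => ?_
    induction hx using Submodule.span_induction with
    | mem x hx =>
      obtain ⟨v, hv, rfl⟩ := hx
      exact h4 v hv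
    | zero => exact (map_zero ψ).trans (map_zero ψ').symm
    | add x y hx hy ihx ihy =>
      have e2 : (⟨x + y, add_mem hx hy⟩ : W) = ⟨x, hx⟩ + ⟨y, hy⟩ := rfl
      rw [e2, map_add, map_add, ihx, ihy]
    | smul κ x hx ih =>
      have e2 : (⟨κ • x, Submodule.smul_mem _ κ hx⟩ : W) = κ • ⟨x, hx⟩ := rfl
      rw [e2, map_smul, map_smul, ih]
  let δ : H → Module.Dual K W := fun θ => if hψ : ∃ ψ, Rel θ ψ then hψ.choose else 0
  have hδ : ∀ θ ψ, Rel θ ψ → δ θ = ψ := by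
    intro θ ψ h1
    have h2 : ∃ ψ, Rel θ ψ := ⟨ψ, h1⟩
    have e : δ θ = h2.choose := dif_pos h2
    rw [e]
    exact hRel θ _ θ _ h2.choose_spec h1 fun _ _ => rfl
  have hex : ∀ θ ∈ Θ, ∃ ψ, Rel θ ψ := by
    intro θ hθ
    obtain ⟨φ, hφ, h1, -⟩ := hmv θ hθ
    have hN : N ≤ LinearMap.ker φ := by
      rw [Submodule.span_singleton_le_iff_mem]
      exact hφ
    refine ⟨(N.liftQ φ hN).comp W.subtype, fun v hv => ?_⟩
    rw [h1 v hv]
    rfl
  have hfinQ : Finite (AM B.dat ⧸ N) := Finite.of_surjective _ (Submodule.mkQ_surjective N)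
  have hfinW : Finite W := Finite.of_injective (fun x : W => (x : AM B.dat ⧸ N)) Subtype.val_injective
  have hfinD : Finite (Module.Dual K W) := Finite.of_injective (fun φ : Module.Dual K W => (φ : W → K))
    DFunLike.coe_injective
  refine ⟨Θ, W, Module.Dual K W, hfinW, hfinD, γ, δ, ?_, ?_, ?_, ?_, ?_, ?_, ?_, ?_⟩
  · -- cardinalities
    have h1 : Module.Finite K W := Module.Finite.of_finite
    rw [Module.natCard_eq_pow_finrank (K := K) (V := W), Module.natCard_eq_pow_finrank (K := K) (V := Module.Dual K W),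
      Subspace.dual_finrank_eq]
  · intro θ hθ
    obtain ⟨y, hyT, -, rfl⟩ := hΘ θ hθ
    obtain ⟨s, hs, e⟩ := mem_subgroupOf.1 hyT
    have e2 : m * (y : H) * m⁻¹ = s := by
      rw [← e]
      change m * (m⁻¹ * s * m⁻¹⁻¹) * m⁻¹ = s
      group
    rw [e2]
    exact hs
  · -- `Θ` moves `VP`
    by_contra hcon
    push Not at hcon
    apply hs1a
    obtain ⟨b, hb, e⟩ := hω v1 hv1
    have h1 : ω v1 ∈ N := by
      by_contra hnot
      obtain ⟨φ, hφ1, hφ2⟩ := Submodule.exists_dual_map_eq_bot_of_notMem hnot inferInstance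
      have hφn : φ n = 0 := by
        have h : φ n ∈ N.map φ := ⟨n, Submodule.mem_span_singleton_self n, rfl⟩
        rw [hφ2, Submodule.mem_bot] at h
        exact h
      obtain ⟨t, ht, hty⟩ := exists_T (allTv B.dat) B.dat.AM_two hT2 hTo hn hφn
      have hθ : m * (t : H) * m⁻¹ ∈ Θ := ⟨t, ⟨t, ⟨ht, φ, hφn, hty⟩, rfl⟩, rfl⟩
      have h2 := hcon _ hθ v1 hv1
      rw [e, hact t _ b hb, hty] at h2
      have h3 := huniq _ _ b hb b hb h2
      have h4 : φ (ω v1) • n = 0 := add_eq_left.1 h3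
      rcases smul_eq_zero.1 h4 with h5 | h5
      · exact hφ1 h5
      · exact hn0 h5
    obtain ⟨κ, hκ⟩ := Submodule.mem_span_singleton.1 h1
    have e3 : a1 = m • (f : AM B.dat →+ U) (ω v1) := by
      have h2 : a1 - m • (f : AM B.dat →+ U) (ω v1) ∈ m • V1 B.dat ⊓ B.rest m := by
        refine AddSubgroup.mem_inf.2 ⟨sub_mem ha1 (hfm _), ?_⟩
        have e2 : a1 - m • (f : AM B.dat →+ U) (ω v1) = b - b1 := by
          rw [sub_eq_sub_iff_add_eq_add, ← e1, add_comm, ← e]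
        rw [e2]
        exact sub_mem hb hb1
      rw [B.indep hm, AddSubgroup.mem_bot, sub_eq_zero] at h2
      exact h2
    have h2 : (⟨m⁻¹ * s1 * m, hs1Y⟩ : Y) ∈ T := by
      refine mem_subgroupOf.2 ⟨s1, hs1, ?_⟩
      change m⁻¹ * s1 * m⁻¹⁻¹ = m⁻¹ * s1 * m
      rw [inv_inv]
    have h3 := hact ⟨m⁻¹ * s1 * m, hs1Y⟩ (ω v1) 0 (zero_mem _)
    rw [add_zero, add_zero, ← hκ, ← KK.smul_smul_comm, hn _ h2, hκ, ← e3] at h3
    have e4 : m * (m⁻¹ * s1 * m) * m⁻¹ = s1 := by group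
    change (m * (m⁻¹ * s1 * m) * m⁻¹) • a1 = a1 at h3
    rwa [e4] at h3
  · intro a ha v hv
    obtain ⟨φ, -, h1, h2⟩ := hmv a ha
    rw [mul_smul, h1 v hv, smul_add, h1 v hv, h2, add_assoc, B.dat.two, add_zero]
  · intro a ha b hb v hv
    obtain ⟨φ, -, h1, h2⟩ := hmv a ha
    obtain ⟨ψ, -, h3, h4⟩ := hmv b hb
    have hai : a⁻¹ • v = v + m • (f : AM B.dat →+ U) (φ (ω v) • n) := by
      rw [inv_smul_eq_iff, smul_add, h1 v hv, h2, add_assoc, B.dat.two, add_zero]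
    have hbi : b⁻¹ • v = v + m • (f : AM B.dat →+ U) (ψ (ω v) • n) := by
      rw [inv_smul_eq_iff, smul_add, h3 v hv, h4, add_assoc, B.dat.two, add_zero]
    set x := m • (f : AM B.dat →+ U) (φ (ω v) • n) with hx
    set y := m • (f : AM B.dat →+ U) (ψ (ω v) • n) with hy
    have hay : a • y = y := h2 _
    have hax : a • x = x := h2 _
    have hbx : b • x = x := h4 _
    have hby : b • y = y := h4 _
    have haiy : a⁻¹ • y = y := by rw [inv_smul_eq_iff, hay]
    have e1 : (a * b * a⁻¹ * b⁻¹) • v = a • b • a⁻¹ • b⁻¹ • v := by simp only [mul_smul]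
    rw [e1, hbi, smul_add a⁻¹, hai, haiy, smul_add b, smul_add b, h3 v hv, hbx, hby, ← hy, smul_add a, smul_add a,
      smul_add a, h1 v hv, hax, hay, ← hx]
    have e2 : v + x + y + x + y = v + (x + x) + (y + y) := by abel
    rw [e2, B.dat.two, B.dat.two, add_zero, add_zero]
  · intro v hv v' hv' hγe θ hθ
    rw [hγ v hv, hγ v' hv'] at hγe
    have h1 : N.mkQ (ω v) = N.mkQ (ω v') := congrArg Subtype.val hγe
    have h2 : ω v - ω v' ∈ N := (Submodule.Quotient.eq N).1 h1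
    obtain ⟨κ, hκ⟩ := Submodule.mem_span_singleton.1 h2
    obtain ⟨φ, hφ, h3, -⟩ := hmv θ hθ
    have h4 : φ (ω v) = φ (ω v') := by
      rw [← sub_eq_zero, ← map_sub, ← hκ, map_smul, hφ, smul_zero]
    rw [smul_sub, h3 v hv, h3 v' hv', h4]
    abel
  · intro ψ
    obtain ⟨ψ', hψ'⟩ := LinearMap.exists_extend ψ
    have hφn : (ψ'.comp N.mkQ) n = 0 := by
      have h1 : N.mkQ n = 0 := (Submodule.Quotient.mk_eq_zero N).2 (Submodule.mem_span_singleton_self n)
      rw [LinearMap.comp_apply, h1, map_zero]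
    obtain ⟨t, ht, hty⟩ := exists_T (allTv B.dat) B.dat.AM_two hT2 hTo hn hφn
    have hθ : m * (t : H) * m⁻¹ ∈ Θ := ⟨t, ⟨t, ⟨ht, _, hφn, hty⟩, rfl⟩, rfl⟩
    refine ⟨_, hθ, hδ _ _ fun v hv => ?_⟩
    obtain ⟨b, hb, e⟩ := hω v hv
    have h5 : ψ ⟨N.mkQ (ω v), hWm v hv⟩ = (ψ'.comp N.mkQ) (ω v) := by
      rw [← hψ']
      rfl
    have h6 := hact t (ω v) b hb
    rw [← e, hty, map_add, smul_add] at h6
    rw [h5, h6]
    calc m • (f : AM B.dat →+ U) (ω v) + m • (f : AM B.dat →+ U) ((ψ'.comp N.mkQ) (ω v) • n) + b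
        = (m • (f : AM B.dat →+ U) (ω v) + b) + m • (f : AM B.dat →+ U) ((ψ'.comp N.mkQ) (ω v) • n) := by abel
      _ = v + m • (f : AM B.dat →+ U) ((ψ'.comp N.mkQ) (ω v) • n) := by rw [← e]
  · intro θ hθ θ' hθ' h1
    obtain ⟨ψ, hψ⟩ := hex θ hθ
    obtain ⟨ψ', hψ'⟩ := hex θ' hθ'
    rw [hδ θ ψ hψ, hδ θ' ψ' hψ']
    exact hRel θ ψ θ' ψ' hψ hψ' h1

end PF

end Cfsg.Agent.Omega.NO3b.Exit.BlkZ

end

section


/-!
# The blocks of `V` for all panels over `Z` together (#22497 (a), (b), helper556; #21336 (B), helper506): definitions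

`Γ` acts faithfully on the finite elementary abelian 2-group `W`  (`Γ = M / C_M(V)`, `W = V`).

* `ten Y A W N = N ⊗ E` : the sum of the `f N`, `f ∈ E = Hom_Y(A, W)`;  `ten ⊤ = img`;
* `cen Y = C_W(Y)`;
* `One Y K A F` : one block `img Y A W = A ⊗ E`, `Y` subnormal in the normal subgroup `K` which acts on `A ⊗ E`
  through `A`, `W = (A ⊗ E) ⊕ C_W(Y)`, `F = (A₀ ⊗ E) ⊕ C_W(Y)`, `A₀` a hyperplane;
* `Fam Γ W Y A` : a family of blocks `W i = img (Y i) (A i) W`, `Y i` centralises `W j` for `i ≠ j`, permuted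
  semilinearly by `Γ`.
-/

set_option autoImplicit false

namespace Cfsg.Agent.Omega.NO3b.OneR

open Subgroup Cfsg.Agent.Omega.NO3b.Exit Cfsg.Agent.Omega.NO3b.Exit.Ten Cfsg.Agent.Omega.NO3b.Exit.Descent
open Cfsg.Agent.Omega.NO3b.Exit.TBlk (Sn)

universe u v w x

section

variable (Y : Type u) (A : Type v) (W : Type w) [Group Y] [AddCommGroup A] [DistribMulAction Y A]
  [AddCommGroup W] [DistribMulAction Y W]

/-- `N ⊗ E`, `E = Hom_Y(A, W)` -/
def ten (N : AddSubgroup A) : AddSubgroup W :=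
  AddSubgroup.closure {w | ∃ (f : HomY Y A W) (a : A), a ∈ N ∧ w = (f : A →+ W) a}

theorem mem_ten {N : AddSubgroup A} (f : HomY Y A W) {a : A} (ha : a ∈ N) : (f : A →+ W) a ∈ ten Y A W N :=
  AddSubgroup.subset_closure ⟨f, a, ha, rfl⟩

theorem ten_top : ten Y A W ⊤ = img Y A W := by
  refine le_antisymm ((AddSubgroup.closure_le _).2 ?_) ((AddSubgroup.closure_le _).2 ?_)
  · rintro _ ⟨f, a, -, rfl⟩; exact mem_img f a
  · rintro _ ⟨f, a, rfl⟩; exact mem_ten Y A W f trivial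

theorem ten_mono {N N' : AddSubgroup A} (h : N ≤ N') : ten Y A W N ≤ ten Y A W N' :=
  AddSubgroup.closure_mono (by rintro _ ⟨f, a, ha, rfl⟩; exact ⟨f, a, h ha, rfl⟩)

theorem ten_le_img (N : AddSubgroup A) : ten Y A W N ≤ img Y A W := by
  rw [← ten_top]; exact ten_mono Y A W le_top

end

section

variable {Γ : Type u} {W : Type w} [Group Γ] [AddCommGroup W] [DistribMulAction Γ W]

/-- `C_W(Y)` -/
def cen (W : Type w) [AddCommGroup W] [DistribMulAction Γ W] (Y : Subgroup Γ) : AddSubgroup W where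
  carrier := {w | ∀ y ∈ Y, y • w = w}
  zero_mem' := fun y _ => smul_zero y
  add_mem' := fun {a b} ha hb y hy => by rw [smul_add, ha y hy, hb y hy]
  neg_mem' := fun {a} ha y hy => by rw [smul_neg, ha y hy]

theorem mem_cen {Y : Subgroup Γ} {w : W} : w ∈ cen W Y ↔ ∀ y ∈ Y, y • w = w := Iff.rfl

/-- `t` is a `K`-transvection of `A` -/
def IsTv (Y : Subgroup Γ) (A : Type v) [AddCommGroup A] [DistribMulAction Y A] [Finite A] [IsIrr Y A] (t : Y) :
    Prop :=
  ∃ (φ : Module.Dual (KK Y A) A) (a : A), φ a = 0 ∧ ∀ x : A, t • x = x + φ x • a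

/-- One panel: `img Y A W = A ⊗ E`. -/
structure One (Y K : Subgroup Γ) (A : Type v) [AddCommGroup A] [DistribMulAction Y A] [Finite A] [IsIrr Y A]
    (F : AddSubgroup W) : Prop where
  sn : Sn Y K
  nK : ∀ g : Γ, ∀ k ∈ K, g * k * g⁻¹ ∈ K
  tv : AllTv Y A
  gen : ∀ N : Subgroup Γ, (∀ y ∈ Y, ∀ n ∈ N, y * n * y⁻¹ ∈ N) → (∀ t : Y, IsTv Y A t → (t : Γ) ∈ N) → Y ≤ N
  act : ∀ k ∈ K, ∃ θ : A →+ A, ∀ (f : HomY Y A W) (a : A), k • (f : A →+ W) a = (f : A →+ W) (θ a)
  dec : ∀ w : W, ∃ a ∈ img Y A W, w - a ∈ cen W Y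
  red : ∀ k ∈ K, (∀ w ∈ img Y A W, k • w = w) → (∀ w : W, k • w - w ∈ img Y A W) → k = 1
  dimA : ∃ a b : A, a ≠ 0 ∧ ∀ κ : KK Y A, κ • a ≠ b
  dimE : ∃ f g : HomY Y A W, f ≠ 0 ∧ ∀ κ : KK Y A, κ • f ≠ g
  flat : ∃ φ : Module.Dual (KK Y A) A, φ ≠ 0 ∧ F = ten Y A W (LinearMap.ker φ).toAddSubgroup ⊔ cen W Y

end

/-- **A family of commuting blocks.** -/
structure Fam (Γ : Type u) (W : Type w) [Group Γ] [AddCommGroup W] [DistribMulAction Γ W] {ι : Type x}
    (Y : ι → Subgroup Γ) (A : ι → Type v) [∀ i, AddCommGroup (A i)] [∀ i, DistribMulAction (Y i) (A i)]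
    [∀ i, Finite (A i)] [∀ i, IsIrr (Y i) (A i)] : Prop where
  faith : ∀ g : Γ, (∀ w : W, g • w = w) → g = 1
  two : ∀ w : W, w + w = 0
  inj : Function.Injective Y
  sn : ∀ i, Sn (Y i) ⊤
  tv : ∀ i, AllTv (Y i) (A i)
  gen : ∀ i, ∀ N : Subgroup Γ, (∀ y ∈ Y i, ∀ n ∈ N, y * n * y⁻¹ ∈ N) →
    (∀ t : Y i, IsTv (Y i) (A i) t → (t : Γ) ∈ N) → Y i ≤ N
  dec : ∀ i, ∀ w : W, ∃ a ∈ img (Y i) (A i) W, w - a ∈ cen W (Y i)
  cent : ∀ i j, i ≠ j → ∀ y ∈ Y i, ∀ w ∈ img (Y j) (A j) W, y • w = w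
  sem : ∀ (g : Γ) (i : ι), ∃ (j : ι) (h : ∀ y : Γ, y ∈ Y i ↔ g * y * g⁻¹ ∈ Y j) (θ : A i ≃+ A j),
    ∀ (y : Y i) (a : A i), θ (y • a) = (⟨g * y * g⁻¹, (h y).1 y.2⟩ : Y j) • θ a
  dimA : ∀ i, ∃ a b : A i, a ≠ 0 ∧ ∀ κ : KK (Y i) (A i), κ • a ≠ b
  dimE : ∀ i, ∃ f g : HomY (Y i) (A i) W, f ≠ 0 ∧ ∀ κ : KK (Y i) (A i), κ • f ≠ g

end Cfsg.Agent.Omega.NO3b.OneR

end

section


/-!
# The blocks of `V` for all panels over `Z` together: transvections (linear algebra)

* `all_tv` : a set of transvections of a vector space over a finite field of characteristic 2 (dimension `≥ 2`) which is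
  closed under products with the same axis and under conjugation with transvections, and not trivial, contains every
  transvection;
* `exists_first` : an involution `1 + δ` of `GL(A)` is a transvection or its commutator with some transvection is one.
-/

set_option autoImplicit false

namespace Cfsg.Agent.Omega.NO3b.OneR

universe u v

variable {K : Type u} {A : Type v} [Field K] [Finite K] [AddCommGroup A] [Module K A]

omit [Finite K] in
theorem exists_dual_one {a b : A} (hab : ∀ κ : K, κ • a ≠ b) (ha : a ≠ 0) :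
    ∃ χ : Module.Dual K A, χ a = 1 ∧ χ b = 0 := by
  have h1 : a ∉ Submodule.span K ({b} : Set A) := by
    intro h
    obtain ⟨κ, hκ⟩ := Submodule.mem_span_singleton.1 h
    have hκ0 : κ ≠ 0 := by
      rintro rfl
      rw [zero_smul] at hκ
      exact ha hκ.symm
    apply hab κ⁻¹
    rw [← hκ, smul_smul, inv_mul_cancel₀ hκ0, one_smul]
  obtain ⟨φ, hφ1, hφ2⟩ := Submodule.exists_dual_map_eq_bot_of_notMem h1 inferInstance
  have hφb : φ b = 0 := by
    have h : φ b ∈ (Submodule.span K ({b} : Set A)).map φ := ⟨b, Submodule.mem_span_singleton_self b, rfl⟩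
    rw [hφ2, Submodule.mem_bot] at h
    exact h
  exact ⟨(φ a)⁻¹ • φ, by rw [LinearMap.smul_apply, smul_eq_mul, inv_mul_cancel₀ hφ1],
    by rw [LinearMap.smul_apply, hφb, smul_zero]⟩

/-- **All transvections.** -/
theorem all_tv (hK : ∀ x : K, x + x = 0) (two : ∀ a : A, a + a = 0) (P : Module.Dual K A → A → Prop)
    (add : ∀ φ a b, φ a = 0 → φ b = 0 → P φ a → P φ b → P φ (a + b))
    (scal : ∀ (κ : K) φ a, P (κ • φ) a → P φ (κ • a))
    (scal' : ∀ (κ : K) φ a, P φ (κ • a) → P (κ • φ) a)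
    (conj : ∀ φ a χ b, φ a = 0 → χ b = 0 → P φ a → P (φ + φ b • χ) (a + χ a • b))
    (ne : ∃ (φ : Module.Dual K A) (a : A), φ ≠ 0 ∧ a ≠ 0 ∧ φ a = 0 ∧ P φ a)
    (φ : Module.Dual K A) (a : A) (ha : φ a = 0) : P φ a := by
  classical
  have dtwo : ∀ φ : Module.Dual K A, φ + φ = 0 := fun φ => by
    ext x; exact hK _
  have hsq : ∀ x : K, ∃ y, y * y = x := fun x => by
    have : CharP K 2 := by
      refine CharTwo.of_one_ne_zero_of_two_eq_zero one_ne_zero ?_
      rw [← one_add_one_eq_two]; exact hK 1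
    have hft : Fintype K := Fintype.ofFinite K
    obtain ⟨y, hy⟩ := FiniteField.isSquare_of_char_two (F := K) (by
      rw [ringChar.eq_iff]; exact this) x
    exact ⟨y, hy.symm⟩
  -- `C_φ` is closed under scalars
  have h1 : ∀ (φ : Module.Dual K A) (a : A), φ ≠ 0 → a ≠ 0 → φ a = 0 → P φ a → ∀ κ : K, κ ≠ 0 → P φ (κ • a) := by
    intro φ a hφ0 ha0 ha hP κ hκ0
    obtain ⟨b0, hb0⟩ : ∃ b, φ b ≠ 0 := by
      by_contra hcon
      push Not at hcon
      exact hφ0 (LinearMap.ext hcon)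
    obtain ⟨b, hb⟩ : ∃ b, φ b = 1 := ⟨(φ b0)⁻¹ • b0, by rw [map_smul, smul_eq_mul, inv_mul_cancel₀ hb0]⟩
    obtain ⟨χ, hχa, hχb⟩ := exists_dual_one (K := K) (a := a) (b := b) (fun κ e => by
      have h2 := congrArg φ e
      rw [map_smul, ha, smul_zero, hb] at h2
      exact zero_ne_one h2) ha0
    obtain ⟨μ, hμ⟩ := hsq κ
    have hμ0 : μ ≠ 0 := by
      rintro rfl
      rw [zero_mul] at hμ
      exact hκ0 hμ.symm
    -- `(φ, a) → (φ + χ, a + b)`
    have s1 := conj φ a χ b ha hχb hP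
    rw [hb, hχa, one_smul, one_smul] at s1
    -- `→ (χ, b)`
    have s2 := conj (φ + χ) (a + b) φ a (by
      rw [LinearMap.add_apply, map_add, map_add, ha, hb, hχa, hχb, zero_add, add_zero]; exact hK 1) ha s1
    have e1 : (φ + χ) + (φ + χ) a • φ = χ := by
      rw [LinearMap.add_apply, ha, hχa, zero_add, one_smul]
      calc φ + χ + φ = (φ + φ) + χ := by abel
        _ = χ := by rw [dtwo, zero_add]
    have e2 : (a + b) + φ (a + b) • a = b := by
      rw [map_add, ha, hb, zero_add, one_smul]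
      calc a + b + a = (a + a) + b := by abel
        _ = b := by rw [two, zero_add]
    rw [e1, e2] at s2
    -- `→ (χ + μ φ, b + μ a)`
    have s3 := conj χ b φ (μ • a) hχb (by rw [map_smul, ha, smul_zero]) s2
    have e3 : χ + χ (μ • a) • φ = χ + μ • φ := by rw [map_smul, hχa, smul_eq_mul, mul_one]
    have e4 : b + φ b • μ • a = b + μ • a := by rw [hb, one_smul]
    rw [e3, e4] at s3
    -- `→ (μ φ, μ a)`
    have s4 := conj (χ + μ • φ) (b + μ • a) χ (μ⁻¹ • b) (by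
      rw [LinearMap.add_apply, LinearMap.smul_apply, map_add, map_add, hχb, hb, map_smul, map_smul, hχa, ha, smul_zero,
        zero_add, add_zero]
      exact hK _) (by rw [map_smul, hχb, smul_zero]) s3
    have e5 : (χ + μ • φ) + (χ + μ • φ) (μ⁻¹ • b) • χ = μ • φ := by
      rw [map_smul, LinearMap.add_apply, LinearMap.smul_apply, hχb, hb, zero_add, smul_eq_mul, smul_eq_mul, mul_one,
        inv_mul_cancel₀ hμ0, one_smul]
      calc χ + μ • φ + χ = (χ + χ) + μ • φ := by abel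
        _ = μ • φ := by rw [dtwo, zero_add]
    have e6 : (b + μ • a) + χ (b + μ • a) • μ⁻¹ • b = μ • a := by
      rw [map_add, hχb, map_smul, hχa, zero_add, smul_eq_mul, mul_one, smul_smul, mul_inv_cancel₀ hμ0, one_smul]
      calc b + μ • a + b = (b + b) + μ • a := by abel
        _ = μ • a := by rw [two, zero_add]
    rw [e5, e6] at s4
    have s5 := scal μ φ _ s4
    rwa [smul_smul, hμ] at s5
  -- `C_φ = ker φ`
  have h2 : ∀ (φ : Module.Dual K A), φ ≠ 0 → (∃ a, a ≠ 0 ∧ φ a = 0 ∧ P φ a) → ∀ b, φ b = 0 → P φ b := by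
    rintro φ hφ0 ⟨a, ha0, ha, hP⟩ b hb
    by_cases hb0 : b = 0
    · have h3 := add φ a a ha ha hP hP
      rw [two] at h3
      rwa [hb0]
    by_cases hab : ∃ κ : K, κ • a = b
    · obtain ⟨κ, rfl⟩ := hab
      refine h1 φ a hφ0 ha0 ha hP κ ?_
      rintro rfl
      exact hb0 (zero_smul K a)
    · push Not at hab
      obtain ⟨χ, hχa, hχb⟩ := exists_dual_one hab ha0
      have s1 := conj φ a χ b ha hχb hP
      rw [hb, zero_smul, add_zero, hχa, one_smul] at s1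
      have s2 := add φ a (a + b) ha (by rw [map_add, ha, hb, add_zero]) hP s1
      rwa [← add_assoc, two, zero_add] at s2
  obtain ⟨ψ, c, hψ0, hc0, hc, hPc⟩ := ne
  have hψ := h2 ψ hψ0 ⟨c, hc0, hc, hPc⟩
  by_cases hφ0 : φ = 0
  · subst hφ0
    have h3 := scal' 0 ψ a (by rw [zero_smul]; exact hψ 0 (map_zero _))
    rwa [zero_smul] at h3
  refine h2 φ hφ0 ?_ a ha
  by_cases hdep : ∃ κ : K, φ = κ • ψ
  · obtain ⟨κ, rfl⟩ := hdep
    refine ⟨c, hc0, by rw [LinearMap.smul_apply, hc, smul_zero], scal' κ ψ c (hψ _ (by rw [map_smul, hc, smul_zero]))⟩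
  · push Not at hdep
    -- `b` with `φ b = ψ b = 1`
    obtain ⟨b, hb1, hb2⟩ : ∃ b, ψ b = 1 ∧ φ b = 1 := by
      -- a vector in `ker ψ` not in `ker φ`
      obtain ⟨x, hx1, hx2⟩ : ∃ x, ψ x = 0 ∧ φ x ≠ 0 := by
        by_contra hcon
        push Not at hcon
        obtain ⟨y0, hy0⟩ : ∃ b, ψ b ≠ 0 := by
          by_contra hcon
          push Not at hcon
          exact hψ0 (LinearMap.ext hcon)
        apply hdep (φ y0 * (ψ y0)⁻¹)
        ext z
        have h3 := hcon (z - (ψ z * (ψ y0)⁻¹) • y0) (by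
          rw [map_sub, map_smul, smul_eq_mul, mul_assoc, inv_mul_cancel₀ hy0, mul_one, sub_self])
        rw [map_sub, map_smul, sub_eq_zero] at h3
        rw [h3, LinearMap.smul_apply, smul_eq_mul, smul_eq_mul]
        ring
      obtain ⟨y0, hy0⟩ : ∃ b, ψ b ≠ 0 := by
        by_contra hcon
        push Not at hcon
        exact hψ0 (LinearMap.ext hcon)
      obtain ⟨y, hy⟩ : ∃ y, ψ y = 1 := ⟨(ψ y0)⁻¹ • y0, by rw [map_smul, smul_eq_mul, inv_mul_cancel₀ hy0]⟩
      refine ⟨y + ((1 - φ y) * (φ x)⁻¹) • x, ?_, ?_⟩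
      · rw [map_add, map_smul, hx1, smul_zero, add_zero, hy]
      · rw [map_add, map_smul, smul_eq_mul, mul_assoc, inv_mul_cancel₀ hx2, mul_one]; abel
    -- `a' ∈ ker ψ`
    refine ⟨c + (φ + ψ) c • b, ?_, ?_, ?_⟩
    · intro h0
      apply hc0
      have h3 := congrArg ψ h0
      rw [map_add, map_smul, hc, hb1, zero_add, map_zero, smul_eq_mul, mul_one] at h3
      rwa [h3, zero_smul, add_zero] at h0
    · rw [map_add, map_smul, hb2, LinearMap.add_apply, hc, add_zero, smul_eq_mul, mul_one]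
      exact hK _
    · have s1 := conj ψ c (φ + ψ) b hc (by rw [LinearMap.add_apply, hb1, hb2]; exact hK 1) hPc
      have e1 : ψ + ψ b • (φ + ψ) = φ := by
        rw [hb1, one_smul]
        calc ψ + (φ + ψ) = (ψ + ψ) + φ := by abel
          _ = φ := by rw [dtwo, zero_add]
      rwa [e1] at s1

omit [Finite K] in
/-- an involution `1 + δ` -/
theorem exists_first (δ : A →ₗ[K] A) (h2 : ∀ x, δ (δ x) = 0) (h0 : ∃ x, δ x ≠ 0) :
    (∃ (φ : Module.Dual K A) (a : A), φ ≠ 0 ∧ a ≠ 0 ∧ φ a = 0 ∧ ∀ x, δ x = φ x • a) ∨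
      ∃ (φ : Module.Dual K A) (a : A), φ ≠ 0 ∧ δ a ≠ 0 ∧ φ a = 0 ∧ ∀ x, φ (δ x) = 0 := by
  obtain ⟨a, ha⟩ := h0
  by_cases hex : ∃ φ : Module.Dual K A, φ ≠ 0 ∧ φ a = 0 ∧ ∀ x, φ (δ x) = 0
  · obtain ⟨φ, hφ0, hφa, hφ⟩ := hex
    exact Or.inr ⟨φ, a, hφ0, ha, hφa, hφ⟩
  left
  push Not at hex
  -- `Im δ + K a = A`
  have h3 : LinearMap.range δ ⊔ Submodule.span K ({a} : Set A) = ⊤ := by
    by_contra hne
    obtain ⟨x, -, hx⟩ := SetLike.exists_of_lt (lt_top_iff_ne_top.2 hne)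
    obtain ⟨φ, hφ1, hφ2⟩ := Submodule.exists_dual_map_eq_bot_of_notMem hx inferInstance
    have hz : ∀ y ∈ LinearMap.range δ ⊔ Submodule.span K ({a} : Set A), φ y = 0 := by
      intro y hy
      have h : φ y ∈ (LinearMap.range δ ⊔ Submodule.span K ({a} : Set A)).map φ := ⟨y, hy, rfl⟩
      rw [hφ2, Submodule.mem_bot] at h
      exact h
    obtain ⟨y, hy⟩ := hex φ (by rintro rfl; exact hφ1 rfl)
      (hz a ((le_sup_right : _ ≤ LinearMap.range δ ⊔ _) (Submodule.mem_span_singleton_self a)))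
    exact hy (hz _ ((le_sup_left : LinearMap.range δ ≤ _) ⟨y, rfl⟩))
  -- `Im δ = K δ a`
  have h4 : ∀ x, ∃ κ : K, δ x = κ • δ a := by
    intro x
    have hx : x ∈ LinearMap.range δ ⊔ Submodule.span K ({a} : Set A) := by rw [h3]; trivial
    obtain ⟨y, ⟨z, rfl⟩, w, hw, rfl⟩ := Submodule.mem_sup.1 hx
    obtain ⟨κ, rfl⟩ := Submodule.mem_span_singleton.1 hw
    exact ⟨κ, by rw [map_add, h2, zero_add, map_smul]⟩
  choose c hc using h4
  have huniq : ∀ κ κ' : K, κ • δ a = κ' • δ a → κ = κ' := by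
    intro κ κ' h
    by_contra hne
    apply ha
    have h5 : (κ - κ') • δ a = 0 := by rw [sub_smul, h, sub_self]
    rw [← one_smul K (δ a), ← inv_mul_cancel₀ (sub_ne_zero.2 hne), mul_smul, h5, smul_zero]
  let φ : Module.Dual K A :=
    { toFun := c
      map_add' := fun x y => huniq _ _ (by rw [← hc, map_add, add_smul, ← hc, ← hc])
      map_smul' := fun κ x => huniq _ _ (by rw [← hc, map_smul, RingHom.id_apply, smul_eq_mul, mul_smul, ← hc]) }
  have hφ : ∀ x, φ x = c x := fun _ => rfl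
  have hca : c a = 1 := huniq _ _ (by rw [← hc, one_smul])
  refine ⟨φ, δ a, fun h => ?_, ha, ?_, fun x => by rw [hφ]; exact hc x⟩
  · have h5 := hφ a
    rw [h, hca] at h5
    exact zero_ne_one h5
  · rw [hφ]
    refine huniq _ _ ?_
    rw [← hc, h2, zero_smul]

end Cfsg.Agent.Omega.NO3b.OneR

end
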