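import Mathlib
import Cfsg.Agent.Mrg.Omega.NO3b.Exit.BO

-- merged: Cfsg.Agent.Mrg.Omega.NO3b.Exit.TenBase
section

section


/-!
# The second half of LOC (#18653, helper776), part 1: the situation; (0), (1)

Abstract form.  A finite group `H` acts faithfully on an additive group `U` of exponent 2, `br y u = y • u - u`.

* `Dat Y Q BB V F L C h` : `F ≤ V ≤ C`, `U = L + C`, `L ∩ C = F`; `BB` is trivial on `C` and on `U / C`; `y ∈ BB`
  satisfies `[U, y] ≤ F` or moves `L` (`[l, y] ∈ L` only for `l ∈ F`); `Y` normalises `BB` and is trivial on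
  `U / V`; `Q ≤ Y` is trivial on `U / F` and on `F`; `h` maps `L` onto `V`, is trivial on `F`, and conjugates
  `A₀ = {y ∈ BB | [U, y] ≤ F}` into `Q`; `A₀ ≠ 1`; `Q ≤ N` normal in `Y` implies `N = Y`; a normal subgroup of `Y`
  which acts on `V` as a 2-group centralises `V`;
* `Dat.br_conj` : `[u, k y k⁻¹] = k [u, y]`; `Dat.br_comm` : `[u, [k, y]] = [[u, y], k]` for `k ∈ Y`, `y ∈ BB`;
* `Dat.span` : `V = [L, y] + F`; `Dat.surj` : `[y, Q] = A₀` for `y ∈ BB - A₀`, `[U, y] ≤ V`.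
-/

set_option autoImplicit false

namespace Cfsg.Agent.Omega.NO3b.Exit.Ten

open Subgroup

universe u v

/-! ### Brackets -/

section br

variable {H : Type u} {U : Type v} [Group H] [AddCommGroup U] [DistribMulAction H U]

/-- `[u, y] = y • u - u` -/
def br (y : H) (u : U) : U := y • u - u

theorem br_def (y : H) (u : U) : br y u = y • u - u := rfl

theorem smul_eq (y : H) (u : U) : y • u = br y u + u := by rw [br_def]; abel

theorem br_one (u : U) : br (1 : H) u = 0 := by rw [br_def, one_smul, sub_self]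

theorem br_zero (y : H) : br y (0 : U) = 0 := by rw [br_def, smul_zero, sub_self]

theorem br_add (y : H) (u v : U) : br y (u + v) = br y u + br y v := by
  simp only [br_def, smul_add]; abel

theorem br_neg (y : H) (u : U) : br y (-u) = - br y u := by
  simp only [br_def, smul_neg]; abel

theorem br_sub (y : H) (u v : U) : br y (u - v) = br y u - br y v := by
  simp only [br_def, smul_sub]; abel

theorem br_mul (x y : H) (u : U) : br (x * y) u = br x (br y u) + br y u + br x u := by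
  simp only [br_def, mul_smul, smul_sub]; abel

theorem br_eq_zero {y : H} {u : U} : br y u = 0 ↔ y • u = u := by rw [br_def, sub_eq_zero]

theorem br_conj_smul (k y : H) (u : U) : br (k * y * k⁻¹) (k • u) = k • br y u := by
  simp only [br_def, smul_smul, smul_sub, inv_mul_cancel_right]

end br

/-! ### The situation -/

section dat

variable {H : Type u} {U : Type v} [Group H] [AddCommGroup U] [DistribMulAction H U]

/-- The situation of #18653. -/
structure Dat (Y Q BB : Subgroup H) (V F L C : AddSubgroup U) (h : H) : Prop where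
  faith : ∀ y : H, (∀ u : U, y • u = u) → y = 1
  two : ∀ u : U, u + u = 0
  FV : F ≤ V
  VC : V ≤ C
  FL : F ≤ L
  LC : ∀ u : U, ∃ l ∈ L, ∃ c ∈ C, u = l + c
  LF : ∀ u ∈ L, u ∈ C → u ∈ F
  bC : ∀ y ∈ BB, ∀ c ∈ C, y • c = c
  bU : ∀ y ∈ BB, ∀ u : U, br y u ∈ C
  mov : ∀ y ∈ BB, (∀ u : U, br y u ∈ F) ∨ ∀ l ∈ L, br y l ∈ L → l ∈ F
  yB : ∀ k ∈ Y, ∀ b ∈ BB, k * b * k⁻¹ ∈ BB
  yV : ∀ k ∈ Y, ∀ u : U, br k u ∈ V
  QY : Q ≤ Y
  qF : ∀ d ∈ Q, ∀ f ∈ F, d • f = f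
  qU : ∀ d ∈ Q, ∀ u : U, br d u ∈ F
  hL : ∀ l ∈ L, h • l ∈ V
  hV : ∀ v ∈ V, h⁻¹ • v ∈ L
  hF : ∀ f ∈ F, h • f = f
  hA : ∀ y ∈ BB, (∀ u : U, br y u ∈ F) → h * y * h⁻¹ ∈ Q
  ne : ∃ y ∈ BB, y ≠ 1 ∧ ∀ u : U, br y u ∈ F
  gen : ∀ N : Subgroup H, N ≤ Y → (∀ k ∈ Y, ∀ n ∈ N, k * n * k⁻¹ ∈ N) → Q ≤ N → Y ≤ N
  red : ∀ N : Subgroup H, N ≤ Y → (∀ k ∈ Y, ∀ n ∈ N, k * n * k⁻¹ ∈ N) →
    (∀ n ∈ N, ∃ j : ℕ, ∀ v ∈ V, n ^ 2 ^ j • v = v) → ∀ n ∈ N, ∀ v ∈ V, n • v = v

namespace Dat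

variable {Y Q BB : Subgroup H} {V F L C : AddSubgroup U} {h : H} (D : Dat Y Q BB V F L C h)
include D

theorem ext {x y : H} (hxy : ∀ u : U, br x u = br y u) : x = y := by
  have h1 : y⁻¹ * x = 1 := D.faith _ fun u => by
    rw [mul_smul, smul_eq x u, hxy u, ← smul_eq y u, inv_smul_smul]
  exact (inv_mul_eq_one.1 h1).symm

theorem neg_eq (u : U) : -u = u := neg_eq_of_add_eq_zero_left (D.two u)

theorem sub_eq_add (u v : U) : u - v = u + v := by rw [sub_eq_add_neg, D.neg_eq]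

theorem br_C {y : H} (hy : y ∈ BB) {c : U} (hc : c ∈ C) : br y c = 0 := br_eq_zero.2 (D.bC y hy c hc)

theorem br_V {y : H} (hy : y ∈ BB) {c : U} (hc : c ∈ V) : br y c = 0 := D.br_C hy (D.VC hc)

theorem br_mul_B {x y : H} (hx : x ∈ BB) (hy : y ∈ BB) (u : U) : br (x * y) u = br x u + br y u := by
  rw [br_mul, D.br_C hx (D.bU y hy u), zero_add, add_comm]

theorem sq_B {y : H} (hy : y ∈ BB) : y * y = 1 :=
  D.ext fun u => by rw [D.br_mul_B hy hy, D.two, br_one]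

theorem comm_B {x y : H} (hx : x ∈ BB) (hy : y ∈ BB) : x * y = y * x :=
  D.ext fun u => by rw [D.br_mul_B hx hy, D.br_mul_B hy hx, add_comm]

theorem inv_B {y : H} (hy : y ∈ BB) : y⁻¹ = y := inv_eq_of_mul_eq_one_left (D.sq_B hy)

theorem smul_V {k : H} (hk : k ∈ Y) {v : U} (hv : v ∈ V) : k • v ∈ V := by
  rw [smul_eq]; exact V.add_mem (D.yV k hk v) hv

theorem smul_C {k : H} (hk : k ∈ Y) {v : U} (hv : v ∈ C) : k • v ∈ C := by
  rw [smul_eq]; exact C.add_mem (D.VC (D.yV k hk v)) hv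

/-- `[u, k y k⁻¹] = k [u, y]`, if `k` is trivial on `U / C` -/
theorem br_conj' {k y : H} (hk : ∀ u : U, br k⁻¹ u ∈ C) (hy : y ∈ BB) (u : U) :
    br (k * y * k⁻¹) u = k • br y u := by
  have e : u = k • (k⁻¹ • u) := (smul_inv_smul k u).symm
  conv_lhs => rw [e]
  rw [br_conj_smul, smul_eq k⁻¹ u, br_add, D.br_C hy (hk u), zero_add]

/-- `[u, k y k⁻¹] = k [u, y]` -/
theorem br_conj {k y : H} (hk : k ∈ Y) (hy : y ∈ BB) (u : U) : br (k * y * k⁻¹) u = k • br y u :=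
  D.br_conj' (fun u => D.VC (D.yV _ (inv_mem hk) u)) hy u

/-- `[u, [k, y]] = [[u, y], k]` -/
theorem br_comm {k y : H} (hk : k ∈ Y) (hy : y ∈ BB) (u : U) :
    br (k * y * k⁻¹ * y⁻¹) u = br k (br y u) := by
  rw [D.inv_B hy, D.br_mul_B (D.yB k hk y hy) hy, D.br_conj hk hy, br_def k, D.sub_eq_add]

theorem comm_mem {k y : H} (hk : k ∈ Y) (hy : y ∈ BB) : k * y * k⁻¹ * y⁻¹ ∈ BB :=
  mul_mem (D.yB k hk y hy) (inv_mem hy)

/-- an element of `BB` is determined by its action on `L` -/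
theorem eq_one {y : H} (hy : y ∈ BB) (hl : ∀ l ∈ L, br y l = 0) : y = 1 :=
  D.ext fun u => by
    obtain ⟨l, hlL, c, hc, rfl⟩ := D.LC u
    rw [br_add, hl l hlL, D.br_C hy hc, add_zero, br_one]

/-- `A₀` -/
def AZ : Subgroup H where
  carrier := {y | y ∈ BB ∧ ∀ u : U, br y u ∈ F}
  one_mem' := ⟨one_mem _, fun u => by rw [br_one]; exact zero_mem _⟩
  mul_mem' := by
    rintro x y ⟨hx, hx'⟩ ⟨hy, hy'⟩
    exact ⟨mul_mem hx hy, fun u => by rw [D.br_mul_B hx hy]; exact F.add_mem (hx' u) (hy' u)⟩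
  inv_mem' := by
    rintro x ⟨hx, hx'⟩
    rw [D.inv_B hx]
    exact ⟨hx, hx'⟩

theorem mem_AZ {y : H} : y ∈ D.AZ ↔ y ∈ BB ∧ ∀ u : U, br y u ∈ F := Iff.rfl

theorem AZ_le : D.AZ ≤ BB := fun _ hy => hy.1

theorem inj {y : H} (hy : y ∈ BB) (hy' : y ∉ D.AZ) {l : U} (hl : l ∈ L) (hb : br y l ∈ L) : l ∈ F := by
  rcases D.mov y hy with h1 | h1
  · exact absurd ⟨hy, h1⟩ hy'
  · exact h1 l hl hb

theorem inj0 {y : H} (hy : y ∈ BB) (hy' : y ∉ D.AZ) {l : U} (hl : l ∈ L) (hb : br y l = 0) : l ∈ F :=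
  D.inj hy hy' hl (by rw [hb]; exact zero_mem _)

/-- `Q` centralises `A₀` -/
theorem br_Q_AZ {d y : H} (hd : d ∈ Q) (hy : y ∈ D.AZ) : d * y * d⁻¹ = y := by
  have h1 : d * y * d⁻¹ * y⁻¹ = 1 := D.ext fun u => by
    rw [D.br_comm (D.QY hd) hy.1, br_eq_zero.2 (D.qF d hd _ (hy.2 u)), br_one]
  exact mul_inv_eq_one.1 h1

/-- `[BB, Q] ≤ A₀` -/
theorem comm_Q {d y : H} (hd : d ∈ Q) (hy : y ∈ BB) : d * y * d⁻¹ * y⁻¹ ∈ D.AZ :=
  ⟨D.comm_mem (D.QY hd) hy, fun u => by rw [D.br_comm (D.QY hd) hy]; exact D.qU d hd _⟩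

/-- `Q` is elementary abelian. -/
theorem Q_comm {d d' : H} (hd : d ∈ Q) (hd' : d' ∈ Q) : d * d' = d' * d :=
  D.ext fun u => by
    rw [br_mul, br_mul, br_eq_zero.2 (D.qF d hd _ (D.qU d' hd' u)),
      br_eq_zero.2 (D.qF d' hd' _ (D.qU d hd u)), zero_add, zero_add, add_comm]

theorem Q_sq {d : H} (hd : d ∈ Q) : d * d = 1 :=
  D.ext fun u => by
    rw [br_mul, br_eq_zero.2 (D.qF d hd _ (D.qU d hd u)), zero_add, D.two, br_one]

/-- `[u, h s h⁻¹] = [h⁻¹ u, s]` for `s ∈ A₀` -/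
theorem br_h {s : H} (hs : s ∈ D.AZ) (u : U) : br (h * s * h⁻¹) u = br s (h⁻¹ • u) := by
  have e : u = h • (h⁻¹ • u) := (smul_inv_smul h u).symm
  conv_lhs => rw [e]
  rw [br_conj_smul, D.hF _ (hs.2 _)]

/-- `h s h⁻¹` is faithful on `V` -/
theorem h_faith {s : H} (hs : s ∈ D.AZ) (h1 : ∀ v ∈ V, br (h * s * h⁻¹) v = 0) : s = 1 := by
  refine D.eq_one hs.1 fun l hl => ?_
  have h2 := h1 (h • l) (D.hL l hl)
  rwa [D.br_h hs, inv_smul_smul] at h2

variable [Finite U]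

/-- `V = [L, y] + F` -/
theorem span {y : H} (hy : y ∈ BB) (hy' : y ∉ D.AZ) (hV : ∀ u : U, br y u ∈ V) {v : U} (hv : v ∈ V) :
    ∃ l ∈ L, ∃ f ∈ F, v = br y l + f := by
  classical
  -- the map `L → V / F`
  let θ : L →+ V ⧸ F.addSubgroupOf V :=
    { toFun := fun l => QuotientAddGroup.mk (⟨br y (l : U), hV l⟩ : V)
      map_zero' := by
        have e : (⟨br y ((0 : L) : U), hV _⟩ : V) = 0 := Subtype.ext (br_zero y)
        rw [e]; rfl
      map_add' := fun a b => by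
        have e : (⟨br y ((a + b : L) : U), hV _⟩ : V) = ⟨br y (a : U), hV a⟩ + ⟨br y (b : U), hV b⟩ :=
          Subtype.ext (br_add y (a : U) b)
        rw [e]; rfl }
  have hker : θ.ker = F.addSubgroupOf L := by
    ext l
    rw [AddMonoidHom.mem_ker]
    change (QuotientAddGroup.mk (⟨br y (l : U), hV l⟩ : V) : V ⧸ F.addSubgroupOf V) = 0 ↔ _
    rw [QuotientAddGroup.eq_zero_iff, AddSubgroup.mem_addSubgroupOf, AddSubgroup.mem_addSubgroupOf]
    constructor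
    · intro h1
      exact D.inj hy hy' l.2 (D.FL h1)
    · intro h1
      change br y (l : U) ∈ F
      rw [D.br_C hy (D.VC (D.FV h1))]
      exact zero_mem _
  have hLV : Nat.card L = Nat.card V := by
    refine Nat.card_congr ⟨fun l => ⟨h • (l : U), D.hL l l.2⟩, fun v => ⟨h⁻¹ • (v : U), D.hV v v.2⟩,
      fun l => Subtype.ext (inv_smul_smul h _), fun v => Subtype.ext (smul_inv_smul h _)⟩
  have c1 : Nat.card θ.ker * Nat.card θ.range = Nat.card L := by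
    rw [← AddSubgroup.index_ker]
    exact θ.ker.card_mul_index
  have c2 : Nat.card (F.addSubgroupOf V) * Nat.card (V ⧸ F.addSubgroupOf V) = Nat.card V :=
    (F.addSubgroupOf V).card_mul_index
  have c3 : Nat.card θ.ker = Nat.card F := by
    rw [hker]
    exact Nat.card_congr (AddSubgroup.addSubgroupOfEquivOfLe D.FL).toEquiv
  have c4 : Nat.card (F.addSubgroupOf V) = Nat.card F :=
    Nat.card_congr (AddSubgroup.addSubgroupOfEquivOfLe D.FV).toEquiv
  have hF0 : 0 < Nat.card F := Nat.card_pos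
  have c5 : Nat.card θ.range = Nat.card (V ⧸ F.addSubgroupOf V) := by
    refine Nat.eq_of_mul_eq_mul_left hF0 ?_
    rw [← c3, c1, hLV, ← c2, c3, c4]
  have c6 : θ.range = ⊤ := AddSubgroup.eq_top_of_card_eq _ c5
  have h1 : (QuotientAddGroup.mk (⟨v, hv⟩ : V) : V ⧸ F.addSubgroupOf V) ∈ θ.range := by
    rw [c6]; trivial
  obtain ⟨l, hl⟩ := h1
  have h2 := QuotientAddGroup.eq.1 hl
  rw [AddSubgroup.mem_addSubgroupOf] at h2
  refine ⟨l, l.2, _, h2, ?_⟩
  change v = br y (l : U) + (-br y (l : U) + v)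
  abel

/-- **(1)** `[y, Q] = A₀` -/
theorem surj [Finite H] {y : H} (hy : y ∈ BB) (hy' : y ∉ D.AZ) (hV : ∀ u : U, br y u ∈ V) {s : H}
    (hs : s ∈ D.AZ) : ∃ d ∈ Q, d * y * d⁻¹ * y⁻¹ = s := by
  classical
  have hQ : ∀ s ∈ D.AZ, h * s * h⁻¹ ∈ Q := fun s hs => D.hA s hs.1 hs.2
  let φ : D.AZ → D.AZ := fun s =>
    ⟨h * (s : H) * h⁻¹ * y * (h * (s : H) * h⁻¹)⁻¹ * y⁻¹, D.comm_Q (hQ s s.2) hy⟩
  have hφ : Function.Injective φ := by
    intro s t hst
    have h1 : h * (s : H) * h⁻¹ * y * (h * (s : H) * h⁻¹)⁻¹ * y⁻¹ =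
        h * (t : H) * h⁻¹ * y * (h * (t : H) * h⁻¹)⁻¹ * y⁻¹ := congrArg Subtype.val hst
    -- `s t⁻¹` is trivial on `V`
    have h2 : ∀ u : U, br (h * (s : H) * h⁻¹) (br y u) = br (h * (t : H) * h⁻¹) (br y u) := by
      intro u
      rw [← D.br_comm (D.QY (hQ s s.2)) hy, h1, D.br_comm (D.QY (hQ t t.2)) hy]
    have h3 : ∀ v ∈ V, br (h * (s : H) * h⁻¹) v = br (h * (t : H) * h⁻¹) v := by
      intro v hv
      obtain ⟨l, hl, f, hf, rfl⟩ := D.span hy hy' hV hv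
      rw [br_add, br_add, h2, br_eq_zero.2 (D.qF _ (hQ s s.2) f hf), br_eq_zero.2 (D.qF _ (hQ t t.2) f hf)]
    have h4 : (s : H) * (t : H) = 1 := by
      refine D.h_faith (mul_mem s.2 t.2) fun v hv => ?_
      have e : h * ((s : H) * (t : H)) * h⁻¹ = h * (s : H) * h⁻¹ * (h * (t : H) * h⁻¹) := by group
      rw [e, br_mul, br_eq_zero.2 (D.qF _ (hQ s s.2) _ (D.qU _ (hQ t t.2) v)), zero_add, h3 v hv, D.two]
    have h5 := D.sq_B (D.AZ_le t.2)
    exact Subtype.ext (mul_right_cancel (h4.trans h5.symm))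
  obtain ⟨t, ht⟩ := (Finite.injective_iff_surjective.1 hφ) ⟨s, hs⟩
  exact ⟨_, hQ t t.2, congrArg Subtype.val ht⟩

end Dat

end dat

end Cfsg.Agent.Omega.NO3b.Exit.Ten

end

section


/-!
# The second half of LOC (#18653, helper776), part 2: (2), (3), (4) first part

`D : Dat Y Q BB V F L C h`.

* `Y0 Y` : the subgroup generated by the elements of odd order of `Y`; `Dat.exists_mul` : `Y = Y0 Q`;
* `Dat.AA` : `[BB, O²(Y)]`; `AA_V` : `[U, AA] ≤ V`; `AA_le_of` : coprime action;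
* `Dat.eq_one_of_fix` : **(2)** `s ∈ A₀` fixed by `Y0` is trivial;
* `Dat.exists_notMem` : **(3)** `AA ≰ A₀`; `AZ_le_AA`; `fix_eq_one` : `C_AA(Y0) = 1`;
* `Dat.irr` : `AA` is an irreducible `Y`-module.
-/

set_option autoImplicit false

namespace Cfsg.Agent.Omega.NO3b.Exit.Ten

open Subgroup

universe u v

/-! ### Maximal subgroups over `O^p` -/

theorem normal_of_coatom {Y : Type u} [Group Y] [Finite Y] {O : Subgroup Y} [hO : O.Normal]
    (h2 : IsPGroup 2 (Y ⧸ O)) {K : Subgroup Y} (hK : IsCoatom K) (hOK : O ≤ K) : K.Normal := by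
  have : Fact (Nat.Prime 2) := ⟨Nat.prime_two⟩
  have hnil : Group.IsNilpotent (Y ⧸ O) := h2.isNilpotent
  have e1 : (K.map (QuotientGroup.mk' O)).comap (QuotientGroup.mk' O) = K := by
    rw [QuotientGroup.comap_map_mk', sup_eq_right.2 hOK]
  have hco : IsCoatom (K.map (QuotientGroup.mk' O)) := by
    constructor
    · intro h
      rw [h, comap_top] at e1
      exact hK.1 e1.symm
    · intro N hN
      have h3 : K < N.comap (QuotientGroup.mk' O) := by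
        refine lt_of_le_of_ne (map_le_iff_le_comap.1 hN.le) fun h4 => ?_
        apply hN.ne
        rw [h4, map_comap_eq_self_of_surjective (QuotientGroup.mk'_surjective O)]
      have h4 := hK.2 _ h3
      rw [← map_comap_eq_self_of_surjective (QuotientGroup.mk'_surjective O) N, h4,
        map_top_of_surjective _ (QuotientGroup.mk'_surjective O)]
  have hn : (K.map (QuotientGroup.mk' O)).Normal :=
    NormalizerCondition.normal_of_coatom _ (Group.normalizerCondition_of_isNilpotent) hco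
  rw [← e1]
  exact hn.comap _

section y0

variable {H : Type u} [Group H]

/-- The subgroup generated by the elements of odd order of `Y`. -/
def Y0 (Y : Subgroup H) : Subgroup H := closure {k | k ∈ Y ∧ Odd (orderOf k)}

theorem Y0_le (Y : Subgroup H) : Y0 Y ≤ Y := (closure_le _).2 fun _ hk => hk.1

theorem orderOf_conj' (k n : H) : orderOf (k * n * k⁻¹) = orderOf n :=
  orderOf_injective (MulAut.conj k).toMonoidHom (MulAut.conj k).injective n

theorem Y0_conj {Y : Subgroup H} {k n : H} (hk : k ∈ Y) (hn : n ∈ Y0 Y) : k * n * k⁻¹ ∈ Y0 Y := by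
  induction hn using closure_induction with
  | mem x hx => exact subset_closure ⟨mul_mem (mul_mem hk hx.1) (inv_mem hk), by rw [orderOf_conj']; exact hx.2⟩
  | one => rw [mul_one, mul_inv_cancel]; exact one_mem _
  | mul x y _ _ hx hy =>
    have e : k * (x * y) * k⁻¹ = k * x * k⁻¹ * (k * y * k⁻¹) := by group
    rw [e]; exact mul_mem hx hy
  | inv x _ hx =>
    have e : k * x⁻¹ * k⁻¹ = (k * x * k⁻¹)⁻¹ := by group
    rw [e]; exact inv_mem hx

/-- `Y = Y0 Q` if the normal closure of `Q` in `Y` is `Y`. -/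
theorem exists_mul_of [Finite H] {Y Q : Subgroup H} (hQY : Q ≤ Y)
    (hgen : ∀ N : Subgroup H, N ≤ Y → (∀ k ∈ Y, ∀ n ∈ N, k * n * k⁻¹ ∈ N) → Q ≤ N → Y ≤ N) {k : H} (hk : k ∈ Y) :
    ∃ k0 ∈ Y0 Y, ∃ d ∈ Q, k = k0 * d := by
  have hO : ((Y0 Y).subgroupOf Y).Normal := ⟨fun n hn g => by
    rw [mem_subgroupOf] at hn ⊢
    exact Y0_conj g.2 hn⟩
  have h2 : IsPGroup 2 (Y ⧸ (Y0 Y).subgroupOf Y) := by
    intro q
    induction q using QuotientGroup.induction_on with | _ x =>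
    obtain ⟨a, m, hm, h⟩ := Nat.exists_eq_two_pow_mul_odd (n := orderOf (x : H)) (orderOf_pos _).ne'
    refine ⟨a, ?_⟩
    rw [← QuotientGroup.mk_pow, QuotientGroup.eq_one_iff, mem_subgroupOf]
    refine subset_closure ⟨pow_mem x.2 _, ?_⟩
    have h1 : ((x : H) ^ 2 ^ a) ^ m = 1 := by
      rw [← pow_mul, ← h, pow_orderOf_eq_one]
    exact Odd.of_dvd_nat hm (orderOf_dvd_of_pow_eq_one h1)
  have htop : (Y0 Y).subgroupOf Y ⊔ Q.subgroupOf Y = ⊤ := by
    by_contra hne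
    obtain ⟨K, hK, hle⟩ := (eq_top_or_exists_le_coatom ((Y0 Y).subgroupOf Y ⊔ Q.subgroupOf Y)).resolve_left hne
    have hKn := normal_of_coatom h2 hK (le_sup_left.trans hle)
    have h3 : Y ≤ K.map Y.subtype := by
      refine hgen _ (map_subtype_le K) ?_ ?_
      · rintro g hg _ ⟨n, hn, rfl⟩
        exact ⟨⟨g, hg⟩ * n * ⟨g, hg⟩⁻¹, hKn.conj_mem n hn ⟨g, hg⟩, rfl⟩
      · intro d hd
        exact ⟨⟨d, hQY hd⟩, hle (le_sup_right (a := (Y0 Y).subgroupOf Y) hd), rfl⟩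
    apply hK.1
    rw [eq_top_iff]
    intro x _
    obtain ⟨y, hy, hyx⟩ := h3 x.2
    rwa [← Subtype.ext hyx]
  have h3 : (⟨k, hk⟩ : Y) ∈ (Y0 Y).subgroupOf Y ⊔ Q.subgroupOf Y := by rw [htop]; trivial
  rw [mem_sup_of_normal_left] at h3
  obtain ⟨a, ha, b, hb, hab⟩ := h3
  exact ⟨a, ha, b, hb, (congrArg Subtype.val hab).symm⟩

end y0

/-! ### Coprime commutators -/

section cop

variable {H : Type u} {U : Type v} [Group H] [AddCommGroup U] [DistribMulAction H U]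

theorem br_sq (two : ∀ u : U, u + u = 0) (k : H) (u : U) : br (k ^ 2) u = br k (br k u) := by
  rw [pow_two, br_mul, add_assoc, two, add_zero]

theorem br_pow (two : ∀ u : U, u + u = 0) (k : H) (j : ℕ) (u : U) : br (k ^ 2 ^ j) u = (br k)^[2 ^ j] u := by
  induction j generalizing u with
  | zero => simp
  | succ j ih =>
    rw [pow_succ 2 j, pow_mul, br_sq two, ih, ih, ← Function.iterate_add_apply, ← mul_two]

/-- an odd order element is a `2^j`-th power of itself -/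
theorem exists_pow_eq {k : H} (hk : Odd (orderOf k)) : ∃ j : ℕ, k ^ 2 ^ (j + 1) = k := by
  have hc : Nat.Coprime 2 (orderOf k) := (Nat.coprime_two_left).2 hk
  have h0 : 0 < orderOf k := hk.pos
  have h1 := Nat.ModEq.pow_totient hc
  have h2 : 0 < (orderOf k).totient := Nat.totient_pos.2 h0
  refine ⟨(orderOf k).totient - 1, ?_⟩
  rw [Nat.sub_add_cancel h2]
  have h3 : k ^ 2 ^ (orderOf k).totient = k ^ 1 := by
    rw [pow_eq_pow_iff_modEq]
    exact h1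
  rw [h3, pow_one]

end cop

section dat

variable {H : Type u} {U : Type v} [Group H] [AddCommGroup U] [DistribMulAction H U]

/-- `[k, y]` -/
def cm (k y : H) : H := k * y * k⁻¹ * y⁻¹

/-- `[BB, O²(Y)]` -/
def AAs (Y BB : Subgroup H) : Subgroup H :=
  closure {x | ∃ k ∈ Y, Odd (orderOf k) ∧ ∃ y ∈ BB, x = cm k y}

namespace Dat

variable {Y Q BB : Subgroup H} {V F L C : AddSubgroup U} {h : H}

/-- `AA = [BB, O²(Y)]` -/
def AA (_D : Dat Y Q BB V F L C h) : Subgroup H := AAs Y BB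

variable (D : Dat Y Q BB V F L C h)
include D

theorem cm_mem {k y : H} (hk : k ∈ Y) (hy : y ∈ BB) : cm k y ∈ BB := D.comm_mem hk hy

theorem br_cm {k y : H} (hk : k ∈ Y) (hy : y ∈ BB) (u : U) : br (cm k y) u = br k (br y u) :=
  D.br_comm hk hy u

theorem cm_iter {k y : H} (hk : k ∈ Y) (hy : y ∈ BB) (n : ℕ) :
    (cm k)^[n] y ∈ BB ∧ ∀ u : U, br ((cm k)^[n] y) u = (br k)^[n] (br y u) := by
  induction n with
  | zero => exact ⟨hy, fun u => rfl⟩
  | succ n ih =>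
    rw [Function.iterate_succ_apply']
    refine ⟨D.cm_mem hk ih.1, fun u => ?_⟩
    rw [D.br_cm hk ih.1, ih.2, Function.iterate_succ_apply']

/-- `[k, y]` is a repeated commutator -/
theorem cm_eq {k y : H} (hk : k ∈ Y) (ho : Odd (orderOf k)) (hy : y ∈ BB) :
    ∃ y' ∈ BB, cm k y = cm k (cm k y') := by
  obtain ⟨j, hj⟩ := exists_pow_eq ho
  have h1 : cm k y = (cm k)^[2 ^ (j + 1)] y := D.ext fun u => by
    rw [(D.cm_iter hk hy _).2, D.br_cm hk hy, ← br_pow D.two, hj]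
  obtain ⟨n, hn⟩ : ∃ n, 2 ^ (j + 1) = n + 2 :=
    ⟨2 ^ (j + 1) - 2, by
      have : 2 ≤ 2 ^ (j + 1) := by rw [pow_succ]; have := Nat.one_le_two_pow (n := j); omega
      omega⟩
  refine ⟨(cm k)^[n] y, (D.cm_iter hk hy n).1, ?_⟩
  rw [h1, hn, Function.iterate_add_apply]
  have h2 : (cm k)^[2] y = cm k (cm k y) := rfl
  rw [← Function.iterate_add_apply, add_comm, Function.iterate_add_apply]
  rfl

theorem AA_le : D.AA ≤ BB := by
  refine (closure_le _).2 ?_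
  rintro _ ⟨k, hk, -, y, hy, rfl⟩
  exact D.cm_mem hk hy

theorem AA_conj {k x : H} (hk : k ∈ Y) (hx : x ∈ D.AA) : k * x * k⁻¹ ∈ D.AA := by
  induction hx using closure_induction with
  | mem x hx =>
    obtain ⟨g, hg, ho, y, hy, rfl⟩ := hx
    refine subset_closure ⟨k * g * k⁻¹, mul_mem (mul_mem hk hg) (inv_mem hk), by rw [orderOf_conj']; exact ho,
      k * y * k⁻¹, D.yB k hk y hy, ?_⟩
    unfold cm; group
  | one => rw [mul_one, mul_inv_cancel]; exact one_mem _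
  | mul x y _ _ hx hy =>
    have e : k * (x * y) * k⁻¹ = k * x * k⁻¹ * (k * y * k⁻¹) := by group
    rw [e]; exact mul_mem hx hy
  | inv x _ hx =>
    have e : k * x⁻¹ * k⁻¹ = (k * x * k⁻¹)⁻¹ := by group
    rw [e]; exact inv_mem hx

theorem AA_V {x : H} (hx : x ∈ D.AA) (u : U) : br x u ∈ V := by
  have key : x ∈ BB ∧ br x u ∈ V := by
    induction hx using closure_induction with
    | mem x hx =>
      obtain ⟨g, hg, ho, y, hy, rfl⟩ := hx
      exact ⟨D.cm_mem hg hy, by rw [D.br_cm hg hy]; exact D.yV g hg _⟩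
    | one => exact ⟨one_mem _, by rw [br_one]; exact zero_mem _⟩
    | mul x y _ _ hx hy => exact ⟨mul_mem hx.1 hy.1, by rw [D.br_mul_B hx.1 hy.1]; exact V.add_mem hx.2 hy.2⟩
    | inv x _ hx => rw [D.inv_B hx.1]; exact hx
  exact key.2

/-- `[Y0, BB] ≤ AA` -/
theorem cm_mem_AA {k y : H} (hk : k ∈ Y0 Y) (hy : y ∈ BB) : cm k y ∈ D.AA := by
  induction hk using closure_induction generalizing y with
  | mem k hk => exact subset_closure ⟨k, hk.1, hk.2, y, hy, rfl⟩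
  | one =>
    have e : cm 1 y = 1 := by unfold cm; group
    rw [e]; exact one_mem _
  | mul a b ha hb iha ihb =>
    have e : cm (a * b) y = a * cm b y * a⁻¹ * cm a y := by unfold cm; group
    rw [e]
    exact mul_mem (D.AA_conj (Y0_le Y ha) (ihb hy)) (iha hy)
  | inv a ha iha =>
    have e : cm a⁻¹ y = (a⁻¹ * cm a y * a⁻¹⁻¹)⁻¹ := by unfold cm; group
    rw [e]
    exact inv_mem (D.AA_conj (inv_mem (Y0_le Y ha)) (iha hy))

/-- Coprime action: `[AA, Y0] ≤ N` implies `AA ≤ N`. -/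
theorem AA_le_of {N : Subgroup H} (hN : ∀ k ∈ Y0 Y, ∀ y ∈ D.AA, cm k y ∈ N) : D.AA ≤ N := by
  refine (closure_le _).2 ?_
  rintro _ ⟨k, hk, ho, y, hy, rfl⟩
  obtain ⟨y', hy', e⟩ := D.cm_eq hk ho hy
  rw [e]
  have hk0 : k ∈ Y0 Y := subset_closure ⟨hk, ho⟩
  exact hN k hk0 _ (D.cm_mem_AA hk0 hy')

variable [Finite H]

theorem exists_mul {k : H} (hk : k ∈ Y) : ∃ k0 ∈ Y0 Y, ∃ d ∈ Q, k = k0 * d :=
  exists_mul_of D.QY D.gen hk

omit [Finite H] in
/-- A normal subgroup of `Y` which is trivial on `X` and on `V / X` centralises `V`. -/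
theorem red2 {X : AddSubgroup U} {N : Subgroup H} (hN : N ≤ Y) (hn : ∀ k ∈ Y, ∀ n ∈ N, k * n * k⁻¹ ∈ N)
    (h1 : ∀ n ∈ N, ∀ x ∈ X, n • x = x) (h2 : ∀ n ∈ N, ∀ v ∈ V, br n v ∈ X) : ∀ n ∈ N, ∀ v ∈ V, n • v = v := by
  refine D.red N hN hn fun n hnN => ⟨1, fun v hv => ?_⟩
  rw [pow_one, ← br_eq_zero, br_sq D.two, br_eq_zero.2 (h1 n hnN _ (h2 n hnN v hv))]

/-- **(2)** -/
theorem eq_one_of_fix {s : H} (hs : s ∈ D.AZ) (hf : ∀ k ∈ Y0 Y, k * s * k⁻¹ = s) : s = 1 := by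
  have hd : h * s * h⁻¹ ∈ Q := D.hA s hs.1 hs.2
  have hdY := D.QY hd
  -- `C_V(Y0)`
  let X : AddSubgroup U :=
    { carrier := {v | v ∈ V ∧ ∀ k ∈ Y0 Y, k • v = v}
      zero_mem' := ⟨zero_mem _, fun k _ => smul_zero k⟩
      add_mem' := fun {a b} ha hb => ⟨V.add_mem ha.1 hb.1, fun k hk => by rw [smul_add, ha.2 k hk, hb.2 k hk]⟩
      neg_mem' := fun {a} ha => ⟨V.neg_mem ha.1, fun k hk => by rw [smul_neg, ha.2 k hk]⟩ }
  have hXY : ∀ k ∈ Y, ∀ x ∈ X, k • x ∈ X := by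
    intro k hk x hx
    refine ⟨D.smul_V hk hx.1, fun g hg => ?_⟩
    have h1 := hx.2 _ (Y0_conj (inv_mem hk) hg)
    have e : g • k • x = k • ((k⁻¹ * g * k⁻¹⁻¹) • x) := by
      rw [smul_smul, smul_smul]; congr 1; group
    rw [e, h1]
  -- `[U, d] ≤ C_V(Y0)`
  have hdX : ∀ u : U, br (h * s * h⁻¹) u ∈ X := by
    intro u
    rw [D.br_h hs]
    refine ⟨D.FV (hs.2 _), fun k hk => ?_⟩
    have h1 := D.br_conj (Y0_le Y hk) hs.1 (h⁻¹ • u)
    rw [hf k hk] at h1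
    exact h1.symm
  -- `Y* ∩ Y0` is trivial on `V`
  let N : Subgroup H :=
    { carrier := {k | k ∈ Y0 Y ∧ ∀ v ∈ V, br k v ∈ X}
      one_mem' := ⟨one_mem _, fun v _ => by rw [br_one]; exact zero_mem _⟩
      mul_mem' := fun {a b} ha hb => ⟨mul_mem ha.1 hb.1, fun v hv => by
        rw [br_mul, br_eq_zero.2 ((hb.2 v hv).2 a ha.1), zero_add]
        exact X.add_mem (hb.2 v hv) (ha.2 v hv)⟩
      inv_mem' := fun {a} ha => ⟨inv_mem ha.1, fun v hv => by
        have h1 := ha.2 (a⁻¹ • v) (D.smul_V (inv_mem (Y0_le Y ha.1)) hv)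
        have e : br a⁻¹ v = - br a (a⁻¹ • v) := by
          rw [br_def, br_def, smul_inv_smul]; abel
        rw [e]; exact X.neg_mem h1⟩ }
  have hN : ∀ n ∈ N, ∀ v ∈ V, n • v = v := by
    refine D.red2 (X := X) (fun n hn => Y0_le Y hn.1) (fun k hk n hn => ⟨Y0_conj hk hn.1, fun v hv => ?_⟩)
      (fun n hn x hx => hx.2 n hn.1) fun n hn v hv => hn.2 v hv
    have e : v = k • (k⁻¹ • v) := (smul_inv_smul k v).symm
    rw [e, br_conj_smul]
    exact hXY k hk _ (hn.2 _ (D.smul_V (inv_mem hk) hv))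
  -- `d` commutes with `Y0` on `V`
  have hcY0 : ∀ k ∈ Y0 Y, ∀ v ∈ V, (h * s * h⁻¹ * k) • v = (k * (h * s * h⁻¹)) • v := by
    intro k hk v hv
    have hmem : h * s * h⁻¹ * k * (h * s * h⁻¹)⁻¹ * k⁻¹ ∈ N := by
      refine ⟨mul_mem (Y0_conj hdY hk) (inv_mem hk), fun w hw => ?_⟩
      -- modulo `X`
      have a1 : ∀ w ∈ V, ∃ x ∈ X, (h * s * h⁻¹) • w = x + w := fun w _ => ⟨_, hdX w, smul_eq _ _⟩
      have a2 : ∀ w ∈ V, ∃ x ∈ X, (h * s * h⁻¹)⁻¹ • w = x + w := fun w _ => by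
        rw [inv_eq_of_mul_eq_one_left (D.Q_sq hd)]
        exact ⟨_, hdX w, smul_eq _ _⟩
      obtain ⟨x1, hx1, e1⟩ := a2 (k⁻¹ • w) (D.smul_V (inv_mem (Y0_le Y hk)) hw)
      obtain ⟨x2, hx2, e2⟩ := a1 (x1 + w) (V.add_mem hx1.1 hw)
      have e3 : (h * s * h⁻¹ * k * (h * s * h⁻¹)⁻¹ * k⁻¹) • w = x2 + (x1 + w) := by
        rw [mul_smul, mul_smul, mul_smul, e1, smul_add, smul_inv_smul, hx1.2 k hk, e2]
      rw [br_def, e3]
      have e4 : x2 + (x1 + w) - w = x2 + x1 := by abel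
      rw [e4]
      exact X.add_mem hx2 hx1
    have h1 := hN _ hmem ((k * (h * s * h⁻¹)) • v) (by
      rw [mul_smul]; exact D.smul_V (Y0_le Y hk) (D.smul_V hdY hv))
    rw [← h1, smul_smul]
    congr 1
    group
  have hcY : ∀ k ∈ Y, ∀ v ∈ V, (h * s * h⁻¹ * k) • v = (k * (h * s * h⁻¹)) • v := by
    intro k hk v hv
    obtain ⟨k0, hk0, d, hdQ, rfl⟩ := D.exists_mul hk
    have h1 := hcY0 k0 hk0 (d • v) (D.smul_V (D.QY hdQ) hv)
    calc (h * s * h⁻¹ * (k0 * d)) • v = (h * s * h⁻¹ * k0) • d • v := by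
          rw [smul_smul]; congr 1; group
      _ = (k0 * (h * s * h⁻¹)) • d • v := h1
      _ = (k0 * (h * s * h⁻¹ * d)) • v := by rw [smul_smul]; congr 1; group
      _ = (k0 * (d * (h * s * h⁻¹))) • v := by rw [D.Q_comm hd hdQ]
      _ = (k0 * d * (h * s * h⁻¹)) • v := by congr 1; group
  -- the group of the elements acting as a power of `d`
  let N' : Subgroup H :=
    { carrier := {k | k ∈ Y ∧ ((∀ v ∈ V, k • v = v) ∨ ∀ v ∈ V, k • v = (h * s * h⁻¹) • v)}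
      one_mem' := ⟨one_mem _, Or.inl fun v _ => one_smul _ v⟩
      mul_mem' := by
        rintro a b ⟨ha, ha'⟩ ⟨hb, hb'⟩
        refine ⟨mul_mem ha hb, ?_⟩
        rcases ha' with ha' | ha' <;> rcases hb' with hb' | hb'
        · exact Or.inl fun v hv => by rw [mul_smul, hb' v hv, ha' v hv]
        · exact Or.inr fun v hv => by rw [mul_smul, hb' v hv, ha' _ (D.smul_V hdY hv)]
        · exact Or.inr fun v hv => by rw [mul_smul, hb' v hv, ha' v hv]
        · exact Or.inl fun v hv => by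
            rw [mul_smul, hb' v hv, ha' _ (D.smul_V hdY hv), smul_smul, D.Q_sq hd, one_smul]
      inv_mem' := by
        rintro a ⟨ha, ha'⟩
        refine ⟨inv_mem ha, ?_⟩
        rcases ha' with ha' | ha'
        · exact Or.inl fun v hv => by rw [inv_smul_eq_iff, ha' v hv]
        · exact Or.inr fun v hv => by
            rw [inv_smul_eq_iff, ha' _ (D.smul_V hdY hv), smul_smul, D.Q_sq hd, one_smul] }
  have hN' : ∀ n ∈ N', ∀ v ∈ V, n • v = v := by
    refine D.red N' (fun n hn => hn.1) ?_ ?_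
    · rintro k hk n ⟨hn, hn'⟩
      refine ⟨mul_mem (mul_mem hk hn) (inv_mem hk), ?_⟩
      rcases hn' with hn' | hn'
      · exact Or.inl fun v hv => by
          rw [mul_smul, mul_smul, hn' _ (D.smul_V (inv_mem hk) hv), smul_inv_smul]
      · refine Or.inr fun v hv => ?_
        have h1 := hcY k hk (k⁻¹ • v) (D.smul_V (inv_mem hk) hv)
        rw [mul_smul, mul_smul, hn' _ (D.smul_V (inv_mem hk) hv), ← mul_smul k, ← h1, mul_smul, smul_inv_smul]
    · rintro n ⟨hn, hn'⟩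
      refine ⟨1, fun v hv => ?_⟩
      rw [pow_one, pow_two]
      rcases hn' with hn' | hn'
      · rw [mul_smul, hn' v hv, hn' v hv]
      · rw [mul_smul, hn' v hv, hn' _ (D.smul_V hdY hv), smul_smul, D.Q_sq hd, one_smul]
  refine D.h_faith hs fun v hv => ?_
  rw [br_eq_zero]
  exact hN' _ ⟨hdY, Or.inr fun _ _ => rfl⟩ v hv

omit [Finite H] in
/-- a normal subgroup of `Y` defined by a condition satisfied by `Q` -/
theorem gen_sep {p : H → Prop} (p1 : p 1) (pm : ∀ a ∈ Y, ∀ b ∈ Y, p a → p b → p (a * b))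
    (pi : ∀ a ∈ Y, p a → p a⁻¹) (pc : ∀ k ∈ Y, ∀ n ∈ Y, p n → p (k * n * k⁻¹)) (pQ : ∀ d ∈ Q, p d) :
    ∀ k ∈ Y, p k := by
  let N : Subgroup H :=
    { carrier := {k | k ∈ Y ∧ p k}
      one_mem' := ⟨one_mem _, p1⟩
      mul_mem' := fun {a b} ha hb => ⟨mul_mem ha.1 hb.1, pm a ha.1 b hb.1 ha.2 hb.2⟩
      inv_mem' := fun {a} ha => ⟨inv_mem ha.1, pi a ha.1 ha.2⟩ }
  exact fun k hk => (D.gen N (fun n hn => hn.1) (fun k hk n hn =>
    ⟨mul_mem (mul_mem hk hn.1) (inv_mem hk), pc k hk n hn.1 hn.2⟩) (fun d hd => ⟨D.QY hd, pQ d hd⟩) hk).2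

omit [Finite H] in
/-- `Q` centralises the `Y`-invariant subgroup `N`: so does `Y`. -/
theorem cent_of_Q {N : Subgroup H} (hN : ∀ k ∈ Y, ∀ n ∈ N, k * n * k⁻¹ ∈ N)
    (hQ : ∀ d ∈ Q, ∀ n ∈ N, d * n * d⁻¹ = n) : ∀ k ∈ Y, ∀ n ∈ N, k * n * k⁻¹ = n := by
  refine D.gen_sep (p := fun k => ∀ n ∈ N, k * n * k⁻¹ = n) ?_ ?_ ?_ ?_ hQ
  · intro n _; group
  · intro a _ b _ h1 h2 n hn
    calc a * b * n * (a * b)⁻¹ = a * (b * n * b⁻¹) * a⁻¹ := by group
      _ = n := by rw [h2 n hn, h1 n hn]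
  · intro a _ h1 n hn
    calc a⁻¹ * n * a⁻¹⁻¹ = a⁻¹ * (a * n * a⁻¹) * a⁻¹⁻¹ := by rw [h1 n hn]
      _ = n := by group
  · intro k hk g _ h1 n hn
    have h2 := h1 _ (hN k⁻¹ (inv_mem hk) n hn)
    calc k * g * k⁻¹ * n * (k * g * k⁻¹)⁻¹ = k * (g * (k⁻¹ * n * k⁻¹⁻¹) * g⁻¹) * k⁻¹ := by group
      _ = n := by rw [h2]; group

/-- **(3)** `AA ≰ A₀` -/
theorem exists_notMem : ∃ y ∈ D.AA, y ∉ D.AZ := by
  by_contra hcon
  push Not at hcon
  have h1 : ∀ k ∈ Y, ∀ n ∈ D.AA, k * n * k⁻¹ = n :=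
    D.cent_of_Q (fun k hk n hn => D.AA_conj hk hn) fun d hd n hn => D.br_Q_AZ hd (hcon n hn)
  have h2 : D.AA ≤ ⊥ := D.AA_le_of fun k hk y hy => by
    have h3 := h1 k (Y0_le Y hk) y hy
    rw [mem_bot]
    unfold cm
    rw [h3, mul_inv_cancel]
  obtain ⟨y, hy, hy1, hyF⟩ := D.ne
  apply hy1
  refine D.eq_one_of_fix ⟨hy, hyF⟩ fun k hk => ?_
  have h3 := h2 (D.cm_mem_AA hk hy)
  rw [mem_bot] at h3
  exact mul_inv_eq_one.1 h3

/-- `A₀ ≤ AA` -/
theorem AZ_le_AA [Finite U] : D.AZ ≤ D.AA := by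
  intro s hs
  obtain ⟨y, hy, hy'⟩ := D.exists_notMem
  obtain ⟨d, hd, rfl⟩ := D.surj (D.AA_le hy) hy' (D.AA_V hy) hs
  exact mul_mem (D.AA_conj (D.QY hd) hy) (inv_mem hy)

/-- `V = [U, AA] + F` -/
theorem V_span [Finite U] {v : U} (hv : v ∈ V) : ∃ y ∈ D.AA, ∃ l ∈ L, ∃ f ∈ F, v = br y l + f := by
  obtain ⟨y, hy, hy'⟩ := D.exists_notMem
  obtain ⟨l, hl, f, hf, e⟩ := D.span (D.AA_le hy) hy' (D.AA_V hy) hv
  exact ⟨y, hy, l, hl, f, hf, e⟩

omit [Finite H] in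
/-- `C_U(AA) = C`, more precisely -/
theorem mem_C_of {y : H} (hy : y ∈ BB) (hy' : y ∉ D.AZ) {u : U} (hu : br y u = 0) : u ∈ C := by
  obtain ⟨l, hl, c, hc, rfl⟩ := D.LC u
  rw [br_add, D.br_C hy hc, add_zero] at hu
  exact C.add_mem (D.VC (D.FV (D.inj0 hy hy' hl hu))) hc

/-- **(4)**, first part: `AA` is an irreducible `Y`-module. -/
theorem irr [Finite U] {N : Subgroup H} (hNA : N ≤ D.AA) (hN : ∀ k ∈ Y, ∀ n ∈ N, k * n * k⁻¹ ∈ N) :
    N = ⊥ ∨ N = D.AA := by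
  by_cases hz : N ≤ D.AZ
  · left
    have h1 : ∀ k ∈ Y, ∀ n ∈ N, k * n * k⁻¹ = n :=
      D.cent_of_Q hN fun d hd n hn => D.br_Q_AZ hd (hz hn)
    rw [eq_bot_iff]
    intro n hn
    rw [mem_bot]
    exact D.eq_one_of_fix (hz hn) fun k hk => h1 k (Y0_le Y hk) n hn
  · right
    obtain ⟨y, hy, hy'⟩ := SetLike.not_le_iff_exists.1 hz
    have hZN : D.AZ ≤ N := by
      intro s hs
      obtain ⟨d, hd, rfl⟩ := D.surj (D.AA_le (hNA hy)) hy' (D.AA_V (hNA hy)) hs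
      exact mul_mem (hN d (D.QY hd) y hy) (inv_mem hy)
    refine le_antisymm hNA (D.AA_le_of fun k hk x hx => ?_)
    have h1 : ∀ k ∈ Y, ∀ x ∈ D.AA, cm k x ∈ N := by
      refine D.gen_sep (p := fun k => ∀ x ∈ D.AA, cm k x ∈ N) ?_ ?_ ?_ ?_ ?_
      · intro x _
        have e : cm 1 x = 1 := by unfold cm; group
        rw [e]; exact one_mem _
      · intro a ha b hb h1 h2 x hx
        have e : cm (a * b) x = a * cm b x * a⁻¹ * cm a x := by unfold cm; group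
        rw [e]
        exact mul_mem (hN a ha _ (h2 x hx)) (h1 x hx)
      · intro a ha h1 x hx
        have e : cm a⁻¹ x = (a⁻¹ * cm a x * a⁻¹⁻¹)⁻¹ := by unfold cm; group
        rw [e]
        exact inv_mem (hN _ (inv_mem ha) _ (h1 x hx))
      · intro g hg n _ h1 x hx
        have h2 := h1 _ (D.AA_conj (inv_mem hg) hx)
        have e : cm (g * n * g⁻¹) x = g * cm n (g⁻¹ * x * g⁻¹⁻¹) * g⁻¹ := by unfold cm; group
        rw [e]
        exact hN g hg _ h2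
      · intro d hd x hx
        exact hZN (D.comm_Q hd (D.AA_le hx))
    exact h1 k (Y0_le Y hk) x hx

/-- the elements of `Y0` do not all centralise `V` -/
theorem exists_move : ∃ k ∈ Y0 Y, ∃ v ∈ V, k • v ≠ v := by
  by_contra hcon
  push Not at hcon
  have h1 : ∀ n ∈ Y, ∀ v ∈ V, n • v = v := by
    refine D.red Y le_rfl (fun k hk n hn => mul_mem (mul_mem hk hn) (inv_mem hk)) fun n hn => ⟨1, fun v hv => ?_⟩
    obtain ⟨k0, hk0, d, hd, rfl⟩ := D.exists_mul hn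
    rw [pow_one, pow_two, mul_smul, mul_smul, mul_smul, hcon k0 hk0 _ (D.smul_V (D.QY hd) hv),
      hcon k0 hk0 _ (D.smul_V (D.QY hd) (D.smul_V (D.QY hd) hv)), smul_smul, D.Q_sq hd, one_smul]
  obtain ⟨y, hy, hy1, hyF⟩ := D.ne
  apply hy1
  refine D.h_faith ⟨hy, hyF⟩ fun v hv => ?_
  rw [br_eq_zero]
  exact h1 _ (D.QY (D.hA y hy hyF)) v hv

/-- `C_AA(Y0) = 1` -/
theorem fix_eq_one [Finite U] {y : H} (hy : y ∈ D.AA) (hf : ∀ k ∈ Y0 Y, k * y * k⁻¹ = y) : y = 1 := by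
  by_cases hz : y ∈ D.AZ
  · exact D.eq_one_of_fix hz hf
  exfalso
  -- `C_V(Y0)`
  let X : AddSubgroup U :=
    { carrier := {v | v ∈ V ∧ ∀ k ∈ Y0 Y, k • v = v}
      zero_mem' := ⟨zero_mem _, fun k _ => smul_zero k⟩
      add_mem' := fun {a b} ha hb => ⟨V.add_mem ha.1 hb.1, fun k hk => by rw [smul_add, ha.2 k hk, hb.2 k hk]⟩
      neg_mem' := fun {a} ha => ⟨V.neg_mem ha.1, fun k hk => by rw [smul_neg, ha.2 k hk]⟩ }
  have hXY : ∀ k ∈ Y, ∀ x ∈ X, k • x ∈ X := by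
    intro k hk x hx
    refine ⟨D.smul_V hk hx.1, fun g hg => ?_⟩
    have h1 := hx.2 _ (Y0_conj (inv_mem hk) hg)
    have e : g • k • x = k • ((k⁻¹ * g * k⁻¹⁻¹) • x) := by
      rw [smul_smul, smul_smul]; congr 1; group
    rw [e, h1]
  have hyX : ∀ u : U, br y u ∈ X := fun u => ⟨D.AA_V hy u, fun k hk => by
    rw [← D.br_conj (Y0_le Y hk) (D.AA_le hy), hf k hk]⟩
  have h1 : ∀ k ∈ Y, ∀ v ∈ V, br k v ∈ X := by
    refine D.gen_sep (p := fun k => ∀ v ∈ V, br k v ∈ X) ?_ ?_ ?_ ?_ ?_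
    · intro v _; rw [br_one]; exact zero_mem _
    · intro a ha b hb h1 h2 v hv
      have e : br (a * b) v = a • br b v + br a v := by
        simp only [br_def, mul_smul, smul_sub]; abel
      rw [e]
      exact X.add_mem (hXY a ha _ (h2 v hv)) (h1 v hv)
    · intro a ha h1 v hv
      have e : br a⁻¹ v = - br a (a⁻¹ • v) := by
        rw [br_def, br_def, smul_inv_smul]; abel
      rw [e]
      exact X.neg_mem (h1 _ (D.smul_V (inv_mem ha) hv))
    · intro k hk n _ h1 v hv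
      have e : v = k • (k⁻¹ • v) := (smul_inv_smul k v).symm
      rw [e, br_conj_smul]
      exact hXY k hk _ (h1 _ (D.smul_V (inv_mem hk) hv))
    · intro d hd v hv
      obtain ⟨l, _, f, hf', rfl⟩ := D.span (D.AA_le hy) hz (D.AA_V hy) hv
      rw [br_add, br_eq_zero.2 (D.qF d hd f hf'), add_zero, br_def]
      exact X.sub_mem (hXY d (D.QY hd) _ (hyX l)) (hyX l)
  obtain ⟨k, hk, v, hv, hne⟩ := D.exists_move
  apply hne
  exact D.red2 (X := X) (N := Y0 Y) (Y0_le Y) (fun k hk n hn => Y0_conj hk hn) (fun n hn x hx => hx.2 n hn)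
    (fun n hn v hv => h1 n (Y0_le Y hn) v hv) k hk v hv

end Dat

end dat

end Cfsg.Agent.Omega.NO3b.Exit.Ten

end

section


/-!
# The blocks of `V` in LOC (#18319 (2), #18815 (2); piece L6 of #19802)

`Blk Y Q BB V F L C h M KV S O` : the situation `Ten.Dat` together with `KV ⊴ M` (trivial on `U / V`, normalising `BB`), `Y`
subnormal in `KV`, `S ∈ Syl₂(M)`, `V = ⟨C_V(S)^M⟩`, and a subgroup `O` of `M` (`= O²(P)`), contained in every
subgroup normalised by `O` and `S` which contains a suitable conjugate of `Q`, and without fixed points on `C_V(S)`.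

* `Dat.AA_KV` : `AA` is invariant under every group in which `Y` is subnormal (no Clifford, no cohomology);
* `Blk.V1` : `V₁ = [U, AA]`; `Blk.dich` : `m V₁ = V₁` or `V₁ ∩ m V₁ = 0`;
* `Blk.cent` : `m V₁ ≠ m' V₁` implies that `Y^m` centralises `m' V₁`;
* `Blk.le_sum` : `V = Σ m V₁` (Gaschütz); `Blk.indep` : the sum is direct;
* `Blk.trans` : `S` is transitive on the blocks;
* `Blk.le_F` : `m V₁ ≤ F` if `m V₁ ≠ V₁`; `Blk.fix_of_F` : elements trivial on `F` normalise `V₁`.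
-/

set_option autoImplicit false

open scoped Pointwise

namespace Cfsg.Agent.Omega.NO3b.Exit.TBlk

open Subgroup Ten

universe u v

/-! ### Subnormal chains -/

/-- `Y` is subnormal in `K`. -/
inductive Sn {H : Type u} [Group H] (Y : Subgroup H) : Subgroup H → Prop
  | refl : Sn Y Y
  | step {K K' : Subgroup H} : Sn Y K → K ≤ K' → (∀ k ∈ K', ∀ n ∈ K, k * n * k⁻¹ ∈ K) → Sn Y K'

theorem Sn.le {H : Type u} [Group H] {Y K : Subgroup H} (h : Sn Y K) : Y ≤ K := by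
  induction h with
  | refl => exact le_rfl
  | step _ h1 _ ih => exact ih.trans h1

/-! ### Averaging -/

theorem not_dvd_relIndex {M : Type u} [Group M] [Finite M] {S N : Subgroup M} [N.Normal] (h : ¬ 2 ∣ S.index) :
    ¬ 2 ∣ S.relIndex N := by
  have h1 : S.relIndex N * N.relIndex (N ⊔ S) = (S ⊓ N).relIndex (N ⊔ S) := by
    have := relIndex_inf_mul_relIndex S N (N ⊔ S)
    rwa [inf_eq_left.2 (le_sup_left : N ≤ N ⊔ S)] at this
  have h2 : N.relIndex S * S.relIndex (N ⊔ S) = (N ⊓ S).relIndex (N ⊔ S) := by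
    have := relIndex_inf_mul_relIndex N S (N ⊔ S)
    rwa [inf_eq_left.2 (le_sup_right : S ≤ N ⊔ S)] at this
  rw [relIndex_sup_left] at h1
  rw [inf_comm, ← h1] at h2
  have h3 : N.relIndex S ≠ 0 := index_ne_zero_of_finite
  have h4 : S.relIndex (N ⊔ S) = S.relIndex N := by
    refine Nat.eq_of_mul_eq_mul_left (Nat.pos_of_ne_zero h3) ?_
    rw [h2, mul_comm]
  rw [← h4]
  intro h5
  exact h (h5.trans (relIndex_dvd_index_of_le le_sup_right))

/-- **Gaschütz**, for one vector. -/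
theorem exists_fixed {M : Type u} {U : Type v} [Group M] [Finite M] [AddCommGroup U] [DistribMulAction M U]
    [Finite U] (two : ∀ u : U, u + u = 0) {S N : Subgroup M} [hN : N.Normal] (h : ¬ 2 ∣ S.index)
    (W : AddSubgroup U) {z : U} (hz : ∀ s ∈ S, s • z = z) (hW : ∀ n ∈ N, n • z - z ∈ W) :
    ∃ z' : U, (∀ n ∈ N, n • z' = z') ∧ (∀ s ∈ S, s • z' = z') ∧ z' - z ∈ W := by
  classical
  have : Fintype U := Fintype.ofFinite U
  let O : Finset U := Finset.univ.filter fun x => ∃ n ∈ N, x = n • z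
  have hO : ∀ x, x ∈ O ↔ ∃ n ∈ N, x = n • z := fun x => by simp [O]
  have hcard : O.card = Nat.card (MulAction.orbit N z) := by
    rw [← Nat.card_eq_finsetCard]
    refine Nat.card_congr (Equiv.subtypeEquivRight fun x => ?_)
    rw [hO, MulAction.mem_orbit_iff]
    constructor
    · rintro ⟨n, hn, rfl⟩; exact ⟨⟨n, hn⟩, rfl⟩
    · rintro ⟨n, rfl⟩; exact ⟨n, n.2, rfl⟩
  have hodd : Odd O.card := by
    rw [hcard, Nat.card_congr (MulAction.orbitEquivQuotientStabilizer N z)]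
    change Odd (MulAction.stabilizer N z).index
    rw [← Nat.not_even_iff_odd, even_iff_two_dvd]
    intro h1
    refine not_dvd_relIndex (N := N) h (h1.trans ?_)
    refine index_dvd_of_le (fun n hn => ?_)
    rw [MulAction.mem_stabilizer_iff]
    exact hz _ (mem_subgroupOf.1 hn)
  have hperm : ∀ g : M, (∀ x ∈ O, g • x ∈ O) → g • (∑ x ∈ O, x) = ∑ x ∈ O, x := by
    intro g hg
    rw [Finset.smul_sum]
    refine Finset.sum_bij (fun x _ => g • x) (fun x hx => hg x hx) (fun x _ y _ e => smul_left_cancel g e) ?_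
      fun x _ => rfl
    have hinj : Set.InjOn (fun x => g • x) (O : Set U) := fun x _ y _ e => smul_left_cancel g e
    have h1 : O.image (fun x => g • x) = O := by
      refine Finset.eq_of_subset_of_card_le ?_ ?_
      · intro x hx
        obtain ⟨y, hy, rfl⟩ := Finset.mem_image.1 hx
        exact hg y hy
      · rw [Finset.card_image_of_injOn hinj]
    intro x hx
    rw [← h1] at hx
    obtain ⟨y, hy, e⟩ := Finset.mem_image.1 hx
    exact ⟨y, hy, e⟩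
  refine ⟨∑ x ∈ O, x, fun n hn => hperm n ?_, fun s hs => hperm s ?_, ?_⟩
  · intro x hx
    obtain ⟨m, hm, rfl⟩ := (hO x).1 hx
    exact (hO _).2 ⟨n * m, mul_mem hn hm, smul_smul _ _ _⟩
  · intro x hx
    obtain ⟨m, hm, rfl⟩ := (hO x).1 hx
    refine (hO _).2 ⟨s * m * s⁻¹, hN.conj_mem m hm s, ?_⟩
    have e : (s * m * s⁻¹) • z = (s * m * s⁻¹) • s • z := by rw [hz s hs]
    rw [e, smul_smul, smul_smul]
    congr 1
    group
  · have h1 : (∑ x ∈ O, x) - z = ∑ x ∈ O, (x - z) := by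
      rw [Finset.sum_sub_distrib, Finset.sum_const]
      obtain ⟨k, hk⟩ := hodd
      rw [hk, add_smul, one_smul, mul_smul, two_nsmul, two, zero_add]
    rw [h1]
    refine sum_mem fun x hx => ?_
    obtain ⟨m, hm, rfl⟩ := (hO x).1 hx
    exact hW m hm

/-! ### Consequences of `Dat` -/

section dat

variable {H : Type u} {U : Type v} [Group H] [AddCommGroup U] [DistribMulAction H U]
variable {Y Q BB : Subgroup H} {V F L C : AddSubgroup U} {h : H} (D : Dat Y Q BB V F L C h)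
include D

theorem br_AA_mul {x y : H} (hx : x ∈ D.AA) (hy : y ∈ D.AA) (u : U) : br (x * y) u = br x u + br y u :=
  D.br_mul_B (D.AA_le hx) (D.AA_le hy) u

/-- `AA` is invariant under every group in which `Y` is subnormal. -/
theorem AA_KV [Finite H] [Finite U] {K : Subgroup H} (sn : Sn Y K) (kB : ∀ k ∈ K, ∀ b ∈ BB, k * b * k⁻¹ ∈ BB)
    (kV : ∀ k ∈ K, ∀ u : U, br k u ∈ V) : ∀ k ∈ K, ∀ x ∈ D.AA, k * x * k⁻¹ ∈ D.AA := by
  induction sn with
  | refl => exact fun k hk x hx => D.AA_conj hk hx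
  | @step K K' sn hKK' hn ih =>
    have ih' := ih (fun k hk => kB k (hKK' hk)) (fun k hk => kV k (hKK' hk))
    intro g hg
    let N : Subgroup H := D.AA.map (MulAut.conj g).toMonoidHom
    have hNm : ∀ y, y ∈ N ↔ ∃ x ∈ D.AA, g * x * g⁻¹ = y := fun y => Iff.rfl
    have hcard : Nat.card N = Nat.card D.AA := Nat.card_congr
      (D.AA.equivMapOfInjective _ (MulAut.conj g).injective).symm.toEquiv
    have hNB : ∀ y ∈ N, y ∈ BB ∧ ∀ u : U, br y u ∈ V := by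
      rintro y hy
      obtain ⟨x, hx, rfl⟩ := (hNm y).1 hy
      refine ⟨kB g hg x (D.AA_le hx), fun u => ?_⟩
      rw [D.br_conj' (fun u => D.VC (kV _ (inv_mem hg) u)) (D.AA_le hx), smul_eq]
      exact V.add_mem (kV g hg _) (D.AA_V hx u)
    have hNK : ∀ k ∈ K, ∀ y ∈ N, k * y * k⁻¹ ∈ N := by
      intro k hk y hy
      obtain ⟨x, hx, rfl⟩ := (hNm y).1 hy
      refine (hNm _).2 ⟨g⁻¹ * k * g⁻¹⁻¹ * x * (g⁻¹ * k * g⁻¹⁻¹)⁻¹, ih' _ (hn _ (inv_mem hg) k hk) x hx, ?_⟩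
      group
    rcases D.irr (N := N ⊓ D.AA) inf_le_right (fun k hk y hy =>
      ⟨hNK k (sn.le hk) y hy.1, D.AA_conj hk hy.2⟩) with h1 | h1
    · exfalso
      have h2 : ∃ y ∈ N, y ∉ D.AZ := by
        by_contra hcon
        push Not at hcon
        have h3 : N = D.AA := eq_of_le_of_card_ge (fun y hy => D.AZ_le_AA (hcon y hy)) hcard.ge
        obtain ⟨y, hy, hy'⟩ := D.exists_notMem
        exact hy' (hcon y (h3 ▸ hy))
      obtain ⟨y, hy, hy'⟩ := h2
      obtain ⟨s, hs, hs1, hsF⟩ := D.ne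
      obtain ⟨d, hd, e⟩ := D.surj (hNB y hy).1 hy' (hNB y hy).2 (s := s) ⟨hs, hsF⟩
      apply hs1
      have h3 : s ∈ N ⊓ D.AA := by
        refine ⟨?_, D.AZ_le_AA ⟨hs, hsF⟩⟩
        change s ∈ N
        rw [← e]
        exact mul_mem (hNK d (sn.le (D.QY hd)) y hy) (inv_mem hy)
      rwa [h1, mem_bot] at h3
    · have h2 : D.AA ≤ N := by rw [← h1]; exact inf_le_left
      have h3 : D.AA = N := eq_of_le_of_card_ge h2 hcard.le
      intro x hx
      have h4 : g * x * g⁻¹ ∈ N := (hNm _).2 ⟨x, hx, rfl⟩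
      rwa [← h3] at h4

/-- Every `Y`-homomorphism `AA → V` is `[l, ·]` for some `l ∈ L`. -/
theorem exists_hom [Finite H] [Finite U] {φ : H → U} (hadd : ∀ x ∈ D.AA, ∀ y ∈ D.AA, φ (x * y) = φ x + φ y)
    (hval : ∀ y ∈ D.AA, φ y ∈ V) (heq : ∀ k ∈ Y, ∀ y ∈ D.AA, φ (k * y * k⁻¹) = k • φ y) :
    ∃ l ∈ L, ∀ y ∈ D.AA, φ y = br y l := by
  obtain ⟨a, ha, ha'⟩ := D.exists_notMem
  obtain ⟨l, hl, f, hf, e⟩ := D.span (D.AA_le ha) ha' (D.AA_V ha) (hval a ha)
  have hone : φ 1 = 0 := by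
    have h1 := hadd 1 (one_mem _) 1 (one_mem _)
    rw [one_mul] at h1
    exact left_eq_add.1 h1
  have hinv : ∀ x ∈ D.AA, φ x⁻¹ = - φ x := fun x hx => by
    have h1 := hadd x hx x⁻¹ (inv_mem hx)
    rw [mul_inv_cancel, hone] at h1
    exact (neg_eq_of_add_eq_zero_right h1.symm).symm
  have hbinv : ∀ x ∈ D.AA, br x⁻¹ l = - br x l := fun x hx => by
    rw [D.inv_B (D.AA_le hx), D.neg_eq]
  let N : Subgroup H :=
    { carrier := {y | y ∈ D.AA ∧ φ y = br y l}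
      one_mem' := ⟨one_mem _, by rw [hone, br_one]⟩
      mul_mem' := fun {x y} hx hy => ⟨mul_mem hx.1 hy.1, by
        rw [hadd x hx.1 y hy.1, br_AA_mul D hx.1 hy.1, hx.2, hy.2]⟩
      inv_mem' := fun {x} hx => ⟨inv_mem hx.1, by rw [hinv x hx.1, hbinv x hx.1, hx.2]⟩ }
  have hNA : N ≤ D.AA := fun y hy => hy.1
  have hN : ∀ k ∈ Y, ∀ n ∈ N, k * n * k⁻¹ ∈ N := fun k hk n hn =>
    ⟨D.AA_conj hk hn.1, by rw [heq k hk n hn.1, D.br_conj hk (D.AA_le hn.1), hn.2]⟩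
  have hNe : N ≠ ⊥ := by
    obtain ⟨s, hs, hs1, hsF⟩ := D.ne
    obtain ⟨d, hd, e'⟩ := D.surj (D.AA_le ha) ha' (D.AA_V ha) (s := s) ⟨hs, hsF⟩
    intro h0
    apply hs1
    have h1 : s ∈ N := by
      refine ⟨D.AZ_le_AA ⟨hs, hsF⟩, ?_⟩
      have h2 : d * a * d⁻¹ ∈ D.AA := D.AA_conj (D.QY hd) ha
      rw [← e', hadd _ h2 _ (inv_mem ha), br_AA_mul D h2 (inv_mem ha), heq d (D.QY hd) a ha,
        D.br_conj (D.QY hd) (D.AA_le ha), hinv a ha, hbinv a ha, e, smul_add, D.qF d hd f hf]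
      abel
    rwa [h0, mem_bot] at h1
  have h1 := (D.irr hNA hN).resolve_left hNe
  exact ⟨l, hl, fun y hy => by rw [← h1] at hy; exact hy.2⟩

/-- `Ker [·, l] = 1` on `AA` for `l ∉ C` -/
theorem eq_one_of_br [Finite H] [Finite U] {l : U} (hl : l ∉ C) {y : H} (hy : y ∈ D.AA) (h0 : br y l = 0) :
    y = 1 := by
  let N : Subgroup H :=
    { carrier := {y | y ∈ D.AA ∧ br y l = 0}
      one_mem' := ⟨one_mem _, br_one l⟩
      mul_mem' := fun {x y} hx hy => ⟨mul_mem hx.1 hy.1, by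
        rw [br_AA_mul D hx.1 hy.1, hx.2, hy.2, add_zero]⟩
      inv_mem' := fun {x} hx => ⟨inv_mem hx.1, by rw [D.inv_B (D.AA_le hx.1)]; exact hx.2⟩ }
  have hNA : N ≤ D.AA := fun y hy => hy.1
  have hN : ∀ k ∈ Y, ∀ n ∈ N, k * n * k⁻¹ ∈ N := fun k hk n hn =>
    ⟨D.AA_conj hk hn.1, by rw [D.br_conj hk (D.AA_le hn.1), hn.2, smul_zero]⟩
  rcases D.irr hNA hN with h1 | h1
  · have h2 : y ∈ N := ⟨hy, h0⟩
    rwa [h1, mem_bot] at h2
  · exfalso
    obtain ⟨a, ha, ha'⟩ := D.exists_notMem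
    have h2 : a ∈ N := by rw [h1]; exact ha
    exact hl (D.mem_C_of (D.AA_le ha) ha' h2.2)

/-- `V₁ = [U, AA]` -/
def V1 : AddSubgroup U := AddSubgroup.closure {v | ∃ y ∈ D.AA, ∃ u : U, v = br y u}

theorem br_mem_V1 {y : H} (hy : y ∈ D.AA) (u : U) : br y u ∈ V1 D :=
  AddSubgroup.subset_closure ⟨y, hy, u, rfl⟩

theorem V1_le : V1 D ≤ V := by
  refine (AddSubgroup.closure_le _).2 ?_
  rintro _ ⟨y, hy, u, rfl⟩
  exact D.AA_V hy u

theorem V1_inv {K : Subgroup H} (kA : ∀ k ∈ K, ∀ x ∈ D.AA, k * x * k⁻¹ ∈ D.AA) (kV : ∀ k ∈ K, ∀ u : U, br k u ∈ V)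
    {k : H} (hk : k ∈ K) {v : U} (hv : v ∈ V1 D) : k • v ∈ V1 D := by
  induction hv using AddSubgroup.closure_induction with
  | mem v hv =>
    obtain ⟨y, hy, u, rfl⟩ := hv
    rw [← D.br_conj' (fun u => D.VC (kV _ (inv_mem hk) u)) (D.AA_le hy)]
    exact br_mem_V1 D (kA k hk y hy) u
  | zero => rw [smul_zero]; exact zero_mem _
  | add a b _ _ ha hb => rw [smul_add]; exact add_mem ha hb
  | neg a _ ha => rw [smul_neg]; exact neg_mem ha

theorem V1_Y {k : H} (hk : k ∈ Y) {v : U} (hv : v ∈ V1 D) : k • v ∈ V1 D :=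
  V1_inv D (fun _ hk _ hx => D.AA_conj hk hx) D.yV hk hv

theorem V_le [Finite H] [Finite U] {v : U} (hv : v ∈ V) : ∃ w ∈ V1 D, ∃ f ∈ F, v = w + f := by
  obtain ⟨y, hy, l, hl, f, hf, e⟩ := D.V_span hv
  exact ⟨_, br_mem_V1 D hy l, f, hf, e⟩

/-- `[V, Y] ≤ V₁` -/
theorem br_Y_V1 [Finite H] [Finite U] {k : H} (hk : k ∈ Y) {v : U} (hv : v ∈ V) : br k v ∈ V1 D := by
  revert v
  refine D.gen_sep (p := fun k => ∀ {v : U}, v ∈ V → br k v ∈ V1 D) ?_ ?_ ?_ ?_ ?_ k hk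
  · intro v _; rw [br_one]; exact zero_mem _
  · intro a ha b hb h1 h2 v hv
    have e : br (a * b) v = a • br b v + br a v := by
      simp only [br_def, mul_smul, smul_sub]; abel
    rw [e]
    exact add_mem (V1_Y D ha (h2 hv)) (h1 hv)
  · intro a ha h1 v hv
    have e : br a⁻¹ v = - br a (a⁻¹ • v) := by
      rw [br_def, br_def, smul_inv_smul]; abel
    rw [e]
    exact neg_mem (h1 (D.smul_V (inv_mem ha) hv))
  · intro k hk n _ h1 v hv
    have e : v = k • (k⁻¹ • v) := (smul_inv_smul k v).symm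
    rw [e, br_conj_smul]
    exact V1_Y D hk (h1 (D.smul_V (inv_mem hk) hv))
  · intro d hd v hv
    obtain ⟨w, hw, f, hf, rfl⟩ := V_le D hv
    rw [br_add, br_eq_zero.2 (D.qF d hd f hf), add_zero, br_def]
    exact sub_mem (V1_Y D (D.QY hd) hw) hw

/-- `C_{V₁}(Y) = 0` -/
theorem V1_fix [Finite H] [Finite U] {v : U} (hv : v ∈ V1 D) (hf : ∀ k ∈ Y, k • v = v) : v = 0 := by
  classical
  -- a maximal `Y`-invariant subgroup without fixed points
  let P : Set (AddSubgroup U) := {X | X ≤ V1 D ∧ (∀ k ∈ Y, ∀ x ∈ X, k • x ∈ X) ∧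
    ∀ x ∈ X, (∀ k ∈ Y, k • x = x) → x = 0}
  have hP0 : (⊥ : AddSubgroup U) ∈ P := ⟨bot_le, fun k _ x hx => by
    rw [AddSubgroup.mem_bot] at hx ⊢; rw [hx, smul_zero], fun x hx _ => AddSubgroup.mem_bot.1 hx⟩
  obtain ⟨X, hXP, hmax⟩ := P.toFinite.exists_maximal ⟨_, hP0⟩
  have key : V1 D ≤ X := by
    refine (AddSubgroup.closure_le _).2 ?_
    rintro _ ⟨y0, hy0, u, rfl⟩
    by_contra hne
    -- `X + [u, AA]`
    have hdisj : ∀ y ∈ D.AA, br y u ∈ X → y = 1 := by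
      intro y hy hyX
      let N : Subgroup H :=
        { carrier := {y | y ∈ D.AA ∧ br y u ∈ X}
          one_mem' := ⟨one_mem _, by rw [br_one]; exact zero_mem _⟩
          mul_mem' := fun {x y} hx hy => ⟨mul_mem hx.1 hy.1, by
            rw [br_AA_mul D hx.1 hy.1]; exact add_mem hx.2 hy.2⟩
          inv_mem' := fun {x} hx => ⟨inv_mem hx.1, by rw [D.inv_B (D.AA_le hx.1)]; exact hx.2⟩ }
      rcases D.irr (N := N) (fun y hy => hy.1) (fun k hk n hn =>
        ⟨D.AA_conj hk hn.1, by rw [D.br_conj hk (D.AA_le hn.1)]; exact hXP.2.1 k hk _ hn.2⟩) with h1 | h1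
      · have h2 : y ∈ N := ⟨hy, hyX⟩
        rwa [h1, mem_bot] at h2
      · exact absurd (show y0 ∈ N by rw [h1]; exact hy0).2 hne
    let X' : AddSubgroup U :=
      { carrier := {w | ∃ x ∈ X, ∃ y ∈ D.AA, w = x + br y u}
        zero_mem' := ⟨0, zero_mem _, 1, one_mem _, by rw [br_one, add_zero]⟩
        add_mem' := by
          rintro _ _ ⟨x, hx, y, hy, rfl⟩ ⟨x', hx', y', hy', rfl⟩
          exact ⟨x + x', add_mem hx hx', y * y', mul_mem hy hy', by rw [br_AA_mul D hy hy']; abel⟩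
        neg_mem' := by
          rintro _ ⟨x, hx, y, hy, rfl⟩
          exact ⟨x, hx, y, hy, by rw [D.neg_eq]⟩ }
    have hX' : X' ∈ P := by
      refine ⟨?_, ?_, ?_⟩
      · rintro _ ⟨x, hx, y, hy, rfl⟩
        exact add_mem (hXP.1 hx) (br_mem_V1 D hy u)
      · rintro k hk _ ⟨x, hx, y, hy, rfl⟩
        exact ⟨k • x, hXP.2.1 k hk x hx, k * y * k⁻¹, D.AA_conj hk hy, by
          rw [D.br_conj hk (D.AA_le hy), smul_add]⟩
      · rintro _ ⟨x, hx, y, hy, rfl⟩ hfix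
        have h1 : ∀ k ∈ Y, k • x = x ∧ k * y * k⁻¹ = y := by
          intro k hk
          have h2 := hfix k hk
          rw [smul_add, ← D.br_conj hk (D.AA_le hy)] at h2
          have h3 : br (cm k y) u = br (k * y * k⁻¹) u + br y u := by
            unfold cm
            rw [D.inv_B (D.AA_le hy), br_AA_mul D (D.AA_conj hk hy) hy]
          have h4 : br (cm k y) u ∈ X := by
            have e : br (cm k y) u = x - k • x := by
              rw [h3, ← D.sub_eq_add (br (k * y * k⁻¹) u), sub_eq_sub_iff_add_eq_add, add_comm, h2]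
            rw [e]
            exact sub_mem hx (hXP.2.1 k hk x hx)
          have h5 : cm k y = 1 := hdisj _ (mul_mem (D.AA_conj hk hy) (inv_mem hy)) h4
          have h6 : k * y * k⁻¹ = y := mul_inv_eq_one.1 h5
          refine ⟨?_, h6⟩
          rw [h6] at h2
          exact add_right_cancel h2
        have h2 : x = 0 := hXP.2.2 x hx fun k hk => (h1 k hk).1
        have h3 : y = 1 := D.fix_eq_one hy fun k hk => (h1 k (Y0_le Y hk)).2
        rw [h2, h3, br_one, add_zero]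
    have h1 : X ≤ X' := fun x hx => ⟨x, hx, 1, one_mem _, by rw [br_one, add_zero]⟩
    have h2 : X' ≤ X := hmax hX' h1
    exact hne (h2 ⟨0, zero_mem _, y0, hy0, by rw [zero_add]⟩)
  exact hXP.2.2 v (key hv) hf

/-- A `Y`-invariant subgroup of `V`, not contained in `F`, contains some `[l, AA]`, `l ∈ L - F`. -/
theorem exists_sub [Finite H] [Finite U] {W : AddSubgroup U} (hWV : W ≤ V) (hW : ∀ k ∈ Y, ∀ w ∈ W, k • w ∈ W)
    (hF : ¬ W ≤ F) : ∃ l ∈ L, l ∉ C ∧ ∀ y ∈ D.AA, br y l ∈ W := by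
  obtain ⟨a, ha, ha'⟩ := D.exists_notMem
  obtain ⟨w, hw, hwF⟩ := SetLike.not_le_iff_exists.1 hF
  obtain ⟨l, hl, f, hf, e⟩ := D.span (D.AA_le ha) ha' (D.AA_V ha) (hWV hw)
  refine ⟨l, hl, fun hlC => hwF ?_, ?_⟩
  · rw [e, D.br_C (D.AA_le ha) hlC, zero_add]; exact hf
  let N : Subgroup H :=
    { carrier := {y | y ∈ D.AA ∧ br y l ∈ W}
      one_mem' := ⟨one_mem _, by rw [br_one]; exact zero_mem _⟩
      mul_mem' := fun {x y} hx hy => ⟨mul_mem hx.1 hy.1, by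
        rw [br_AA_mul D hx.1 hy.1]; exact add_mem hx.2 hy.2⟩
      inv_mem' := fun {x} hx => ⟨inv_mem hx.1, by rw [D.inv_B (D.AA_le hx.1)]; exact hx.2⟩ }
  have hN := (D.irr (N := N) (fun y hy => hy.1) (fun k hk n hn =>
    ⟨D.AA_conj hk hn.1, by rw [D.br_conj hk (D.AA_le hn.1)]; exact hW k hk _ hn.2⟩)).resolve_left ?_
  · intro y hy
    rw [← hN] at hy
    exact hy.2
  · obtain ⟨s, hs, hs1, hsF⟩ := D.ne
    obtain ⟨d, hd, e'⟩ := D.surj (D.AA_le ha) ha' (D.AA_V ha) (s := s) ⟨hs, hsF⟩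
    intro h0
    apply hs1
    have h1 : s ∈ N := by
      refine ⟨D.AZ_le_AA ⟨hs, hsF⟩, ?_⟩
      have h2 : br s l = br d w := by
        rw [← e', D.br_comm (D.QY hd) (D.AA_le ha), e, br_add, br_eq_zero.2 (D.qF d hd f hf), add_zero]
      rw [h2, br_def]
      exact sub_mem (hW d (D.QY hd) w hw) hw
    rwa [h0, mem_bot] at h1

/-- A non-zero `Y`-invariant subgroup of `V₁` is not contained in `F`. -/
theorem not_le_F [Finite H] [Finite U] {W : AddSubgroup U} (hWV : W ≤ V1 D) (hW : ∀ k ∈ Y, ∀ w ∈ W, k • w ∈ W)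
    (hne : W ≠ ⊥) : ¬ W ≤ F := by
  intro hWF
  apply hne
  rw [eq_bot_iff]
  intro w hw
  rw [AddSubgroup.mem_bot]
  refine V1_fix D (hWV hw) ?_
  have h1 : ∀ k ∈ Y, ∀ w ∈ W, k • w = w := by
    refine D.gen_sep (p := fun k => ∀ w ∈ W, k • w = w) ?_ ?_ ?_ ?_ ?_
    · intro w _; exact one_smul _ w
    · intro a _ b _ h1 h2 w hw
      rw [mul_smul, h2 w hw, h1 w hw]
    · intro a _ h1 w hw
      rw [inv_smul_eq_iff, h1 w hw]
    · intro k hk g _ h1 w hw
      rw [mul_smul, mul_smul, h1 _ (hW _ (inv_mem hk) w hw), smul_inv_smul]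
    · intro d hd w hw
      exact D.qF d hd w (hWF hw)
  exact fun k hk => h1 k hk w hw

end dat

/-! ### The frame with `M` -/

/-- The situation with `M`. -/
structure Blk {H : Type u} {U : Type v} [Group H] [AddCommGroup U] [DistribMulAction H U]
    (Y Q BB : Subgroup H) (V F L C : AddSubgroup U) (h : H) (M KV S O : Subgroup H) : Prop where
  dat : Dat Y Q BB V F L C h
  KM : KV ≤ M
  nK : ∀ m ∈ M, ∀ k ∈ KV, m * k * m⁻¹ ∈ KV
  mV : ∀ m ∈ M, ∀ v ∈ V, m • v ∈ V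
  kV : ∀ k ∈ KV, ∀ u : U, br k u ∈ V
  kB : ∀ k ∈ KV, ∀ b ∈ BB, k * b * k⁻¹ ∈ BB
  sn : Sn Y KV
  SM : S ≤ M
  S2 : IsPGroup 2 S
  syl : ¬ 2 ∣ S.relIndex M
  gen : ∀ W : AddSubgroup U, (∀ m ∈ M, ∀ w ∈ W, m • w ∈ W) → (∀ v ∈ V, (∀ s ∈ S, s • v = v) → v ∈ W) → V ≤ W
  OM : O ≤ M
  pr : ∃ m ∈ M, ∀ N : Subgroup H, N ≤ M → (∀ q ∈ Q, m * q * m⁻¹ ∈ N) → (∀ o ∈ O, ∀ n ∈ N, o * n * o⁻¹ ∈ N) →
    (∀ s ∈ S, ∀ n ∈ N, s * n * s⁻¹ ∈ N) → O ≤ N
  cz : ∀ z ∈ V, (∀ s ∈ S, s • z = z) → (∀ o ∈ O, o • z = z) → z = 0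

namespace Blk

variable {H : Type u} {U : Type v} [Group H] [AddCommGroup U] [DistribMulAction H U]
variable {Y Q BB : Subgroup H} {V F L C : AddSubgroup U} {h : H} {M KV S O : Subgroup H}
variable (B : Blk Y Q BB V F L C h M KV S O)
include B

theorem AA_K [Finite H] [Finite U] : ∀ k ∈ KV, ∀ x ∈ B.dat.AA, k * x * k⁻¹ ∈ B.dat.AA :=
  AA_KV B.dat B.sn B.kB B.kV

theorem V1_K [Finite H] [Finite U] {k : H} (hk : k ∈ KV) {v : U} (hv : v ∈ V1 B.dat) : k • v ∈ V1 B.dat :=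
  V1_inv B.dat B.AA_K B.kV hk hv

theorem YK : Y ≤ KV := B.sn.le

theorem br_K [Finite H] [Finite U] {k y : H} (hk : k ∈ KV) (hy : y ∈ B.dat.AA) (u : U) :
    br (k * y * k⁻¹) u = k • br y u :=
  B.dat.br_conj' (fun u => B.dat.VC (B.kV _ (inv_mem hk) u)) (B.dat.AA_le hy) u

theorem nK' {m : H} (hm : m ∈ M) {k : H} (hk : k ∈ KV) : m⁻¹ * k * m ∈ KV := by
  have := B.nK m⁻¹ (inv_mem hm) k hk
  rwa [inv_inv] at this

/-- `m V₁` is `KV`-invariant. -/
theorem smul_V1_K [Finite H] [Finite U] {m : H} (hm : m ∈ M) {k : H} (hk : k ∈ KV) {v : U}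
    (hv : v ∈ m • V1 B.dat) : k • v ∈ m • V1 B.dat := by
  obtain ⟨w, hw, rfl⟩ := (AddSubgroup.mem_smul_pointwise_iff_exists _ _ _).1 hv
  refine (AddSubgroup.mem_smul_pointwise_iff_exists _ _ _).2 ⟨(m⁻¹ * k * m) • w, B.V1_K (B.nK' hm hk) hw, ?_⟩
  rw [smul_smul, smul_smul]
  congr 1
  group

theorem smul_V1_le {m : H} (hm : m ∈ M) : m • V1 B.dat ≤ V := by
  intro v hv
  obtain ⟨w, hw, rfl⟩ := (AddSubgroup.mem_smul_pointwise_iff_exists _ _ _).1 hv
  exact B.mV m hm w (V1_le B.dat hw)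

/-- **Dichotomy**, half: `V₁ ∩ m V₁ ≠ 0` implies `m V₁ ≤ V₁`. -/
theorem le_of_inf_ne [Finite H] [Finite U] {m : H} (hm : m ∈ M) (hne : V1 B.dat ⊓ m • V1 B.dat ≠ ⊥) :
    m • V1 B.dat ≤ V1 B.dat := by
  have D := B.dat
  -- `[l, AA] ≤ V₁ ∩ m V₁`
  have hW : ∀ k ∈ KV, ∀ w ∈ V1 B.dat ⊓ m • V1 B.dat, k • w ∈ V1 B.dat ⊓ m • V1 B.dat :=
    fun k hk w hw => ⟨B.V1_K hk hw.1, B.smul_V1_K hm hk hw.2⟩
  obtain ⟨l, hl, hlC, hlW⟩ := exists_sub D (W := V1 B.dat ⊓ m • V1 B.dat) (inf_le_left.trans (V1_le D))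
    (fun k hk => hW k (B.YK hk)) (not_le_F D inf_le_left (fun k hk => hW k (B.YK hk)) hne)
  -- `W' = m⁻¹ [l, AA]`
  let W' : AddSubgroup U :=
    { carrier := {w | ∃ y ∈ D.AA, m • w = br y l}
      zero_mem' := ⟨1, one_mem _, by rw [smul_zero, br_one]⟩
      add_mem' := by
        rintro a b ⟨y, hy, e⟩ ⟨y', hy', e'⟩
        exact ⟨y * y', mul_mem hy hy', by rw [smul_add, e, e', br_AA_mul D hy hy']⟩
      neg_mem' := by
        rintro a ⟨y, hy, e⟩
        exact ⟨y, hy, by rw [smul_neg, e, D.neg_eq]⟩ }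
  have hW1 : W' ≤ V1 D := by
    rintro w ⟨y, hy, e⟩
    have h1 : m • w ∈ m • V1 B.dat := by rw [e]; exact (hlW y hy).2
    exact (AddSubgroup.smul_mem_pointwise_smul_iff).1 h1
  have hW2 : ∀ k ∈ KV, ∀ w ∈ W', k • w ∈ W' := by
    rintro k hk w ⟨y, hy, e⟩
    refine ⟨m * k * m⁻¹ * y * (m * k * m⁻¹)⁻¹, B.AA_K _ (B.nK m hm k hk) y hy, ?_⟩
    rw [B.br_K (B.nK m hm k hk) hy, ← e, smul_smul, smul_smul]
    congr 1
    group
  have hW3 : W' ≠ ⊥ := by
    obtain ⟨a, ha, ha'⟩ := D.exists_notMem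
    intro h0
    have h1 : m⁻¹ • br a l ∈ W' := ⟨a, ha, by rw [smul_inv_smul]⟩
    rw [h0, AddSubgroup.mem_bot] at h1
    have h2 : br a l = 0 := by rw [← smul_inv_smul m (br a l), h1, smul_zero]
    have h3 := eq_one_of_br D hlC ha h2
    exact ha' (h3 ▸ one_mem _)
  obtain ⟨l', hl', hlC', hlW'⟩ := exists_sub D (W := W') (hW1.trans (V1_le D)) (fun k hk => hW2 k (B.YK hk))
    (not_le_F D hW1 (fun k hk => hW2 k (B.YK hk)) hW3)
  -- the bijection
  have hex : ∀ y : D.AA, ∃ x : D.AA, m • br (y : H) l' = br (x : H) l := fun y => by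
    obtain ⟨x, hx, e⟩ := hlW' y y.2
    exact ⟨⟨x, hx⟩, e⟩
  choose θ hθ using hex
  have hinj : Function.Injective θ := by
    intro y y' e
    have h1 : m • br (y : H) l' = m • br (y' : H) l' := by rw [hθ, hθ, e]
    have h2 : br (y : H) l' = br (y' : H) l' := smul_left_cancel m h1
    have h3 : (y : H) * (y' : H) = 1 := by
      refine eq_one_of_br D hlC' (mul_mem y.2 y'.2) ?_
      rw [br_AA_mul D y.2 y'.2, h2, D.two]
    have h4 := D.sq_B (D.AA_le y'.2)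
    exact Subtype.ext (mul_right_cancel (h3.trans h4.symm))
  have hbij : Function.Bijective θ := (Finite.injective_iff_bijective).1 hinj
  have hθmul : ∀ y y' : D.AA, θ (y * y') = θ y * θ y' := by
    intro y y'
    have h1 : br ((θ (y * y') : D.AA) : H) l = br ((θ y * θ y' : D.AA) : H) l := by
      rw [← hθ, Subgroup.coe_mul, Subgroup.coe_mul, br_AA_mul D y.2 y'.2, br_AA_mul D (θ y).2 (θ y').2, smul_add,
        hθ, hθ]
    have h3 : ((θ (y * y') : D.AA) : H) * ((θ y * θ y' : D.AA) : H) = 1 := by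
      refine eq_one_of_br D hlC (mul_mem (θ (y * y')).2 (θ y * θ y').2) ?_
      rw [br_AA_mul D (θ (y * y')).2 (θ y * θ y').2, h1, D.two]
    have h4 := D.sq_B (D.AA_le (θ y * θ y').2)
    exact Subtype.ext (mul_right_cancel (h3.trans h4.symm))
  have hθK : ∀ k ∈ KV, ∀ y : D.AA, ∀ y' : D.AA, (y' : H) = k * y * k⁻¹ →
      ((θ y' : D.AA) : H) = m * k * m⁻¹ * (θ y : H) * (m * k * m⁻¹)⁻¹ := by
    intro k hk y y' e
    have hmk := B.nK m hm k hk
    have hx : m * k * m⁻¹ * (θ y : H) * (m * k * m⁻¹)⁻¹ ∈ D.AA := B.AA_K _ hmk _ (θ y).2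
    have h1 : br ((θ y' : D.AA) : H) l = br (m * k * m⁻¹ * (θ y : H) * (m * k * m⁻¹)⁻¹) l := by
      rw [← hθ, e, B.br_K hk y.2, B.br_K hmk (θ y).2, ← hθ, smul_smul, smul_smul]
      congr 1
      group
    have h3 : ((θ y' : D.AA) : H) * (m * k * m⁻¹ * (θ y : H) * (m * k * m⁻¹)⁻¹) = 1 := by
      refine eq_one_of_br D hlC (mul_mem (θ y').2 hx) ?_
      rw [br_AA_mul D (θ y').2 hx, h1, D.two]
    have h4 := D.sq_B (D.AA_le hx)
    exact mul_right_cancel (h3.trans h4.symm)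
  -- the homomorphisms
  intro v hv
  obtain ⟨w, hw, rfl⟩ := (AddSubgroup.mem_smul_pointwise_iff_exists _ _ _).1 hv
  clear hv
  induction hw using AddSubgroup.closure_induction with
  | zero => rw [smul_zero]; exact zero_mem _
  | add a b _ _ ha hb => rw [smul_add]; exact add_mem ha hb
  | neg a _ ha => rw [smul_neg]; exact neg_mem ha
  | mem w hw =>
    obtain ⟨x0, hx0, u, rfl⟩ := hw
    classical
    let ψ : D.AA → D.AA := fun y => (hbij.2 y).choose
    have hψ : ∀ y, θ (ψ y) = y := fun y => (hbij.2 y).choose_spec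
    let φ : H → U := fun y => if hy : y ∈ D.AA then m • br ((ψ ⟨y, hy⟩ : D.AA) : H) u else 0
    have hφ : ∀ y (hy : y ∈ D.AA), φ y = m • br ((ψ ⟨y, hy⟩ : D.AA) : H) u := fun y hy => dif_pos hy
    have hψmul : ∀ y y' : D.AA, ψ (y * y') = ψ y * ψ y' := fun y y' => hinj (by
      rw [hθmul, hψ, hψ, hψ])
    obtain ⟨l2, hl2, e2⟩ := exists_hom D (φ := φ) (fun x hx y hy => by
        rw [hφ x hx, hφ y hy, hφ _ (mul_mem hx hy)]
        have e : (⟨x * y, mul_mem hx hy⟩ : D.AA) = ⟨x, hx⟩ * ⟨y, hy⟩ := rfl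
        rw [e, hψmul, Subgroup.coe_mul, br_AA_mul D (ψ _).2 (ψ _).2, smul_add])
      (fun y hy => by rw [hφ y hy]; exact B.mV m hm _ (D.AA_V (ψ _).2 u))
      (fun k hk y hy => by
        have hkK := B.YK hk
        have hmk := B.nK' hm hkK
        rw [hφ y hy, hφ _ (D.AA_conj hk hy)]
        have hx : m⁻¹ * k * m * (ψ ⟨y, hy⟩ : H) * (m⁻¹ * k * m)⁻¹ ∈ D.AA := B.AA_K _ hmk _ (ψ _).2
        have h1 : ψ ⟨k * y * k⁻¹, D.AA_conj hk hy⟩ = ⟨_, hx⟩ := by
          apply hinj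
          rw [hψ]
          apply Subtype.ext
          rw [hθK _ hmk (ψ ⟨y, hy⟩) ⟨_, hx⟩ rfl, hψ]
          group
        rw [h1]
        change m • br (m⁻¹ * k * m * (ψ ⟨y, hy⟩ : H) * (m⁻¹ * k * m)⁻¹) u = _
        rw [B.br_K hmk (ψ _).2, smul_smul, smul_smul]
        congr 1
        group)
    have h1 := e2 (θ ⟨x0, hx0⟩) (θ ⟨x0, hx0⟩).2
    rw [hφ _ (θ ⟨x0, hx0⟩).2] at h1
    have h2 : ψ ⟨(θ ⟨x0, hx0⟩ : H), (θ ⟨x0, hx0⟩).2⟩ = ⟨x0, hx0⟩ := hinj (by rw [hψ])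
    rw [h2] at h1
    rw [h1]
    exact br_mem_V1 D (θ ⟨x0, hx0⟩).2 l2

omit B in
theorem card_smul (m : H) (X : AddSubgroup U) : Nat.card (m • X : AddSubgroup U) = Nat.card X :=
  Nat.card_congr ⟨fun x => ⟨m⁻¹ • (x : U), AddSubgroup.mem_pointwise_smul_iff_inv_smul_mem.1 x.2⟩,
    fun x => ⟨m • (x : U), AddSubgroup.smul_mem_pointwise_smul _ _ _ x.2⟩,
    fun _ => Subtype.ext (smul_inv_smul m _), fun _ => Subtype.ext (inv_smul_smul m _)⟩

theorem mem_smul {m : H} {v : U} : v ∈ m • V1 B.dat ↔ ∃ w ∈ V1 B.dat, m • w = v :=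
  AddSubgroup.mem_smul_pointwise_iff_exists _ _ _

/-- **Dichotomy** -/
theorem dich [Finite H] [Finite U] {m : H} (hm : m ∈ M) : m • V1 B.dat = V1 B.dat ∨ V1 B.dat ⊓ m • V1 B.dat = ⊥ := by
  by_cases hne : V1 B.dat ⊓ m • V1 B.dat = ⊥
  · exact Or.inr hne
  left
  have h1 := B.le_of_inf_ne hm hne
  refine AddSubgroup.eq_of_le_of_card_ge h1 (le_of_eq ?_)
  exact (card_smul m _).symm

/-- `Y^m` centralises `m' V₁ ≠ m V₁`. -/
theorem cent [Finite H] [Finite U] {m m' : H} (hm : m ∈ M) (hm' : m' ∈ M)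
    (hne : m • V1 B.dat ≠ m' • V1 B.dat) {k : H} (hk : k ∈ Y) {v : U} (hv : v ∈ m' • V1 B.dat) :
    (m * k * m⁻¹) • v = v := by
  have hn : m⁻¹ * m' ∈ M := mul_mem (inv_mem hm) hm'
  have h1 : V1 B.dat ⊓ (m⁻¹ * m') • V1 B.dat = ⊥ := by
    refine (B.dich hn).resolve_left fun h1 => hne ?_
    rw [mul_smul, inv_smul_eq_iff] at h1
    exact h1.symm
  have hv' : m⁻¹ • v ∈ (m⁻¹ * m') • V1 B.dat := by
    rw [mul_smul]
    exact AddSubgroup.smul_mem_pointwise_smul _ _ _ hv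
  have h2 : br k (m⁻¹ • v) ∈ V1 B.dat ⊓ (m⁻¹ * m') • V1 B.dat := by
    refine ⟨br_Y_V1 B.dat hk (B.smul_V1_le hn hv'), ?_⟩
    change br k (m⁻¹ • v) ∈ (m⁻¹ * m') • V1 B.dat
    rw [br_def]
    exact sub_mem (B.smul_V1_K hn (B.YK hk) hv') hv'
  rw [h1, AddSubgroup.mem_bot, br_eq_zero] at h2
  rw [mul_smul, mul_smul, h2, smul_inv_smul]

/-- the sum of the blocks different from `m V₁` -/
def rest (m : H) : AddSubgroup U := AddSubgroup.closure {v | ∃ m' ∈ M, m • V1 B.dat ≠ m' • V1 B.dat ∧ v ∈ m' • V1 B.dat}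

/-- the sum of all blocks -/
def all : AddSubgroup U := AddSubgroup.closure {v | ∃ m ∈ M, v ∈ m • V1 B.dat}

theorem le_rest {m m' : H} (hm' : m' ∈ M) (hne : m • V1 B.dat ≠ m' • V1 B.dat) : m' • V1 B.dat ≤ B.rest m :=
  fun _ hv => AddSubgroup.subset_closure ⟨m', hm', hne, hv⟩

theorem le_all {m : H} (hm : m ∈ M) : m • V1 B.dat ≤ B.all :=
  fun _ hv => AddSubgroup.subset_closure ⟨m, hm, hv⟩

theorem rest_le_all (m : H) : B.rest m ≤ B.all := by
  refine (AddSubgroup.closure_le _).2 ?_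
  rintro v ⟨m', hm', -, hv⟩
  exact B.le_all hm' hv

theorem all_le : B.all ≤ V := by
  refine (AddSubgroup.closure_le _).2 ?_
  rintro v ⟨m, hm, hv⟩
  exact B.smul_V1_le hm hv

theorem rest_le (m : H) : B.rest m ≤ V := (B.rest_le_all m).trans B.all_le

theorem cent_rest [Finite H] [Finite U] {m : H} (hm : m ∈ M) {k : H} (hk : k ∈ Y) {v : U} (hv : v ∈ B.rest m) :
    (m * k * m⁻¹) • v = v := by
  induction hv using AddSubgroup.closure_induction with
  | mem v hv =>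
    obtain ⟨m', hm', hne, hv⟩ := hv
    exact B.cent hm hm' hne hk hv
  | zero => exact smul_zero _
  | add a b _ _ ha hb => rw [smul_add, ha, hb]
  | neg a _ ha => rw [smul_neg, ha]

/-- **The sum of the blocks is direct.** -/
theorem indep [Finite H] [Finite U] {m : H} (hm : m ∈ M) : m • V1 B.dat ⊓ B.rest m = ⊥ := by
  rw [eq_bot_iff]
  rintro v ⟨hv1, hv2⟩
  obtain ⟨w, hw, rfl⟩ := B.mem_smul.1 hv1
  have h1 : w = 0 := V1_fix B.dat hw fun k hk => by
    have h2 := B.cent_rest hm hk hv2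
    rw [smul_smul, inv_mul_cancel_right, mul_smul] at h2
    exact smul_left_cancel m h2
  rw [h1, smul_zero]
  exact zero_mem _

theorem mem_all {v : U} (hv : v ∈ B.all) (m : H) : ∃ a ∈ m • V1 B.dat, ∃ b ∈ B.rest m, v = a + b := by
  classical
  induction hv using AddSubgroup.closure_induction with
  | mem v hv =>
    obtain ⟨m', hm', hv⟩ := hv
    by_cases hne : m • V1 B.dat = m' • V1 B.dat
    · exact ⟨v, hne ▸ hv, 0, zero_mem _, (add_zero v).symm⟩
    · exact ⟨0, zero_mem _, v, B.le_rest hm' hne hv, (zero_add v).symm⟩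
  | zero => exact ⟨0, zero_mem _, 0, zero_mem _, (add_zero 0).symm⟩
  | add a b _ _ ha hb =>
    obtain ⟨a1, ha1, a2, ha2, rfl⟩ := ha
    obtain ⟨b1, hb1, b2, hb2, rfl⟩ := hb
    exact ⟨_, add_mem ha1 hb1, _, add_mem ha2 hb2, by abel⟩
  | neg a _ ha =>
    obtain ⟨a1, ha1, a2, ha2, rfl⟩ := ha
    exact ⟨_, neg_mem ha1, _, neg_mem ha2, by abel⟩

/-- `M` permutes the blocks. -/
theorem all_M {m : H} (hm : m ∈ M) {v : U} (hv : v ∈ B.all) : m • v ∈ B.all := by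
  induction hv using AddSubgroup.closure_induction with
  | mem v hv =>
    obtain ⟨m', hm', hv⟩ := hv
    refine B.le_all (mul_mem hm hm') ?_
    rw [mul_smul]
    exact AddSubgroup.smul_mem_pointwise_smul _ _ _ hv
  | zero => rw [smul_zero]; exact zero_mem _
  | add a b _ _ ha hb => rw [smul_add]; exact add_mem ha hb
  | neg a _ ha => rw [smul_neg]; exact neg_mem ha

/-- the normal closure of `Y` in `M` -/
def YM (_B : Blk Y Q BB V F L C h M KV S O) : Subgroup H := closure {x | ∃ m ∈ M, ∃ k ∈ Y, x = m * k * m⁻¹}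

theorem YM_le : B.YM ≤ KV := by
  refine (closure_le _).2 ?_
  rintro _ ⟨m, hm, k, hk, rfl⟩
  exact B.nK m hm k (B.YK hk)

theorem YM_conj {m x : H} (hm : m ∈ M) (hx : x ∈ B.YM) : m * x * m⁻¹ ∈ B.YM := by
  induction hx using closure_induction with
  | mem x hx =>
    obtain ⟨g, hg, k, hk, rfl⟩ := hx
    exact subset_closure ⟨m * g, mul_mem hm hg, k, hk, by group⟩
  | one => rw [mul_one, mul_inv_cancel]; exact one_mem _
  | mul x y _ _ hx hy =>
    have e : m * (x * y) * m⁻¹ = m * x * m⁻¹ * (m * y * m⁻¹) := by group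
    rw [e]; exact mul_mem hx hy
  | inv x _ hx =>
    have e : m * x⁻¹ * m⁻¹ = (m * x * m⁻¹)⁻¹ := by group
    rw [e]; exact inv_mem hx

theorem conj_mem_YM {m k : H} (hm : m ∈ M) (hk : k ∈ Y) : m * k * m⁻¹ ∈ B.YM :=
  subset_closure ⟨m, hm, k, hk, rfl⟩

/-- `[V, Y^M] ≤ Σ m V₁` -/
theorem br_YM [Finite H] [Finite U] {x : H} (hx : x ∈ B.YM) {v : U} (hv : v ∈ V) : br x v ∈ B.all := by
  induction hx using closure_induction generalizing v with
  | mem x hx =>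
    obtain ⟨m, hm, k, hk, rfl⟩ := hx
    have e : v = m • (m⁻¹ • v) := (smul_inv_smul m v).symm
    rw [e, br_conj_smul]
    refine B.le_all hm (AddSubgroup.smul_mem_pointwise_smul _ _ _ ?_)
    exact br_Y_V1 B.dat hk (B.mV _ (inv_mem hm) v hv)
  | one => rw [br_one]; exact zero_mem _
  | mul a b ha _ iha ihb =>
    have e : br (a * b) v = a • br b v + br a v := by
      simp only [br_def, mul_smul, smul_sub]; abel
    rw [e]
    exact add_mem (B.all_M (B.KM (B.YM_le ha)) (ihb hv)) (iha hv)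
  | inv a ha iha =>
    have e : br a⁻¹ v = - br a (a⁻¹ • v) := by
      rw [br_def, br_def, smul_inv_smul]; abel
    rw [e]
    exact neg_mem (iha (B.mV _ (inv_mem (B.KM (B.YM_le ha))) v hv))

/-- `O ≤ Y^M` -/
theorem O_le : O ≤ B.YM := by
  obtain ⟨m, hm, hpr⟩ := B.pr
  exact hpr _ (B.YM_le.trans B.KM) (fun q hq => B.conj_mem_YM hm (B.dat.QY hq)) (fun o ho n hn => B.YM_conj (B.OM ho) hn)
    fun s hs n hn => B.YM_conj (B.SM hs) hn

/-- **Gaschütz** -/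
theorem le_sum [Finite H] [Finite U] : V ≤ B.all := by
  refine B.gen _ (fun m hm w hw => B.all_M hm hw) fun z hzV hz => ?_
  have hn : (B.YM.subgroupOf M).Normal := ⟨fun n hn g => by
    rw [mem_subgroupOf] at hn ⊢
    exact B.YM_conj g.2 hn⟩
  obtain ⟨z', h1, h2, h3⟩ := exists_fixed (M := M) (U := U) B.dat.two (S := S.subgroupOf M) (N := B.YM.subgroupOf M)
    (z := z) B.syl B.all (fun s hs => hz _ (mem_subgroupOf.1 hs)) fun n hn => B.br_YM (mem_subgroupOf.1 hn) hzV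
  have hz'V : z' ∈ V := by
    have e : z' = (z' - z) + z := by abel
    rw [e]; exact add_mem (B.all_le h3) hzV
  have h4 : z' = 0 := B.cz z' hz'V (fun s hs => h2 ⟨s, B.SM hs⟩ (mem_subgroupOf.2 hs)) fun o ho =>
    h1 ⟨o, B.OM ho⟩ (mem_subgroupOf.2 (B.O_le ho))
  rw [h4, zero_sub] at h3
  exact neg_mem_iff.1 h3

theorem all_eq [Finite H] [Finite U] : B.all = V := le_antisymm B.all_le B.le_sum

/-- `V = m V₁ + rest`. -/
theorem exists_add [Finite H] [Finite U] (m : H) {v : U} (hv : v ∈ V) :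
    ∃ a ∈ m • V1 B.dat, ∃ b ∈ B.rest m, v = a + b := B.mem_all (B.le_sum hv) m

/-- `KV` normalises every block. -/
theorem smul_eq_K [Finite H] [Finite U] {m k : H} (hm : m ∈ M) (hk : k ∈ KV) :
    k • m • V1 B.dat = m • V1 B.dat := by
  refine AddSubgroup.eq_of_le_of_card_ge (fun v hv => ?_) (le_of_eq ?_)
  · obtain ⟨w, hw, rfl⟩ := (AddSubgroup.mem_smul_pointwise_iff_exists _ _ _).1 hv
    exact B.smul_V1_K hm hk hw
  · exact (card_smul k _).symm

/-- **`S` is transitive on the blocks.** -/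
theorem trans [Finite H] [Finite U] {m m' : H} (hm : m ∈ M) (hm' : m' ∈ M) :
    ∃ s ∈ S, s • m • V1 B.dat = m' • V1 B.dat := by
  classical
  obtain ⟨m0, hm0, hpr⟩ := B.pr
  suffices key : ∀ m ∈ M, ∃ s ∈ S, s • m0 • V1 B.dat = m • V1 B.dat by
    obtain ⟨s, hs, e⟩ := key m hm
    obtain ⟨s', hs', e'⟩ := key m' hm'
    refine ⟨s' * s⁻¹, mul_mem hs' (inv_mem hs), ?_⟩
    rw [mul_smul, inv_smul_eq_iff.2 e.symm, e']
  intro m1 hm1
  by_contra hcon
  push Not at hcon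
  -- the sum of the other blocks
  let X : AddSubgroup U := AddSubgroup.closure {v | ∃ m ∈ M, (∀ s ∈ S, s • m0 • V1 B.dat ≠ m • V1 B.dat) ∧
    v ∈ m • V1 B.dat}
  have hXV : X ≤ V := by
    refine (AddSubgroup.closure_le _).2 ?_
    rintro v ⟨m, hm, -, hv⟩
    exact B.smul_V1_le hm hv
  have hXS : ∀ s ∈ S, ∀ x ∈ X, s • x ∈ X := by
    intro s hs x hx
    induction hx using AddSubgroup.closure_induction with
    | mem v hv =>
      obtain ⟨m, hm, hne, hv⟩ := hv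
      refine AddSubgroup.subset_closure ⟨s * m, mul_mem (B.SM hs) hm, fun t ht e => ?_, ?_⟩
      · refine hne (s⁻¹ * t) (mul_mem (inv_mem hs) ht) ?_
        rw [mul_smul, e, mul_smul, inv_smul_smul]
      · rw [mul_smul]
        exact AddSubgroup.smul_mem_pointwise_smul _ _ _ hv
    | zero => rw [smul_zero]; exact zero_mem _
    | add a b _ _ ha hb => rw [smul_add]; exact add_mem ha hb
    | neg a _ ha => rw [smul_neg]; exact neg_mem ha
  have hXK : ∀ k ∈ KV, ∀ x ∈ X, k • x ∈ X := by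
    intro k hk x hx
    induction hx using AddSubgroup.closure_induction with
    | mem v hv =>
      obtain ⟨m, hm, hne, hv⟩ := hv
      exact AddSubgroup.subset_closure ⟨m, hm, hne, B.smul_V1_K hm hk hv⟩
    | zero => rw [smul_zero]; exact zero_mem _
    | add a b _ _ ha hb => rw [smul_add]; exact add_mem ha hb
    | neg a _ ha => rw [smul_neg]; exact neg_mem ha
  have hXne : ∃ x ∈ X, x ≠ 0 := by
    obtain ⟨a, ha, ha'⟩ := B.dat.exists_notMem
    have h1 : ∃ u : U, br a u ≠ 0 := by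
      by_contra h0
      push Not at h0
      have h2 : a = 1 := B.dat.ext fun u => by rw [h0 u, br_one]
      exact ha' (h2 ▸ one_mem _)
    obtain ⟨u, hu⟩ := h1
    refine ⟨m1 • br a u, AddSubgroup.subset_closure ⟨m1, hm1, hcon,
      AddSubgroup.smul_mem_pointwise_smul _ _ _ (br_mem_V1 B.dat ha u)⟩, fun h0 => hu ?_⟩
    rw [← inv_smul_smul m1 (br a u), h0, smul_zero]
  -- `O` centralises `X`
  let N : Subgroup H :=
    { carrier := {n | n ∈ B.YM ∧ ∀ x ∈ X, n • x = x}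
      one_mem' := ⟨one_mem _, fun x _ => one_smul _ x⟩
      mul_mem' := fun {a b} ha hb => ⟨mul_mem ha.1 hb.1, fun x hx => by rw [mul_smul, hb.2 x hx, ha.2 x hx]⟩
      inv_mem' := fun {a} ha => ⟨inv_mem ha.1, fun x hx => by rw [inv_smul_eq_iff, ha.2 x hx]⟩ }
  have hconj : ∀ g ∈ M, (∀ x ∈ X, g⁻¹ • x ∈ X) → ∀ n ∈ N, g * n * g⁻¹ ∈ N := by
    intro g hg hgX n hn
    refine ⟨B.YM_conj hg hn.1, fun x hx => ?_⟩
    rw [mul_smul, mul_smul, hn.2 _ (hgX x hx), smul_inv_smul]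
  have hON : O ≤ N := by
    refine hpr N (fun n hn => B.KM (B.YM_le hn.1)) (fun q hq => ⟨B.conj_mem_YM hm0 (B.dat.QY hq), fun x hx => ?_⟩)
      (fun o ho => hconj o (B.OM ho) fun x hx => hXK _ (inv_mem (B.YM_le (B.O_le ho))) x hx)
      fun s hs => hconj s (B.SM hs) fun x hx => hXS _ (inv_mem hs) x hx
    induction hx using AddSubgroup.closure_induction with
    | mem v hv =>
      obtain ⟨m, hm, hne, hv⟩ := hv
      refine B.cent hm0 hm ?_ (B.dat.QY hq) hv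
      have := hne 1 (one_mem _)
      rwa [one_smul] at this
    | zero => exact smul_zero _
    | add a b _ _ ha hb => rw [smul_add, ha, hb]
    | neg a _ ha => rw [smul_neg, ha]
  -- a fixed point of `S` on `X`
  have : Fact (Nat.Prime 2) := ⟨Nat.prime_two⟩
  let act : MulAction S X :=
    { smul := fun s x => ⟨(s : H) • (x : U), hXS s s.2 x x.2⟩
      one_smul := fun x => Subtype.ext (one_smul H (x : U))
      mul_smul := fun s t x => Subtype.ext (mul_smul (s : H) (t : H) (x : U)) }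
  have hsmul : ∀ (s : S) (x : X), ((s • x : X) : U) = (s : H) • (x : U) := fun s x => rfl
  obtain ⟨x, hx, hx0⟩ := hXne
  have hXp : 2 ∣ Nat.card X := by
    have h1 : addOrderOf (⟨x, hx⟩ : X) = 2 := by
      refine addOrderOf_eq_prime ?_ fun h0 => hx0 (congrArg Subtype.val h0)
      rw [two_nsmul]
      exact Subtype.ext (B.dat.two x)
    rw [← h1]
    exact addOrderOf_dvd_natCard _
  have h0fix : (0 : X) ∈ MulAction.fixedPoints S X := fun s => Subtype.ext (smul_zero (s : H))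
  obtain ⟨z, hz, hzne⟩ := B.S2.exists_fixed_point_of_prime_dvd_card_of_fixed_point X hXp h0fix
  apply hzne
  have h1 : (z : U) = 0 := B.cz z (hXV z.2) (fun s hs => by
    have := hz ⟨s, hs⟩
    exact congrArg Subtype.val this) fun o ho => (hON ho).2 z z.2
  exact (Subtype.ext h1).symm

/-- `m V₁ ≤ F` for `m V₁ ≠ V₁`. -/
theorem le_F [Finite H] [Finite U] {m : H} (hm : m ∈ M) (hne : m • V1 B.dat ≠ V1 B.dat) : m • V1 B.dat ≤ F := by
  by_contra hnot
  obtain ⟨l, hl, hlC, hlW⟩ := exists_sub B.dat (W := m • V1 B.dat) (B.smul_V1_le hm)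
    (fun k hk w hw => B.smul_V1_K hm (B.YK hk) hw) hnot
  obtain ⟨a, ha, ha'⟩ := B.dat.exists_notMem
  have h1 : V1 B.dat ⊓ m • V1 B.dat = ⊥ := (B.dich hm).resolve_left hne
  have h2 : br a l ∈ V1 B.dat ⊓ m • V1 B.dat := ⟨br_mem_V1 B.dat ha l, hlW a ha⟩
  rw [h1, AddSubgroup.mem_bot] at h2
  exact ha' (eq_one_of_br B.dat hlC ha h2 ▸ one_mem _)

theorem rest_le_F [Finite H] [Finite U] : B.rest 1 ≤ F := by
  refine (AddSubgroup.closure_le _).2 ?_
  rintro v ⟨m, hm, hne, hv⟩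
  refine B.le_F hm (fun h1 => hne ?_) hv
  rw [one_smul, h1]

/-- `F = (F ∩ V₁) + (the other blocks)` -/
theorem F_eq [Finite H] [Finite U] {f : U} (hf : f ∈ F) : ∃ a ∈ V1 B.dat, a ∈ F ∧ ∃ b ∈ B.rest 1, f = a + b := by
  obtain ⟨a, ha, b, hb, e⟩ := B.exists_add 1 (B.dat.FV hf)
  rw [one_smul] at ha
  refine ⟨a, ha, ?_, b, hb, e⟩
  have e' : a = f - b := by rw [e]; abel
  rw [e']
  exact sub_mem hf (B.rest_le_F hb)

/-- An element of `M` fixing some nonzero vector of `V₁` normalises `V₁`. -/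
theorem smul_eq_of_fix [Finite H] [Finite U] {m : H} (hm : m ∈ M) {v : U} (hv : v ∈ V1 B.dat) (hv0 : v ≠ 0)
    (hmv : m • v = v) : m • V1 B.dat = V1 B.dat := by
  refine (B.dich hm).resolve_right fun h1 => hv0 ?_
  have h2 : v ∈ V1 B.dat ⊓ m • V1 B.dat := ⟨hv, B.mem_smul.2 ⟨v, hv, hmv⟩⟩
  rwa [h1, AddSubgroup.mem_bot] at h2

/-- `F ∩ V₁ ≠ 0` -/
theorem exists_F_V1 [Finite H] [Finite U] : ∃ v ∈ V1 B.dat, v ∈ F ∧ v ≠ 0 := by
  obtain ⟨s, hs, hs1, hsF⟩ := B.dat.ne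
  have h1 : ∃ l ∈ L, br s l ≠ 0 := by
    by_contra h0
    push Not at h0
    exact hs1 (B.dat.eq_one hs h0)
  obtain ⟨l, hl, hne⟩ := h1
  exact ⟨br s l, br_mem_V1 B.dat (B.dat.AZ_le_AA ⟨hs, hsF⟩) l, hsF l, hne⟩

/-- An element of `M` which is trivial on `F` normalises every block. -/
theorem fix_of_F [Finite H] [Finite U] {t : H} (ht : t ∈ M) (htF : ∀ f ∈ F, t • f = f) {m : H} (hm : m ∈ M) :
    t • m • V1 B.dat = m • V1 B.dat := by
  by_cases hne : m • V1 B.dat = V1 B.dat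
  · rw [hne]
    obtain ⟨v, hv, hvF, hv0⟩ := B.exists_F_V1
    exact B.smul_eq_of_fix ht hv hv0 (htF v hvF)
  · have h1 := B.le_F hm hne
    refine AddSubgroup.eq_of_le_of_card_ge (fun v hv => ?_) (le_of_eq ?_)
    · obtain ⟨w, hw, rfl⟩ := (AddSubgroup.mem_smul_pointwise_iff_exists _ _ _).1 hv
      rw [htF w (h1 hw)]
      exact hw
    · exact (card_smul t _).symm

end Blk

end Cfsg.Agent.Omega.NO3b.Exit.TBlk

end

end

-- merged: Cfsg.Agent.Mrg.Omega.NO3b.Exit.TightDat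
section

section


/-!
# From TIGHT to the M-side (#18319 (1), #18653; plug X-side → `Ten.Dat`)

* `nst M Q n` : `M`, `⟨Q^M⟩`, `⟨Q^{⟨Q^M⟩}⟩`, …; `sbc M Q = ⨅ n, nst M Q n` : the subnormal closure of `Q` in `M`;
  `sbc_gen`, `sbc_conj` (conjugation), `sbc_red` (`O₂(sbc M Q / C(V)) = 1` if `O₂(M / C_M(V)) = 1`);
* `MX M X D B V F g` : `H` acts faithfully on `U`, `M` stabilises `V`, `D ⊴ M`, `D ≤ X` centralises `V`, `B ≤ D`
  quadratic, `X` centralises `F ≤ V` and the lines `x V ≠ V` meet `V` in `F`, `U = g V + C_U(B)`,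
  `g V ∩ C_U(B) = F`, `g ∈ X`, some `1 ≠ y ∈ B` has `[U, y] ≤ F`, and the elements `x ∈ X` with `[U, x] ≤ F` lie in
  `M`;
* `KV M V = C_M(U / V)`, `FFq M F = {m ∈ M | [U, m] ≤ F, [F, m] = 0}`, `BBq M V B = ⟨B^{KV}⟩`;
* `MX.dat : Ten.Dat (sbc M (FFq M F)) (FFq M F) (BBq M V B) V F (g • V) (fx U B) g⁻¹`.
-/

set_option autoImplicit false

namespace Cfsg.Agent.Omega.NO3b.Exit.TDat

open Subgroup
open Cfsg.Agent.Omega.FF.Basic
open Cfsg.Agent.Omega.NO3b.Exit.Ten (br br_def br_add br_mul br_one br_zero br_conj_smul br_eq_zero smul_eq)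
open scoped Pointwise

universe u v

/-! ### The subnormal closure -/

section sbc

variable {H : Type u} [Group H]

/-- `M`, `⟨Q^M⟩`, … -/
def nst (M Q : Subgroup H) : ℕ → Subgroup H
  | 0 => M
  | n + 1 => closure {x | ∃ k ∈ nst M Q n, ∃ q ∈ Q, x = k * q * k⁻¹}

/-- The subnormal closure of `Q` in `M`. -/
def sbc (M Q : Subgroup H) : Subgroup H := ⨅ n, nst M Q n

variable {M Q : Subgroup H}

theorem le_nst (hQ : Q ≤ M) (n : ℕ) : Q ≤ nst M Q n := by
  cases n with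
  | zero => exact hQ
  | succ n => exact fun q hq => subset_closure ⟨1, one_mem _, q, hq, by group⟩

theorem nst_succ_le (hQ : Q ≤ M) (n : ℕ) : nst M Q (n + 1) ≤ nst M Q n := by
  refine (closure_le _).2 ?_
  rintro _ ⟨k, hk, q, hq, rfl⟩
  exact mul_mem (mul_mem hk (le_nst hQ n hq)) (inv_mem hk)

theorem nst_anti (hQ : Q ≤ M) : Antitone (nst M Q) := antitone_nat_of_succ_le (nst_succ_le hQ)

theorem nst_norm (n : ℕ) {k x : H} (hk : k ∈ nst M Q n) (hx : x ∈ nst M Q (n + 1)) :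
    k * x * k⁻¹ ∈ nst M Q (n + 1) := by
  change x ∈ Subgroup.closure _ at hx
  induction hx using closure_induction with
  | mem x hx =>
    obtain ⟨l, hl, q, hq, rfl⟩ := hx
    exact subset_closure ⟨k * l, mul_mem hk hl, q, hq, by group⟩
  | one => rw [mul_one, mul_inv_cancel]; exact one_mem _
  | mul x y _ _ hx hy =>
    have e : k * (x * y) * k⁻¹ = k * x * k⁻¹ * (k * y * k⁻¹) := by group
    rw [e]; exact mul_mem hx hy
  | inv x _ hx =>
    have e : k * x⁻¹ * k⁻¹ = (k * x * k⁻¹)⁻¹ := by group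
    rw [e]; exact inv_mem hx

theorem le_sbc (hQ : Q ≤ M) : Q ≤ sbc M Q := le_iInf fun n => le_nst hQ n

theorem sbc_le_nst (n : ℕ) : sbc M Q ≤ nst M Q n := iInf_le _ n

theorem sbc_le : sbc M Q ≤ M := sbc_le_nst 0

theorem exists_stab [Finite H] (hQ : Q ≤ M) : ∃ n, sbc M Q = nst M Q n ∧ nst M Q (n + 1) = nst M Q n := by
  obtain ⟨n, hn⟩ := WellFoundedGT.monotone_chain_condition (α := (Subgroup H)ᵒᵈ)
    ⟨fun n => OrderDual.toDual (nst M Q n), fun _ _ h => nst_anti hQ h⟩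
  have h1 : ∀ m, n ≤ m → nst M Q n = nst M Q m := fun m hm => hn m hm
  refine ⟨n, le_antisymm (sbc_le_nst n) (le_iInf fun m => ?_), (h1 (n + 1) (Nat.le_succ n)).symm⟩
  rcases le_total n m with h | h
  · exact (h1 m h).le
  · exact nst_anti hQ h

/-- the normal closure of `Q` in `sbc M Q` is `sbc M Q` -/
theorem sbc_gen [Finite H] (hQ : Q ≤ M) {N : Subgroup H} (hN : ∀ k ∈ sbc M Q, ∀ n ∈ N, k * n * k⁻¹ ∈ N)
    (hQN : Q ≤ N) : sbc M Q ≤ N := by
  obtain ⟨n, h1, h2⟩ := exists_stab hQ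
  rw [h1, ← h2]
  refine (closure_le _).2 ?_
  rintro _ ⟨k, hk, q, hq, rfl⟩
  exact hN k (by rw [h1]; exact hk) q (hQN hq)

/-- `nst` and conjugation -/
theorem nst_conj {k : H} (hkM : ∀ m ∈ M, k * m * k⁻¹ ∈ M) {Q' : Subgroup H} (hQ : ∀ q ∈ Q, k * q * k⁻¹ ∈ Q') (n : ℕ)
    {x : H} (hx : x ∈ nst M Q n) : k * x * k⁻¹ ∈ nst M Q' n := by
  induction n generalizing x with
  | zero => exact hkM x hx
  | succ n ih =>
    change x ∈ Subgroup.closure _ at hx
    induction hx using closure_induction with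
    | mem x hx =>
      obtain ⟨l, hl, q, hq, rfl⟩ := hx
      exact subset_closure ⟨k * l * k⁻¹, ih hl, k * q * k⁻¹, hQ q hq, by group⟩
    | one => rw [mul_one, mul_inv_cancel]; exact one_mem _
    | mul x y _ _ hx hy =>
      have e : k * (x * y) * k⁻¹ = k * x * k⁻¹ * (k * y * k⁻¹) := by group
      rw [e]; exact mul_mem hx hy
    | inv x _ hx =>
      have e : k * x⁻¹ * k⁻¹ = (k * x * k⁻¹)⁻¹ := by group
      rw [e]; exact inv_mem hx

theorem sbc_conj {k : H} (hkM : ∀ m ∈ M, k * m * k⁻¹ ∈ M) {Q' : Subgroup H} (hQ : ∀ q ∈ Q, k * q * k⁻¹ ∈ Q')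
    {x : H} (hx : x ∈ sbc M Q) : k * x * k⁻¹ ∈ sbc M Q' :=
  mem_iInf.2 fun n => nst_conj hkM hQ n (mem_iInf.1 hx n)

/-- `sbc` is monotone in `Q`. -/
theorem nst_mono {Q' : Subgroup H} (hQ : Q ≤ Q') (n : ℕ) : nst M Q n ≤ nst M Q' n := by
  induction n with
  | zero => exact le_rfl
  | succ n ih =>
    refine closure_mono ?_
    rintro _ ⟨k, hk, q, hq, rfl⟩
    exact ⟨k, ih hk, q, hQ hq, rfl⟩

theorem sbc_mono {Q' : Subgroup H} (hQ : Q ≤ Q') : sbc M Q ≤ sbc M Q' := iInf_mono fun n => nst_mono hQ n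

/-- a normal subgroup of `M` containing `Q` contains `sbc M Q` -/
theorem sbc_le_of_normal {N : Subgroup H} (hN : ∀ k ∈ M, ∀ n ∈ N, k * n * k⁻¹ ∈ N) (hQN : Q ≤ N) :
    sbc M Q ≤ N := by
  refine (sbc_le_nst 1).trans ((closure_le _).2 ?_)
  rintro _ ⟨k, hk, q, hq, rfl⟩
  exact hN k hk q (hQN hq)

end sbc

/-! ### `O₂(M / C_M(V)) = 1` -/

section red

variable {H : Type u} {U : Type v} [Group H] [AddCommGroup U] [DistribMulAction H U]

/-- `O₂(M / C_M(V)) = 1` -/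
def Red (M : Subgroup H) (V : AddSubgroup U) : Prop :=
  ∀ N : Subgroup H, N ≤ M → (∀ k ∈ M, ∀ n ∈ N, k * n * k⁻¹ ∈ N) →
    (∀ n ∈ N, ∃ j : ℕ, ∀ v ∈ V, n ^ 2 ^ j • v = v) → ∀ n ∈ N, ∀ v ∈ V, n • v = v

/-- a normal subgroup inherits `Red` -/
theorem Red.normal [Finite H] {M M' : Subgroup H} {V : AddSubgroup U} (hr : Red M V)
    (hV : ∀ m ∈ M, ∀ v ∈ V, m • v ∈ V) (hle : M' ≤ M) (hn : ∀ k ∈ M, ∀ n ∈ M', k * n * k⁻¹ ∈ M') : Red M' V := by
  classical
  have : Fact (Nat.Prime 2) := ⟨Nat.prime_two⟩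
  -- the set of normal subgroups of `M'` which act as 2-groups
  let 𝒩 : Set (Subgroup H) := {N | N ≤ M' ∧ (∀ k ∈ M', ∀ n ∈ N, k * n * k⁻¹ ∈ N) ∧
    ∀ n ∈ N, ∃ j : ℕ, ∀ v ∈ V, n ^ 2 ^ j • v = v}
  have hbot : (⊥ : Subgroup H) ∈ 𝒩 := by
    refine ⟨bot_le, fun k _ n hn => ?_, fun n hn => ⟨0, fun v _ => ?_⟩⟩
    · rw [mem_bot] at hn ⊢; rw [hn]; group
    · rw [mem_bot] at hn; rw [hn, one_pow, one_smul]
  -- closed under sup
  have hsup : ∀ N₁ ∈ 𝒩, ∀ N₂ ∈ 𝒩, N₁ ⊔ N₂ ∈ 𝒩 := by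
    rintro N₁ ⟨a1, a2, a3⟩ N₂ ⟨b1, b2, b3⟩
    have hle' : N₁ ⊔ N₂ ≤ M' := sup_le a1 b1
    have hnn : N₁ ≤ normalizer (N₂ : Set H) := by
      intro x hx
      rw [mem_normalizer_iff]
      intro y
      refine ⟨fun hy => b2 x (a1 hx) y hy, fun hy => ?_⟩
      have h1 := b2 x⁻¹ (inv_mem (a1 hx)) _ hy
      have e : x⁻¹ * (x * y * x⁻¹) * x⁻¹⁻¹ = y := by group
      rwa [e] at h1
    refine ⟨hle', ?_, ?_⟩
    · intro k hk n hn'
      have h1 : N₁ ⊔ N₂ ≤ (N₁ ⊔ N₂).comap (MulAut.conj k).toMonoidHom := by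
        refine sup_le (fun x hx => ?_) fun x hx => ?_
        · exact (le_sup_left : N₁ ≤ N₁ ⊔ N₂) (a2 k hk x hx)
        · exact (le_sup_right : N₂ ≤ N₁ ⊔ N₂) (b2 k hk x hx)
      exact h1 hn'
    · -- the action as a homomorphism from the stabiliser
      let P : Subgroup H := N₁ ⊔ N₂
      let C : Subgroup P :=
        { carrier := {x | ∀ v ∈ V, (x : H) • v = v}
          one_mem' := fun v _ => one_smul _ v
          mul_mem' := fun {a b} ha hb v hv => by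
            rw [Subgroup.coe_mul, mul_smul, hb v hv, ha v hv]
          inv_mem' := fun {a} ha v hv => by
            rw [Subgroup.coe_inv, inv_smul_eq_iff, ha v hv] }
      have hC : C.Normal := by
        constructor
        intro n hn g v hv
        have hg : ((g : H))⁻¹ • v ∈ V := hV _ (inv_mem (hle (hle' g.2))) v hv
        have e : ((g * n * g⁻¹ : P) : H) • v = (g : H) • (n : H) • (g : H)⁻¹ • v := by
          rw [Subgroup.coe_mul, Subgroup.coe_mul, Subgroup.coe_inv, mul_smul, mul_smul]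
        rw [e, hn _ hg, smul_inv_smul]
      have key : ∀ (N : Subgroup H) (hNP : N ≤ P), (∀ n ∈ N, ∃ j : ℕ, ∀ v ∈ V, n ^ 2 ^ j • v = v) →
          IsPGroup 2 ((N.subgroupOf P).map (QuotientGroup.mk' C)) := by
        rintro N hNP hN ⟨_, ⟨x, hx, rfl⟩⟩
        obtain ⟨j, hj⟩ := hN x hx
        refine ⟨j, Subtype.ext ?_⟩
        rw [Subgroup.coe_pow, Subgroup.coe_one]
        change (QuotientGroup.mk' C x) ^ 2 ^ j = 1
        rw [← map_pow, QuotientGroup.mk'_apply, QuotientGroup.eq_one_iff]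
        intro v hv
        rw [Subgroup.coe_pow]
        exact hj v hv
      have k1 := key N₁ le_sup_left a3
      have k2 := key N₂ le_sup_right b3
      have k3 : IsPGroup 2 (((N₁.subgroupOf P).map (QuotientGroup.mk' C) ⊔
          (N₂.subgroupOf P).map (QuotientGroup.mk' C) : Subgroup (P ⧸ C))) := by
        have hN2 : (N₂.subgroupOf P).Normal := ⟨fun n hn g => by
          rw [mem_subgroupOf] at hn ⊢
          exact b2 g (hle' g.2) n hn⟩
        have := hN2.map (QuotientGroup.mk' C) (QuotientGroup.mk'_surjective C)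
        exact IsPGroup.to_sup_of_normal_right k1 k2
      rw [← Subgroup.map_sup] at k3
      have k4 : N₁.subgroupOf P ⊔ N₂.subgroupOf P = ⊤ := by
        rw [← subgroupOf_sup (le_sup_left : N₁ ≤ P) (le_sup_right : N₂ ≤ P), subgroupOf_self]
      rw [k4] at k3
      intro n hn'
      obtain ⟨j, hj⟩ := k3 ⟨QuotientGroup.mk' C ⟨n, hn'⟩, ⟨⟨n, hn'⟩, trivial, rfl⟩⟩
      refine ⟨j, fun v hv => ?_⟩
      have h1 := congrArg Subtype.val hj
      rw [Subgroup.coe_pow, Subgroup.coe_one] at h1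
      change (QuotientGroup.mk' C ⟨n, hn'⟩) ^ 2 ^ j = 1 at h1
      rw [← map_pow, QuotientGroup.mk'_apply, QuotientGroup.eq_one_iff] at h1
      have h2 := h1 v hv
      rwa [Subgroup.coe_pow] at h2
  obtain ⟨R, hR, hmax⟩ := Set.exists_max_image 𝒩 (fun N => Nat.card N) (Set.toFinite _) ⟨⊥, hbot⟩
  have hall : ∀ N ∈ 𝒩, N ≤ R := by
    intro N hN
    have h1 := hmax _ (hsup N hN R hR)
    have h2 : R = N ⊔ R := Subgroup.eq_of_le_of_card_ge le_sup_right h1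
    rw [h2]; exact le_sup_left
  -- `R` is normalised by `M`
  have hRM : ∀ k ∈ M, ∀ n ∈ R, k * n * k⁻¹ ∈ R := by
    intro k hk n hn'
    have h1 : R.map (MulAut.conj k).toMonoidHom ∈ 𝒩 := by
      refine ⟨?_, ?_, ?_⟩
      · rintro _ ⟨x, hx, rfl⟩
        exact hn k hk x (hR.1 hx)
      · rintro l hl _ ⟨x, hx, rfl⟩
        refine ⟨k⁻¹ * l * k * x * (k⁻¹ * l * k)⁻¹, ?_, ?_⟩
        · refine hR.2.1 _ ?_ x hx
          have := hn k⁻¹ (inv_mem hk) l hl
          rwa [inv_inv] at this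
        · simp only [MulEquiv.coe_toMonoidHom, MulAut.conj_apply]
          group
      · rintro _ ⟨x, hx, rfl⟩
        obtain ⟨j, hj⟩ := hR.2.2 x hx
        refine ⟨j, fun v hv => ?_⟩
        have e : (MulAut.conj k).toMonoidHom x ^ 2 ^ j • v = k • (x ^ 2 ^ j) • k⁻¹ • v := by
          have e1 : (MulAut.conj k).toMonoidHom x ^ 2 ^ j = k * x ^ 2 ^ j * k⁻¹ := by
            rw [← map_pow]; rfl
          rw [e1, mul_smul, mul_smul]
        rw [e, hj _ (hV _ (inv_mem hk) v hv), smul_inv_smul]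
    exact hall _ h1 ⟨n, hn', rfl⟩
  intro N hN1 hN2 hN3 n hn'
  exact hr R (hR.1.trans hle) hRM hR.2.2 n (hall N ⟨hN1, hN2, hN3⟩ hn')

theorem Red.nst [Finite H] {M Q : Subgroup H} {V : AddSubgroup U} (hr : Red M V)
    (hV : ∀ m ∈ M, ∀ v ∈ V, m • v ∈ V) (hQ : Q ≤ M) (n : ℕ) : Red (nst M Q n) V := by
  induction n with
  | zero => exact hr
  | succ n ih =>
    exact ih.normal (fun m hm v hv => hV m (nst_anti hQ (Nat.zero_le n) hm) v hv) (nst_succ_le hQ n)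
      fun k hk x hx => nst_norm n hk hx

theorem Red.sbc [Finite H] {M Q : Subgroup H} {V : AddSubgroup U} (hr : Red M V)
    (hV : ∀ m ∈ M, ∀ v ∈ V, m • v ∈ V) (hQ : Q ≤ M) : Red (sbc M Q) V := by
  obtain ⟨n, h1, -⟩ := exists_stab hQ
  rw [h1]; exact hr.nst hV hQ n

end red

/-! ### The M-side frame -/

section mx

variable {H : Type u} {U : Type v} [Group H] [AddCommGroup U] [DistribMulAction H U]

/-- `C_M(U / V)` -/
def KV (M : Subgroup H) (V : AddSubgroup U) (hV : ∀ m ∈ M, ∀ v ∈ V, m • v ∈ V) : Subgroup H where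
  carrier := {m | m ∈ M ∧ ∀ u : U, br m u ∈ V}
  one_mem' := ⟨one_mem _, fun u => by rw [br_one]; exact zero_mem _⟩
  mul_mem' := by
    rintro a b ⟨ha, ha'⟩ ⟨hb, hb'⟩
    refine ⟨mul_mem ha hb, fun u => ?_⟩
    rw [br_mul]
    exact V.add_mem (V.add_mem (ha' _) (hb' u)) (ha' u)
  inv_mem' := by
    rintro a ⟨ha, ha'⟩
    refine ⟨inv_mem ha, fun u => ?_⟩
    have e : br a⁻¹ u = - (a⁻¹ • br a u) := by
      simp only [br_def, smul_sub, inv_smul_smul]; abel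
    rw [e]
    exact V.neg_mem (hV _ (inv_mem ha) _ (ha' u))

/-- `{m ∈ M | [U, m] ≤ F, [F, m] = 0}` -/
def FFq (M : Subgroup H) (F : AddSubgroup U) : Subgroup H where
  carrier := {m | m ∈ M ∧ (∀ u : U, br m u ∈ F) ∧ ∀ f ∈ F, m • f = f}
  one_mem' := ⟨one_mem _, fun u => by rw [br_one]; exact zero_mem _, fun f _ => one_smul _ f⟩
  mul_mem' := by
    rintro a b ⟨ha, ha', ha''⟩ ⟨hb, hb', hb''⟩
    refine ⟨mul_mem ha hb, fun u => ?_, fun f hf => ?_⟩
    · rw [br_mul]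
      exact F.add_mem (F.add_mem (ha' _) (hb' u)) (ha' u)
    · rw [mul_smul, hb'' f hf, ha'' f hf]
  inv_mem' := by
    rintro a ⟨ha, ha', ha''⟩
    have h1 : ∀ f ∈ F, a⁻¹ • f = f := fun f hf => by rw [inv_smul_eq_iff, ha'' f hf]
    refine ⟨inv_mem ha, fun u => ?_, h1⟩
    have e : br a⁻¹ u = - (a⁻¹ • br a u) := by
      simp only [br_def, smul_sub, inv_smul_smul]; abel
    rw [e, h1 _ (ha' u)]
    exact F.neg_mem (ha' u)

theorem mem_FFq {M : Subgroup H} {F : AddSubgroup U} {m : H} :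
    m ∈ FFq M F ↔ m ∈ M ∧ (∀ u : U, br m u ∈ F) ∧ ∀ f ∈ F, m • f = f := Iff.rfl

/-- `⟨B^K⟩` -/
def ncl (K B : Subgroup H) : Subgroup H := closure {x | ∃ k ∈ K, ∃ b ∈ B, x = k * b * k⁻¹}

theorem le_ncl (K B : Subgroup H) : B ≤ ncl K B := fun b hb => subset_closure ⟨1, one_mem _, b, hb, by group⟩

theorem ncl_conj {K B : Subgroup H} {k x : H} (hk : k ∈ K) (hx : x ∈ ncl K B) : k * x * k⁻¹ ∈ ncl K B := by
  unfold ncl at hx
  induction hx using closure_induction with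
  | mem x hx =>
    obtain ⟨l, hl, q, hq, rfl⟩ := hx
    exact subset_closure ⟨k * l, mul_mem hk hl, q, hq, by group⟩
  | one => rw [mul_one, mul_inv_cancel]; exact one_mem _
  | mul x y _ _ hx hy =>
    have e : k * (x * y) * k⁻¹ = k * x * k⁻¹ * (k * y * k⁻¹) := by group
    rw [e]; exact mul_mem hx hy
  | inv x _ hx =>
    have e : k * x⁻¹ * k⁻¹ = (k * x * k⁻¹)⁻¹ := by group
    rw [e]; exact inv_mem hx

/-- The frame of #18653. -/
structure MX (M X D B : Subgroup H) (V F : AddSubgroup U) (g : H) : Prop where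
  faith : ∀ y : H, (∀ u : U, y • u = u) → y = 1
  two : ∀ u : U, u + u = 0
  MV : ∀ m ∈ M, ∀ v ∈ V, m • v ∈ V
  FV : F ≤ V
  Fx : ∀ x ∈ X, ∀ f ∈ F, x • f = f
  ti : ∀ x ∈ X, x • V ≠ V → V ⊓ x • V ≤ F
  gX : g ∈ X
  DX : D ≤ X
  BD : B ≤ D
  MD : ∀ m ∈ M, ∀ d ∈ D, m * d * m⁻¹ ∈ D
  DV : ∀ d ∈ D, ∀ v ∈ V, d • v = v
  quad : ∀ a ∈ B, ∀ b ∈ B, ∀ u : U, b • (a • u - u) = a • u - u
  sup : g • V ⊔ fx U B = ⊤
  inf : g • V ⊓ fx U B ≤ F
  ne : ∃ y ∈ B, y ≠ 1 ∧ ∀ u : U, y • u - u ∈ F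
  RM : ∀ x ∈ X, (∀ u : U, x • u - u ∈ F) → x ∈ M
  red : Red M V

namespace MX

variable {M X D B : Subgroup H} {V F : AddSubgroup U} {g : H} (h : MX M X D B V F g)
include h

/-- `K_V` -/
theorem mem_KV {k : H} : k ∈ KV M V h.MV ↔ k ∈ M ∧ ∀ u : U, br k u ∈ V := Iff.rfl

theorem V_le_C : V ≤ fx U B := fun v hv b hb => h.DV b (h.BD hb) v hv

theorem F_le_C : F ≤ fx U B := h.FV.trans h.V_le_C

omit h in
theorem FFq_le_M : FFq M F ≤ M := fun _ hm => hm.1

theorem FFq_le_KV : FFq M F ≤ KV M V h.MV := fun _ hm => ⟨hm.1, fun u => h.FV (hm.2.1 u)⟩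

theorem KV_norm {m k : H} (hm : m ∈ M) (hk : k ∈ KV M V h.MV) : m * k * m⁻¹ ∈ KV M V h.MV := by
  refine ⟨mul_mem (mul_mem hm hk.1) (inv_mem hm), fun u => ?_⟩
  have e : u = m • (m⁻¹ • u) := (smul_inv_smul m u).symm
  rw [e, br_conj_smul]
  exact h.MV m hm _ (hk.2 _)

theorem sbc_le_KV : sbc M (FFq M F) ≤ KV M V h.MV :=
  sbc_le_of_normal (fun _ hk _ hn => h.KV_norm hk hn) h.FFq_le_KV

theorem ncl_le_D : ncl (KV M V h.MV) B ≤ D := by
  refine (closure_le _).2 ?_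
  rintro _ ⟨k, hk, b, hb, rfl⟩
  exact h.MD k hk.1 b (h.BD hb)

/-- `C_U(B)` is `K_V`-invariant -/
theorem KV_C {k : H} (hk : k ∈ KV M V h.MV) {c : U} (hc : c ∈ fx U B) : k • c ∈ fx U B := by
  rw [smul_eq]
  exact (fx U B).add_mem (h.V_le_C (hk.2 c)) hc

/-- `BB = ⟨B^{K_V}⟩` is trivial on `C` and on `U / C` -/
theorem ncl_C {y : H} (hy : y ∈ ncl (KV M V h.MV) B) :
    (∀ c ∈ fx U B, y • c = c) ∧ ∀ u : U, br y u ∈ fx U B := by
  unfold ncl at hy
  induction hy using closure_induction with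
  | mem x hx =>
    obtain ⟨k, hk, b, hb, rfl⟩ := hx
    have hk' : k⁻¹ ∈ KV M V h.MV := inv_mem hk
    refine ⟨fun c hc => ?_, fun u => ?_⟩
    · rw [mul_smul, mul_smul, h.KV_C hk' hc b hb, smul_inv_smul]
    · have e : u = k • (k⁻¹ • u) := (smul_inv_smul k u).symm
      rw [e, br_conj_smul]
      exact h.KV_C hk fun b' hb' => h.quad b hb b' hb' _
  | one => exact ⟨fun c _ => one_smul _ c, fun u => by rw [br_one]; exact zero_mem _⟩
  | mul x y _ _ hx hy =>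
    refine ⟨fun c hc => by rw [mul_smul, hy.1 c hc, hx.1 c hc], fun u => ?_⟩
    rw [br_mul]
    exact (fx U B).add_mem ((fx U B).add_mem (hx.2 _) (hy.2 u)) (hx.2 u)
  | inv x _ hx =>
    have h1 : ∀ c ∈ fx U B, x⁻¹ • c = c := fun c hc => by rw [inv_smul_eq_iff, hx.1 c hc]
    refine ⟨h1, fun u => ?_⟩
    have e : br x⁻¹ u = - (x⁻¹ • br x u) := by
      simp only [br_def, smul_sub, inv_smul_smul]; abel
    rw [e, h1 _ (hx.2 u)]
    exact (fx U B).neg_mem (hx.2 u)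

theorem F_le_L : F ≤ g • V := by
  intro f hf
  rw [TT.mem_smul]
  have h1 : g⁻¹ • f = f := by rw [inv_smul_eq_iff, h.Fx g h.gX f hf]
  rw [h1]; exact h.FV hf

theorem exists_sup (u : U) : ∃ l ∈ g • V, ∃ c ∈ fx U B, u = l + c := by
  have h1 : u ∈ g • V ⊔ fx U B := by rw [h.sup]; trivial
  obtain ⟨l, hl, c, hc, e⟩ := AddSubgroup.mem_sup.1 h1
  exact ⟨l, hl, c, hc, e.symm⟩

/-- an element of `X` trivial on `C` and on `U / C` which does not move `g V` -/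
theorem mov {y : H} (hyX : y ∈ X) (hC : ∀ c ∈ fx U B, y • c = c) (hU : ∀ u : U, br y u ∈ fx U B) :
    (∀ u : U, br y u ∈ F) ∨ ∀ l ∈ g • V, br y l ∈ g • V → l ∈ F := by
  by_cases hy : y • g • V = g • V
  · left
    intro u
    obtain ⟨l, hl, c, hc, rfl⟩ := h.exists_sup u
    rw [br_add, br_eq_zero.2 (hC c hc), add_zero]
    refine h.inf ⟨?_, hU l⟩
    rw [br_def]
    refine (g • V).sub_mem ?_ hl
    have h1 : y • l ∈ y • g • V := TT.smul_mem' hl
    rwa [hy] at h1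
  · right
    intro l hl hb
    have h1 : y • l ∈ g • V := by
      rw [smul_eq]; exact (g • V).add_mem hb hl
    have h2 : y • l ∈ y • g • V := TT.smul_mem' hl
    -- move back by `g`
    have hg : (g⁻¹ * y * g) ∈ X := mul_mem (mul_mem (inv_mem h.gX) hyX) h.gX
    have hne : (g⁻¹ * y * g) • V ≠ V := by
      intro h0
      apply hy
      have e : y • g • V = g • (g⁻¹ * y * g) • V := by
        rw [smul_smul, smul_smul]; congr 1; group
      rw [e, h0]
    have h3 : g⁻¹ • y • l ∈ F := by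
      have e : (g⁻¹ * y * g)⁻¹ • g⁻¹ • y • l = g⁻¹ • l := by
        rw [smul_smul, smul_smul]; congr 1; group
      refine h.ti _ hg hne ⟨TT.mem_smul.1 h1, TT.mem_smul.2 ?_⟩
      rw [e]; exact TT.mem_smul.1 hl
    have h4 : y • l ∈ F := by
      have h5 := h.Fx g h.gX _ h3
      rw [smul_inv_smul] at h5
      rw [h5]; exact h3
    have h5 := h.Fx y⁻¹ (inv_mem hyX) _ h4
    rw [inv_smul_smul] at h5
    rw [h5]; exact h4

/-- **The plug.** -/
theorem dat [Finite H] : Ten.Dat (sbc M (FFq M F)) (FFq M F) (ncl (KV M V h.MV) B) V F (g • V) (fx U B) g⁻¹ where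
  faith := h.faith
  two := h.two
  FV := h.FV
  VC := h.V_le_C
  FL := h.F_le_L
  LC := h.exists_sup
  LF := fun u hu hc => h.inf ⟨hu, hc⟩
  bC := fun y hy c hc => (h.ncl_C hy).1 c hc
  bU := fun y hy u => (h.ncl_C hy).2 u
  mov := fun y hy => h.mov (h.DX (h.ncl_le_D hy)) (h.ncl_C hy).1 (h.ncl_C hy).2
  yB := fun k hk b hb => ncl_conj (h.sbc_le_KV hk) hb
  yV := fun k hk u => (h.sbc_le_KV hk).2 u
  QY := le_sbc FFq_le_M
  qF := fun d hd => hd.2.2
  qU := fun d hd => hd.2.1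
  hL := fun l hl => TT.mem_smul.1 hl
  hV := fun v hv => by rw [inv_inv]; exact TT.smul_mem' hv
  hF := fun f hf => by rw [inv_smul_eq_iff, h.Fx g h.gX f hf]
  hA := fun y hy hyF => by
    have hyX : y ∈ X := h.DX (h.ncl_le_D hy)
    have hgX : g⁻¹ * y * g⁻¹⁻¹ ∈ X := by
      rw [inv_inv]; exact mul_mem (mul_mem (inv_mem h.gX) hyX) h.gX
    have hU : ∀ u : U, br (g⁻¹ * y * g⁻¹⁻¹) u ∈ F := by
      intro u
      have e : u = g⁻¹ • (g • u) := (inv_smul_smul g u).symm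
      rw [e, br_conj_smul]
      have h1 : g⁻¹ • br y (g • u) = br y (g • u) := by
        rw [inv_smul_eq_iff, h.Fx g h.gX _ (hyF _)]
      rw [h1]; exact hyF _
    exact ⟨h.RM _ hgX hU, hU, fun f hf => h.Fx _ hgX f hf⟩
  ne := by
    obtain ⟨y, hy, hy1, hyF⟩ := h.ne
    exact ⟨y, le_ncl _ _ hy, hy1, hyF⟩
  gen := fun N _ hN hQN => sbc_gen FFq_le_M hN hQN
  red := h.red.sbc h.MV FFq_le_M

end MX

end mx

end Cfsg.Agent.Omega.NO3b.Exit.TDat

end

section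


/-!
# The second half of LOC (#18653, helper776), part 5: `Dat → Mdl`

For `D : Dat Y Q BB V F L C h` (`H`, `U` finite): `AM D` = `[BB, O²(Y)]` written additively, a `Y`-module (conjugation);
`D.bt : AM D →+ U →+ U`, `D.bt y u = [u, y]`; `D.AZM` : `A₀`.

* `Dat.isIrr` (instance), `Dat.mdl : Mdl V F C D.AZM (Q.subgroupOf Y) D.bt`.

So all of TenMdl applies: `K = KK Y (AM D)`, `E = HomY Y (AM D) U = U / C`, `A = K a + A₀`, all transvections,
`A ⊗ E → U` injective (`HomY.ind`, `HomY.ind'`), **(8)** = `Dat.act_two`.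
-/

set_option autoImplicit false

namespace Cfsg.Agent.Omega.NO3b.Exit.Ten

open Subgroup

universe u v

variable {H : Type u} {U : Type v} [Group H] [AddCommGroup U] [DistribMulAction H U] {Y Q BB : Subgroup H}
  {V F L C : AddSubgroup U} {h : H}

/-- `AA` as an additive group -/
def AM (_ : Dat Y Q BB V F L C h) : Type u := Additive ↥(AAs Y BB)

namespace AM

variable {D : Dat Y Q BB V F L C h}

/-- the underlying element of `H` -/
def val (a : AM D) : H := ((Additive.toMul a : ↥(AAs Y BB)) : H)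

def mk (x : H) (hx : x ∈ D.AA) : AM D := Additive.ofMul ⟨x, hx⟩

theorem val_mk (x : H) (hx : x ∈ D.AA) : (mk x hx : AM D).val = x := rfl

theorem val_mem (a : AM D) : a.val ∈ D.AA := (Additive.toMul a : ↥(AAs Y BB)).2

theorem ext {a b : AM D} (hab : a.val = b.val) : a = b := Subtype.ext hab

instance : AddCommGroup (AM D) :=
  { (inferInstance : AddGroup (Additive ↥(AAs Y BB))) with
    add_comm := fun a b => ext (D.comm_B (D.AA_le (val_mem a)) (D.AA_le (val_mem b))) }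

theorem val_add (a b : AM D) : (a + b).val = a.val * b.val := rfl

theorem val_zero : (0 : AM D).val = 1 := rfl

theorem val_neg (a : AM D) : (-a).val = a.val⁻¹ := rfl

instance : DistribMulAction Y (AM D) where
  smul k a := mk ((k : H) * a.val * (k : H)⁻¹) (D.AA_conj k.2 a.val_mem)
  one_smul a := ext (by change (1 : H) * a.val * (1 : H)⁻¹ = a.val; group)
  mul_smul k l a := ext (by
    change ((k * l : Y) : H) * a.val * ((k * l : Y) : H)⁻¹ = k * (l * a.val * (l : H)⁻¹) * (k : H)⁻¹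
    rw [Subgroup.coe_mul]; group)
  smul_zero k := ext (by change (k : H) * 1 * (k : H)⁻¹ = 1; group)
  smul_add k a b := ext (by
    change (k : H) * (a.val * b.val) * (k : H)⁻¹ = k * a.val * (k : H)⁻¹ * (k * b.val * (k : H)⁻¹)
    group)

theorem val_smul (k : Y) (a : AM D) : (k • a).val = k * a.val * (k : H)⁻¹ := rfl

instance [Finite H] : Finite (AM D) := Finite.of_injective (fun a => a.val) fun _ _ h => ext h

end AM

namespace Dat

variable (D : Dat Y Q BB V F L C h)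

/-- `A₀` -/
def AZM : AddSubgroup (AM D) where
  carrier := {a | a.val ∈ D.AZ}
  zero_mem' := D.AZ.one_mem
  add_mem' := fun {a b} (ha : a.val ∈ D.AZ) (hb : b.val ∈ D.AZ) => D.AZ.mul_mem ha hb
  neg_mem' := fun {a} (ha : a.val ∈ D.AZ) => D.AZ.inv_mem ha

theorem mem_AZM {a : AM D} : a ∈ D.AZM ↔ a.val ∈ D.AZ := Iff.rfl

/-- `[u, y]` -/
def bt : AM D →+ U →+ U :=
  AddMonoidHom.mk' (fun a => AddMonoidHom.mk' (fun u => br a.val u) fun u v => br_add _ u v) fun a b => by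
    ext u
    exact D.br_mul_B (D.AA_le a.val_mem) (D.AA_le b.val_mem) u

theorem bt_apply (a : AM D) (u : U) : D.bt a u = br a.val u := rfl

theorem AM_two (a : AM D) : a + a = 0 := AM.ext (D.sq_B (D.AA_le a.val_mem))

instance isIrr [Finite H] [Finite U] : IsIrr Y (AM D) where
  ne := by
    obtain ⟨y, hy, hy'⟩ := D.exists_notMem
    refine ⟨AM.mk y hy, fun h0 => hy' ?_⟩
    have h1 : (AM.mk y hy : AM D).val = 1 := by rw [h0]; rfl
    rw [AM.val_mk] at h1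
    rw [h1]; exact one_mem _
  irr := by
    intro N hN
    let N' : Subgroup H :=
      { carrier := {x | ∃ hx : x ∈ D.AA, (AM.mk x hx : AM D) ∈ N}
        one_mem' := ⟨one_mem _, N.zero_mem⟩
        mul_mem' := by
          rintro x y ⟨hx, hx'⟩ ⟨hy, hy'⟩
          exact ⟨mul_mem hx hy, N.add_mem hx' hy'⟩
        inv_mem' := by
          rintro x ⟨hx, hx'⟩
          exact ⟨inv_mem hx, N.neg_mem hx'⟩ }
    have h1 : ∀ k ∈ Y, ∀ n ∈ N', k * n * k⁻¹ ∈ N' := by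
      rintro k hk n ⟨hn, hn'⟩
      exact ⟨D.AA_conj hk hn, hN ⟨k, hk⟩ _ hn'⟩
    rcases D.irr (N := N') (fun x hx => hx.1) h1 with h | h
    · left
      rw [eq_bot_iff]
      intro a ha
      have h2 : a.val ∈ N' := ⟨a.val_mem, ha⟩
      rw [h, mem_bot] at h2
      exact AM.ext h2
    · right
      rw [eq_top_iff]
      intro a _
      have h2 : a.val ∈ N' := by rw [h]; exact a.val_mem
      exact h2.2

/-- The model. -/
theorem mdl [Finite H] [Finite U] : Mdl V F C D.AZM (Q.subgroupOf Y) D.bt where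
  eq k a u := D.br_conj k.2 (D.AA_le a.val_mem) u
  mem a u := D.AA_V a.val_mem u
  inF a ha u := ha.2 u
  bC a c hc := D.br_C (D.AA_le a.val_mem) hc
  faith a ha := AM.ext (D.ext fun u => by
    rw [← D.bt_apply, ha u]
    exact (br_one u).symm)
  FV := D.FV
  VC := D.VC
  inC a ha u hu := by
    obtain ⟨l, hl, c, hc, rfl⟩ := D.LC u
    rw [D.bt_apply, br_add, D.br_C (D.AA_le a.val_mem) hc, add_zero] at hu
    exact C.add_mem (D.VC (D.FV (D.inj (D.AA_le a.val_mem) ha hl (D.FL hu)))) hc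
  span a ha v hv := by
    obtain ⟨l, -, f, hf, e⟩ := D.span (D.AA_le a.val_mem) ha (D.AA_V a.val_mem) hv
    refine ⟨l, ?_⟩
    rw [D.bt_apply, e, add_sub_cancel_left]
    exact hf
  yV k u := D.yV k k.2 u
  qA d hd a ha := AM.ext (D.br_Q_AZ hd ha)
  qF d hd f hf := D.qF d hd f hf
  qU d hd u := D.qU d hd u
  com d hd a := by
    change (d • a - a).val ∈ D.AZ
    rw [sub_eq_add_neg]
    exact D.comm_Q hd (D.AA_le a.val_mem)
  surj a ha s hs := by
    obtain ⟨d, hd, e⟩ := D.surj (D.AA_le a.val_mem) ha (D.AA_V a.val_mem) hs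
    refine ⟨⟨d, D.QY hd⟩, hd, AM.ext ?_⟩
    rw [sub_eq_add_neg]
    exact e
  ne := by
    obtain ⟨y, hy, hy1, hyF⟩ := D.ne
    refine ⟨AM.mk y (D.AZ_le_AA ⟨hy, hyF⟩), ⟨hy, hyF⟩, fun h0 => hy1 ?_⟩
    have h1 : (AM.mk y (D.AZ_le_AA ⟨hy, hyF⟩) : AM D).val = 1 := by rw [h0]; rfl
    exact h1
  nt := by
    obtain ⟨y, hy, hy'⟩ := D.exists_notMem
    exact ⟨AM.mk y hy, hy'⟩

include D in
/-- **(8)** A 2-element of `H` which normalises `Y` and centralises `F` acts on `V` as an element of `Q`. -/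
theorem act_two [Finite H] [Finite U] {m : H} (hm : ∀ k ∈ Y, m * k * m⁻¹ ∈ Y) (hm' : ∀ k ∈ Y, m⁻¹ * k * m ∈ Y)
    (hF : ∀ f ∈ F, m • f = f) {j : ℕ} (hj : ∀ v ∈ V, m ^ 2 ^ j • v = v) : ∃ d ∈ Q, ∀ v ∈ V, m • v = d • v := by
  let μ : U →+ U := DistribSMul.toAddMonoidHom U m
  have hμ : ∀ u, μ u = m • u := fun _ => rfl
  have hit : ∀ (n : ℕ) (u : U), μ^[n] u = m ^ n • u := by
    intro n u
    induction n with
    | zero => rw [pow_zero, one_smul]; rfl
    | succ n ih => rw [Function.iterate_succ_apply', ih, hμ, smul_smul, pow_succ']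
  obtain ⟨d, hd, h1⟩ := D.mdl.act_two D.AM_two μ (MulAction.injective m)
    (fun k => ⟨⟨m * k * m⁻¹, hm k k.2⟩, fun u => by
      rw [hμ, hμ]
      change m • (k : H) • u = (m * k * m⁻¹) • m • u
      rw [smul_smul, smul_smul, inv_mul_cancel_right]⟩)
    (fun k => ⟨⟨m⁻¹ * k * m, hm' k k.2⟩, fun u => by
      rw [hμ, hμ]
      change m • (m⁻¹ * k * m) • u = (k : H) • m • u
      rw [smul_smul, smul_smul]; congr 1; group⟩)
    (fun f hf => by rw [hμ, hF f hf]) (j := j) (fun v hv => by rw [hit, hj v hv])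
  exact ⟨d, hd, h1⟩

end Dat

end Cfsg.Agent.Omega.NO3b.Exit.Ten

end

section


/-!
# The blocks of `V` in LOC without (PR) (helper255, bb 20845), part 1

`Blk0 Y Q BB V F L C h M KV S` : helper823's `TBlk.Blk` without the fields `OM`, `pr`, `cz`, `gen` (no hypothesis
on the generation of `V` is needed: `gen_dec` of `BlkHX.lean` comes from `TenSplit.lean`, helper449).

* `dich`, `cent`, `indep`, `mem_all`, `br_YM` : as in TightBlk.lean (copied);
* `all_sep` : an element of `all = Σ m V₁` fixed by `YM` is zero; `exists_dec` : `V = all + C_V(YM)` (Gaschütz);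
* `exists_comp` : every block carries a component `≠ 0` of some `z ∈ C_V(S) ∩ all`;
* `ann_one`, `odd_T` : the action on one block;
* **`hX`** : `x ∈ YM` which fixes `C_V(S)` fixes `C_V(S ∩ YM)`;
* `moves` : `S ∩ YM` moves `V`.
-/

set_option autoImplicit false

open scoped Pointwise

namespace Cfsg.Agent.Omega.NO3b.Exit.BlkZ

open Subgroup Cfsg.Agent.Omega.NO3b.Exit Ten Descent
open Cfsg.Agent.Omega.NO3b.Exit.TBlk hiding Blk

universe u v

/-- The situation with `M`. -/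
structure Blk0 {H : Type u} {U : Type v} [Group H] [AddCommGroup U] [DistribMulAction H U]
    (Y Q BB : Subgroup H) (V F L C : AddSubgroup U) (h : H) (M KV S : Subgroup H) : Prop where
  dat : Dat Y Q BB V F L C h
  KM : KV ≤ M
  nK : ∀ m ∈ M, ∀ k ∈ KV, m * k * m⁻¹ ∈ KV
  mV : ∀ m ∈ M, ∀ v ∈ V, m • v ∈ V
  kV : ∀ k ∈ KV, ∀ u : U, br k u ∈ V
  kB : ∀ k ∈ KV, ∀ b ∈ BB, k * b * k⁻¹ ∈ BB
  sn : Sn Y KV
  SM : S ≤ M
  S2 : IsPGroup 2 S
  syl : ¬ 2 ∣ S.relIndex M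

namespace Blk0

variable {H : Type u} {U : Type v} [Group H] [AddCommGroup U] [DistribMulAction H U]
variable {Y Q BB : Subgroup H} {V F L C : AddSubgroup U} {h : H} {M KV S : Subgroup H}
variable (B : Blk0 Y Q BB V F L C h M KV S)
include B

theorem AA_K [Finite H] [Finite U] : ∀ k ∈ KV, ∀ x ∈ B.dat.AA, k * x * k⁻¹ ∈ B.dat.AA :=
  AA_KV B.dat B.sn B.kB B.kV

theorem V1_K [Finite H] [Finite U] {k : H} (hk : k ∈ KV) {v : U} (hv : v ∈ V1 B.dat) : k • v ∈ V1 B.dat :=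
  V1_inv B.dat B.AA_K B.kV hk hv

theorem YK : Y ≤ KV := B.sn.le

theorem br_K [Finite H] [Finite U] {k y : H} (hk : k ∈ KV) (hy : y ∈ B.dat.AA) (u : U) :
    br (k * y * k⁻¹) u = k • br y u :=
  B.dat.br_conj' (fun u => B.dat.VC (B.kV _ (inv_mem hk) u)) (B.dat.AA_le hy) u

theorem nK' {m : H} (hm : m ∈ M) {k : H} (hk : k ∈ KV) : m⁻¹ * k * m ∈ KV := by
  have := B.nK m⁻¹ (inv_mem hm) k hk
  rwa [inv_inv] at this

/-- `m V₁` is `KV`-invariant. -/
theorem smul_V1_K [Finite H] [Finite U] {m : H} (hm : m ∈ M) {k : H} (hk : k ∈ KV) {v : U}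
    (hv : v ∈ m • V1 B.dat) : k • v ∈ m • V1 B.dat := by
  obtain ⟨w, hw, rfl⟩ := (AddSubgroup.mem_smul_pointwise_iff_exists _ _ _).1 hv
  refine (AddSubgroup.mem_smul_pointwise_iff_exists _ _ _).2 ⟨(m⁻¹ * k * m) • w, B.V1_K (B.nK' hm hk) hw, ?_⟩
  rw [smul_smul, smul_smul]
  congr 1
  group

theorem smul_V1_le {m : H} (hm : m ∈ M) : m • V1 B.dat ≤ V := by
  intro v hv
  obtain ⟨w, hw, rfl⟩ := (AddSubgroup.mem_smul_pointwise_iff_exists _ _ _).1 hv
  exact B.mV m hm w (V1_le B.dat hw)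

/-- **Dichotomy**, half: `V₁ ∩ m V₁ ≠ 0` implies `m V₁ ≤ V₁`. -/
theorem le_of_inf_ne [Finite H] [Finite U] {m : H} (hm : m ∈ M) (hne : V1 B.dat ⊓ m • V1 B.dat ≠ ⊥) :
    m • V1 B.dat ≤ V1 B.dat := by
  have D := B.dat
  -- `[l, AA] ≤ V₁ ∩ m V₁`
  have hW : ∀ k ∈ KV, ∀ w ∈ V1 B.dat ⊓ m • V1 B.dat, k • w ∈ V1 B.dat ⊓ m • V1 B.dat :=
    fun k hk w hw => ⟨B.V1_K hk hw.1, B.smul_V1_K hm hk hw.2⟩
  obtain ⟨l, hl, hlC, hlW⟩ := exists_sub D (W := V1 B.dat ⊓ m • V1 B.dat) (inf_le_left.trans (V1_le D))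
    (fun k hk => hW k (B.YK hk)) (not_le_F D inf_le_left (fun k hk => hW k (B.YK hk)) hne)
  -- `W' = m⁻¹ [l, AA]`
  let W' : AddSubgroup U :=
    { carrier := {w | ∃ y ∈ D.AA, m • w = br y l}
      zero_mem' := ⟨1, one_mem _, by rw [smul_zero, br_one]⟩
      add_mem' := by
        rintro a b ⟨y, hy, e⟩ ⟨y', hy', e'⟩
        exact ⟨y * y', mul_mem hy hy', by rw [smul_add, e, e', br_AA_mul D hy hy']⟩
      neg_mem' := by
        rintro a ⟨y, hy, e⟩
        exact ⟨y, hy, by rw [smul_neg, e, D.neg_eq]⟩ }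
  have hW1 : W' ≤ V1 D := by
    rintro w ⟨y, hy, e⟩
    have h1 : m • w ∈ m • V1 B.dat := by rw [e]; exact (hlW y hy).2
    exact (AddSubgroup.smul_mem_pointwise_smul_iff).1 h1
  have hW2 : ∀ k ∈ KV, ∀ w ∈ W', k • w ∈ W' := by
    rintro k hk w ⟨y, hy, e⟩
    refine ⟨m * k * m⁻¹ * y * (m * k * m⁻¹)⁻¹, B.AA_K _ (B.nK m hm k hk) y hy, ?_⟩
    rw [B.br_K (B.nK m hm k hk) hy, ← e, smul_smul, smul_smul]
    congr 1
    group
  have hW3 : W' ≠ ⊥ := by
    obtain ⟨a, ha, ha'⟩ := D.exists_notMem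
    intro h0
    have h1 : m⁻¹ • br a l ∈ W' := ⟨a, ha, by rw [smul_inv_smul]⟩
    rw [h0, AddSubgroup.mem_bot] at h1
    have h2 : br a l = 0 := by rw [← smul_inv_smul m (br a l), h1, smul_zero]
    have h3 := eq_one_of_br D hlC ha h2
    exact ha' (h3 ▸ one_mem _)
  obtain ⟨l', hl', hlC', hlW'⟩ := exists_sub D (W := W') (hW1.trans (V1_le D)) (fun k hk => hW2 k (B.YK hk))
    (not_le_F D hW1 (fun k hk => hW2 k (B.YK hk)) hW3)
  -- the bijection
  have hex : ∀ y : D.AA, ∃ x : D.AA, m • br (y : H) l' = br (x : H) l := fun y => by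
    obtain ⟨x, hx, e⟩ := hlW' y y.2
    exact ⟨⟨x, hx⟩, e⟩
  choose θ hθ using hex
  have hinj : Function.Injective θ := by
    intro y y' e
    have h1 : m • br (y : H) l' = m • br (y' : H) l' := by rw [hθ, hθ, e]
    have h2 : br (y : H) l' = br (y' : H) l' := smul_left_cancel m h1
    have h3 : (y : H) * (y' : H) = 1 := by
      refine eq_one_of_br D hlC' (mul_mem y.2 y'.2) ?_
      rw [br_AA_mul D y.2 y'.2, h2, D.two]
    have h4 := D.sq_B (D.AA_le y'.2)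
    exact Subtype.ext (mul_right_cancel (h3.trans h4.symm))
  have hbij : Function.Bijective θ := (Finite.injective_iff_bijective).1 hinj
  have hθmul : ∀ y y' : D.AA, θ (y * y') = θ y * θ y' := by
    intro y y'
    have h1 : br ((θ (y * y') : D.AA) : H) l = br ((θ y * θ y' : D.AA) : H) l := by
      rw [← hθ, Subgroup.coe_mul, Subgroup.coe_mul, br_AA_mul D y.2 y'.2, br_AA_mul D (θ y).2 (θ y').2, smul_add,
        hθ, hθ]
    have h3 : ((θ (y * y') : D.AA) : H) * ((θ y * θ y' : D.AA) : H) = 1 := by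
      refine eq_one_of_br D hlC (mul_mem (θ (y * y')).2 (θ y * θ y').2) ?_
      rw [br_AA_mul D (θ (y * y')).2 (θ y * θ y').2, h1, D.two]
    have h4 := D.sq_B (D.AA_le (θ y * θ y').2)
    exact Subtype.ext (mul_right_cancel (h3.trans h4.symm))
  have hθK : ∀ k ∈ KV, ∀ y : D.AA, ∀ y' : D.AA, (y' : H) = k * y * k⁻¹ →
      ((θ y' : D.AA) : H) = m * k * m⁻¹ * (θ y : H) * (m * k * m⁻¹)⁻¹ := by
    intro k hk y y' e
    have hmk := B.nK m hm k hk
    have hx : m * k * m⁻¹ * (θ y : H) * (m * k * m⁻¹)⁻¹ ∈ D.AA := B.AA_K _ hmk _ (θ y).2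
    have h1 : br ((θ y' : D.AA) : H) l = br (m * k * m⁻¹ * (θ y : H) * (m * k * m⁻¹)⁻¹) l := by
      rw [← hθ, e, B.br_K hk y.2, B.br_K hmk (θ y).2, ← hθ, smul_smul, smul_smul]
      congr 1
      group
    have h3 : ((θ y' : D.AA) : H) * (m * k * m⁻¹ * (θ y : H) * (m * k * m⁻¹)⁻¹) = 1 := by
      refine eq_one_of_br D hlC (mul_mem (θ y').2 hx) ?_
      rw [br_AA_mul D (θ y').2 hx, h1, D.two]
    have h4 := D.sq_B (D.AA_le hx)
    exact mul_right_cancel (h3.trans h4.symm)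
  -- the homomorphisms
  intro v hv
  obtain ⟨w, hw, rfl⟩ := (AddSubgroup.mem_smul_pointwise_iff_exists _ _ _).1 hv
  clear hv
  induction hw using AddSubgroup.closure_induction with
  | zero => rw [smul_zero]; exact zero_mem _
  | add a b _ _ ha hb => rw [smul_add]; exact add_mem ha hb
  | neg a _ ha => rw [smul_neg]; exact neg_mem ha
  | mem w hw =>
    obtain ⟨x0, hx0, u, rfl⟩ := hw
    classical
    let ψ : D.AA → D.AA := fun y => (hbij.2 y).choose
    have hψ : ∀ y, θ (ψ y) = y := fun y => (hbij.2 y).choose_spec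
    let φ : H → U := fun y => if hy : y ∈ D.AA then m • br ((ψ ⟨y, hy⟩ : D.AA) : H) u else 0
    have hφ : ∀ y (hy : y ∈ D.AA), φ y = m • br ((ψ ⟨y, hy⟩ : D.AA) : H) u := fun y hy => dif_pos hy
    have hψmul : ∀ y y' : D.AA, ψ (y * y') = ψ y * ψ y' := fun y y' => hinj (by
      rw [hθmul, hψ, hψ, hψ])
    obtain ⟨l2, hl2, e2⟩ := exists_hom D (φ := φ) (fun x hx y hy => by
        rw [hφ x hx, hφ y hy, hφ _ (mul_mem hx hy)]
        have e : (⟨x * y, mul_mem hx hy⟩ : D.AA) = ⟨x, hx⟩ * ⟨y, hy⟩ := rfl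
        rw [e, hψmul, Subgroup.coe_mul, br_AA_mul D (ψ _).2 (ψ _).2, smul_add])
      (fun y hy => by rw [hφ y hy]; exact B.mV m hm _ (D.AA_V (ψ _).2 u))
      (fun k hk y hy => by
        have hkK := B.YK hk
        have hmk := B.nK' hm hkK
        rw [hφ y hy, hφ _ (D.AA_conj hk hy)]
        have hx : m⁻¹ * k * m * (ψ ⟨y, hy⟩ : H) * (m⁻¹ * k * m)⁻¹ ∈ D.AA := B.AA_K _ hmk _ (ψ _).2
        have h1 : ψ ⟨k * y * k⁻¹, D.AA_conj hk hy⟩ = ⟨_, hx⟩ := by
          apply hinj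
          rw [hψ]
          apply Subtype.ext
          rw [hθK _ hmk (ψ ⟨y, hy⟩) ⟨_, hx⟩ rfl, hψ]
          group
        rw [h1]
        change m • br (m⁻¹ * k * m * (ψ ⟨y, hy⟩ : H) * (m⁻¹ * k * m)⁻¹) u = _
        rw [B.br_K hmk (ψ _).2, smul_smul, smul_smul]
        congr 1
        group)
    have h1 := e2 (θ ⟨x0, hx0⟩) (θ ⟨x0, hx0⟩).2
    rw [hφ _ (θ ⟨x0, hx0⟩).2] at h1
    have h2 : ψ ⟨(θ ⟨x0, hx0⟩ : H), (θ ⟨x0, hx0⟩).2⟩ = ⟨x0, hx0⟩ := hinj (by rw [hψ])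
    rw [h2] at h1
    rw [h1]
    exact br_mem_V1 D (θ ⟨x0, hx0⟩).2 l2

omit B in
theorem card_smul (m : H) (X : AddSubgroup U) : Nat.card (m • X : AddSubgroup U) = Nat.card X :=
  Nat.card_congr ⟨fun x => ⟨m⁻¹ • (x : U), AddSubgroup.mem_pointwise_smul_iff_inv_smul_mem.1 x.2⟩,
    fun x => ⟨m • (x : U), AddSubgroup.smul_mem_pointwise_smul _ _ _ x.2⟩,
    fun _ => Subtype.ext (smul_inv_smul m _), fun _ => Subtype.ext (inv_smul_smul m _)⟩

theorem mem_smul {m : H} {v : U} : v ∈ m • V1 B.dat ↔ ∃ w ∈ V1 B.dat, m • w = v :=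
  AddSubgroup.mem_smul_pointwise_iff_exists _ _ _

/-- **Dichotomy** -/
theorem dich [Finite H] [Finite U] {m : H} (hm : m ∈ M) : m • V1 B.dat = V1 B.dat ∨ V1 B.dat ⊓ m • V1 B.dat = ⊥ := by
  by_cases hne : V1 B.dat ⊓ m • V1 B.dat = ⊥
  · exact Or.inr hne
  left
  have h1 := B.le_of_inf_ne hm hne
  refine AddSubgroup.eq_of_le_of_card_ge h1 (le_of_eq ?_)
  exact (card_smul m _).symm

/-- `Y^m` centralises `m' V₁ ≠ m V₁`. -/
theorem cent [Finite H] [Finite U] {m m' : H} (hm : m ∈ M) (hm' : m' ∈ M)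
    (hne : m • V1 B.dat ≠ m' • V1 B.dat) {k : H} (hk : k ∈ Y) {v : U} (hv : v ∈ m' • V1 B.dat) :
    (m * k * m⁻¹) • v = v := by
  have hn : m⁻¹ * m' ∈ M := mul_mem (inv_mem hm) hm'
  have h1 : V1 B.dat ⊓ (m⁻¹ * m') • V1 B.dat = ⊥ := by
    refine (B.dich hn).resolve_left fun h1 => hne ?_
    rw [mul_smul, inv_smul_eq_iff] at h1
    exact h1.symm
  have hv' : m⁻¹ • v ∈ (m⁻¹ * m') • V1 B.dat := by
    rw [mul_smul]
    exact AddSubgroup.smul_mem_pointwise_smul _ _ _ hv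
  have h2 : br k (m⁻¹ • v) ∈ V1 B.dat ⊓ (m⁻¹ * m') • V1 B.dat := by
    refine ⟨br_Y_V1 B.dat hk (B.smul_V1_le hn hv'), ?_⟩
    change br k (m⁻¹ • v) ∈ (m⁻¹ * m') • V1 B.dat
    rw [br_def]
    exact sub_mem (B.smul_V1_K hn (B.YK hk) hv') hv'
  rw [h1, AddSubgroup.mem_bot, br_eq_zero] at h2
  rw [mul_smul, mul_smul, h2, smul_inv_smul]

/-- the sum of the blocks different from `m V₁` -/
def rest (m : H) : AddSubgroup U := AddSubgroup.closure {v | ∃ m' ∈ M, m • V1 B.dat ≠ m' • V1 B.dat ∧ v ∈ m' • V1 B.dat}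

/-- the sum of all blocks -/
def all : AddSubgroup U := AddSubgroup.closure {v | ∃ m ∈ M, v ∈ m • V1 B.dat}

theorem le_rest {m m' : H} (hm' : m' ∈ M) (hne : m • V1 B.dat ≠ m' • V1 B.dat) : m' • V1 B.dat ≤ B.rest m :=
  fun _ hv => AddSubgroup.subset_closure ⟨m', hm', hne, hv⟩

theorem le_all {m : H} (hm : m ∈ M) : m • V1 B.dat ≤ B.all :=
  fun _ hv => AddSubgroup.subset_closure ⟨m, hm, hv⟩

theorem rest_le_all (m : H) : B.rest m ≤ B.all := by
  refine (AddSubgroup.closure_le _).2 ?_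
  rintro v ⟨m', hm', -, hv⟩
  exact B.le_all hm' hv

theorem all_le : B.all ≤ V := by
  refine (AddSubgroup.closure_le _).2 ?_
  rintro v ⟨m, hm, hv⟩
  exact B.smul_V1_le hm hv

theorem rest_le (m : H) : B.rest m ≤ V := (B.rest_le_all m).trans B.all_le

theorem cent_rest [Finite H] [Finite U] {m : H} (hm : m ∈ M) {k : H} (hk : k ∈ Y) {v : U} (hv : v ∈ B.rest m) :
    (m * k * m⁻¹) • v = v := by
  induction hv using AddSubgroup.closure_induction with
  | mem v hv =>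
    obtain ⟨m', hm', hne, hv⟩ := hv
    exact B.cent hm hm' hne hk hv
  | zero => exact smul_zero _
  | add a b _ _ ha hb => rw [smul_add, ha, hb]
  | neg a _ ha => rw [smul_neg, ha]

/-- **The sum of the blocks is direct.** -/
theorem indep [Finite H] [Finite U] {m : H} (hm : m ∈ M) : m • V1 B.dat ⊓ B.rest m = ⊥ := by
  rw [eq_bot_iff]
  rintro v ⟨hv1, hv2⟩
  obtain ⟨w, hw, rfl⟩ := B.mem_smul.1 hv1
  have h1 : w = 0 := V1_fix B.dat hw fun k hk => by
    have h2 := B.cent_rest hm hk hv2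
    rw [smul_smul, inv_mul_cancel_right, mul_smul] at h2
    exact smul_left_cancel m h2
  rw [h1, smul_zero]
  exact zero_mem _

theorem mem_all {v : U} (hv : v ∈ B.all) (m : H) : ∃ a ∈ m • V1 B.dat, ∃ b ∈ B.rest m, v = a + b := by
  classical
  induction hv using AddSubgroup.closure_induction with
  | mem v hv =>
    obtain ⟨m', hm', hv⟩ := hv
    by_cases hne : m • V1 B.dat = m' • V1 B.dat
    · exact ⟨v, hne ▸ hv, 0, zero_mem _, (add_zero v).symm⟩
    · exact ⟨0, zero_mem _, v, B.le_rest hm' hne hv, (zero_add v).symm⟩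
  | zero => exact ⟨0, zero_mem _, 0, zero_mem _, (add_zero 0).symm⟩
  | add a b _ _ ha hb =>
    obtain ⟨a1, ha1, a2, ha2, rfl⟩ := ha
    obtain ⟨b1, hb1, b2, hb2, rfl⟩ := hb
    exact ⟨_, add_mem ha1 hb1, _, add_mem ha2 hb2, by abel⟩
  | neg a _ ha =>
    obtain ⟨a1, ha1, a2, ha2, rfl⟩ := ha
    exact ⟨_, neg_mem ha1, _, neg_mem ha2, by abel⟩

/-- `M` permutes the blocks. -/
theorem all_M {m : H} (hm : m ∈ M) {v : U} (hv : v ∈ B.all) : m • v ∈ B.all := by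
  induction hv using AddSubgroup.closure_induction with
  | mem v hv =>
    obtain ⟨m', hm', hv⟩ := hv
    refine B.le_all (mul_mem hm hm') ?_
    rw [mul_smul]
    exact AddSubgroup.smul_mem_pointwise_smul _ _ _ hv
  | zero => rw [smul_zero]; exact zero_mem _
  | add a b _ _ ha hb => rw [smul_add]; exact add_mem ha hb
  | neg a _ ha => rw [smul_neg]; exact neg_mem ha

/-- the normal closure of `Y` in `M` -/
def YM (_B : Blk0 Y Q BB V F L C h M KV S) : Subgroup H := closure {x | ∃ m ∈ M, ∃ k ∈ Y, x = m * k * m⁻¹}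

theorem YM_le : B.YM ≤ KV := by
  refine (closure_le _).2 ?_
  rintro _ ⟨m, hm, k, hk, rfl⟩
  exact B.nK m hm k (B.YK hk)

theorem YM_conj {m x : H} (hm : m ∈ M) (hx : x ∈ B.YM) : m * x * m⁻¹ ∈ B.YM := by
  induction hx using closure_induction with
  | mem x hx =>
    obtain ⟨g, hg, k, hk, rfl⟩ := hx
    exact subset_closure ⟨m * g, mul_mem hm hg, k, hk, by group⟩
  | one => rw [mul_one, mul_inv_cancel]; exact one_mem _
  | mul x y _ _ hx hy =>
    have e : m * (x * y) * m⁻¹ = m * x * m⁻¹ * (m * y * m⁻¹) := by group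
    rw [e]; exact mul_mem hx hy
  | inv x _ hx =>
    have e : m * x⁻¹ * m⁻¹ = (m * x * m⁻¹)⁻¹ := by group
    rw [e]; exact inv_mem hx

theorem conj_mem_YM {m k : H} (hm : m ∈ M) (hk : k ∈ Y) : m * k * m⁻¹ ∈ B.YM :=
  subset_closure ⟨m, hm, k, hk, rfl⟩

/-- `[V, Y^M] ≤ Σ m V₁` -/
theorem br_YM [Finite H] [Finite U] {x : H} (hx : x ∈ B.YM) {v : U} (hv : v ∈ V) : br x v ∈ B.all := by
  induction hx using closure_induction generalizing v with
  | mem x hx =>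
    obtain ⟨m, hm, k, hk, rfl⟩ := hx
    have e : v = m • (m⁻¹ • v) := (smul_inv_smul m v).symm
    rw [e, br_conj_smul]
    refine B.le_all hm (AddSubgroup.smul_mem_pointwise_smul _ _ _ ?_)
    exact br_Y_V1 B.dat hk (B.mV _ (inv_mem hm) v hv)
  | one => rw [br_one]; exact zero_mem _
  | mul a b ha _ iha ihb =>
    have e : br (a * b) v = a • br b v + br a v := by
      simp only [br_def, mul_smul, smul_sub]; abel
    rw [e]
    exact add_mem (B.all_M (B.KM (B.YM_le ha)) (ihb hv)) (iha hv)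
  | inv a ha iha =>
    have e : br a⁻¹ v = - br a (a⁻¹ • v) := by
      rw [br_def, br_def, smul_inv_smul]; abel
    rw [e]
    exact neg_mem (iha (B.mV _ (inv_mem (B.KM (B.YM_le ha))) v hv))

/-- `KV` normalises every block. -/
theorem smul_eq_K [Finite H] [Finite U] {m k : H} (hm : m ∈ M) (hk : k ∈ KV) :
    k • m • V1 B.dat = m • V1 B.dat := by
  refine AddSubgroup.eq_of_le_of_card_ge (fun v hv => ?_) (le_of_eq ?_)
  · obtain ⟨w, hw, rfl⟩ := (AddSubgroup.mem_smul_pointwise_iff_exists _ _ _).1 hv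
    exact B.smul_V1_K hm hk hw
  · exact (card_smul k _).symm


end Blk0

end Cfsg.Agent.Omega.NO3b.Exit.BlkZ

end

section


/-!
# Descent (helper255, bb 20076), part 4: (ANN) from the blocks of `V` (`TBlk.Blk`)

For `B : Blk Y Q BB V F L C h M KV S O`:

* `allTv` : `Y` induces all transvections on `AM`; `V1_le_img`;
* `inf_rest` : an element of `V` without component in every block is zero;
* `comp_ne` : an element `≠ 0` of `C_V(S)` has a component `≠ 0` in every block;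
* `odd_T` : `{y ∈ Y | m y m⁻¹ ∈ S}` has odd index in `Y`;
* **`ann`** : `z ≠ 0`, `z'` in `C_V(S)`: every element of the ring generated by `KV` (so by `O`) which kills `z` kills `z'`.
-/

set_option autoImplicit false

open scoped Pointwise

namespace Cfsg.Agent.Omega.NO3b.Exit.DescAnn

open Subgroup Cfsg.Agent.Omega.NO3b.Exit Ten TBlk Descent

universe u v

section dat

variable {H : Type u} {U : Type v} [Group H] [AddCommGroup U] [DistribMulAction H U]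
variable {Y Q BB : Subgroup H} {V F L C : AddSubgroup U} {h : H} (D : Dat Y Q BB V F L C h)

theorem allTv [Finite H] [Finite U] : AllTv Y (AM D) := by
  intro φ a ha
  obtain ⟨k, d, -, hk⟩ := D.mdl.trans' φ ha
  exact ⟨_, hk⟩

theorem V1_le_img [Finite H] [Finite U] : V1 D ≤ img Y (AM D) U := by
  refine (AddSubgroup.closure_le _).2 ?_
  rintro _ ⟨y, hy, u, rfl⟩
  have h1 := mem_img (D.mdl.psi u) (AM.mk y hy)
  rw [Mdl.psi_apply, D.bt_apply] at h1
  exact h1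

end dat

variable {H : Type u} {U : Type v} [Group H] [Finite H] [AddCommGroup U] [DistribMulAction H U] [Finite U]
variable {Y Q BB : Subgroup H} {V F L C : AddSubgroup U} {h : H} {M KV S O : Subgroup H}
variable (B : Blk Y Q BB V F L C h M KV S O)
include B

/-- the ring generated by `KV` acts on `V₁ = A ⊗ E` through `A` -/
theorem exists_ringK {c : AddMonoid.End U} (hc : c ∈ ring U KV) :
    ∃ c' : AddMonoid.End (AM B.dat), ∀ (f : HomY Y (AM B.dat) U) (a : AM B.dat),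
      c ((f : AM B.dat →+ U) a) = (f : AM B.dat →+ U) (c' a) := by
  induction hc using AddSubgroup.closure_induction with
  | mem c hc =>
    obtain ⟨x, hx, rfl⟩ := hc
    let c' : AddMonoid.End (AM B.dat) :=
      AddMonoidHom.mk' (fun a => AM.mk (x * a.val * x⁻¹) (B.AA_K x hx _ a.val_mem)) fun a b => AM.ext (by
        change x * (a.val * b.val) * x⁻¹ = x * a.val * x⁻¹ * (x * b.val * x⁻¹)
        group)
    refine ⟨c', fun f a => ?_⟩
    obtain ⟨u, rfl⟩ := B.dat.mdl.psi_surj f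
    rw [Mdl.psi_apply, Mdl.psi_apply, B.dat.bt_apply, B.dat.bt_apply]
    exact (B.br_K hx a.val_mem u).symm
  | zero => exact ⟨0, fun f a => (map_zero (f : AM B.dat →+ U)).symm⟩
  | add c d _ _ hc hd =>
    obtain ⟨c', h1⟩ := hc
    obtain ⟨d', h2⟩ := hd
    refine ⟨c' + d', fun f a => ?_⟩
    change c ((f : AM B.dat →+ U) a) + d ((f : AM B.dat →+ U) a) = (f : AM B.dat →+ U) (c' a + d' a)
    rw [h1, h2, map_add]
  | neg c _ hc =>
    obtain ⟨c', h1⟩ := hc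
    refine ⟨-c', fun f a => ?_⟩
    change - c ((f : AM B.dat →+ U) a) = (f : AM B.dat →+ U) (- c' a)
    rw [h1, map_neg]

/-- one block -/
theorem ann_one {T : Subgroup H} (hT2 : IsPGroup 2 T) (hT : ¬ 2 ∣ T.relIndex Y) {w w' : U} (hw : w ∈ V1 B.dat)
    (hwT : ∀ t ∈ T, t ∈ Y → t • w = w) (hw0 : w ≠ 0) (hw' : w' ∈ V1 B.dat) (hwT' : ∀ t ∈ T, t ∈ Y → t • w' = w')
    {c : AddMonoid.End U} (hc : c ∈ ring U KV) (h0 : c w = 0) : c w' = 0 := by
  have hT' : ¬ 2 ∣ (T.subgroupOf Y).index := hT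
  have hT2' : IsPGroup 2 (T.subgroupOf Y) := hT2.comap_of_injective _ (subtype_injective Y)
  obtain ⟨n, -, hn0, hn⟩ := exists_fix (V := AM B.dat) (H := Y) hT2' B.dat.AM_two (A := ⊤)
    (fun _ _ _ _ => trivial) (by
      intro h
      obtain ⟨a, ha⟩ := (B.dat.isIrr).ne
      have : a ∈ (⊤ : AddSubgroup (AM B.dat)) := trivial
      rw [h] at this
      exact ha this)
  obtain ⟨f, rfl⟩ := exists_of_fix (allTv B.dat) B.dat.AM_two hT' hn0 hn (V1_le_img B.dat hw)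
    (fun t ht => hwT t (mem_subgroupOf.1 ht) t.2)
  obtain ⟨f', rfl⟩ := exists_of_fix (allTv B.dat) B.dat.AM_two hT' hn0 hn (V1_le_img B.dat hw')
    (fun t ht => hwT' t (mem_subgroupOf.1 ht) t.2)
  obtain ⟨c', hcc⟩ := exists_ringK B hc
  have hf0 : f ≠ 0 := by
    rintro rfl
    exact hw0 rfl
  rw [hcc] at h0 ⊢
  have h1 : c' n = 0 := HomY.inj hf0 (h0.trans (map_zero _).symm)
  rw [h1, map_zero]

omit [Finite H] [Finite U] in
/-- `x ∈ M` maps `rest m` to `rest (x m)` -/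
theorem smul_rest {m x : H} (hx : x ∈ M) {v : U} (hv : v ∈ B.rest m) : x • v ∈ B.rest (x * m) := by
  induction hv using AddSubgroup.closure_induction with
  | mem v hv =>
    obtain ⟨m', hm', hne, hv⟩ := hv
    refine AddSubgroup.subset_closure ⟨x * m', mul_mem hx hm', fun e => hne ?_, ?_⟩
    · rw [mul_smul, mul_smul] at e
      exact smul_left_cancel x e
    · rw [mul_smul]
      exact AddSubgroup.smul_mem_pointwise_smul _ _ _ hv
  | zero => rw [smul_zero]; exact zero_mem _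
  | add a b _ _ ha hb => rw [smul_add]; exact add_mem ha hb
  | neg a _ ha => rw [smul_neg]; exact neg_mem ha

omit [Finite H] [Finite U] in
theorem rest_congr {m m' : H} (e : m • V1 B.dat = m' • V1 B.dat) : B.rest m = B.rest m' := by
  unfold Blk.rest
  rw [e]

/-- an element of `V` without components is zero -/
theorem inf_rest {v : U} (hvV : v ∈ V) (hv : ∀ m ∈ M, v ∈ B.rest m) : v = 0 := by
  by_contra hv0
  let A : AddSubgroup U :=
    { carrier := {v | v ∈ V ∧ ∀ m ∈ M, v ∈ B.rest m}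
      zero_mem' := ⟨zero_mem _, fun m _ => zero_mem _⟩
      add_mem' := fun {a b} ha hb => ⟨add_mem ha.1 hb.1, fun m hm => add_mem (ha.2 m hm) (hb.2 m hm)⟩
      neg_mem' := fun {a} ha => ⟨neg_mem ha.1, fun m hm => neg_mem (ha.2 m hm)⟩ }
  have hAS : ∀ s ∈ S, ∀ v ∈ A, s • v ∈ A := by
    rintro s hs v ⟨h1, h2⟩
    refine ⟨B.mV s (B.SM hs) v h1, fun m hm => ?_⟩
    have h3 := smul_rest B (B.SM hs) (h2 _ (mul_mem (inv_mem (B.SM hs)) hm))
    rwa [mul_inv_cancel_left] at h3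
  have hne : A ≠ ⊥ := by
    intro h0
    have h1 : v ∈ A := ⟨hvV, hv⟩
    rw [h0] at h1
    exact hv0 h1
  obtain ⟨z, hz, hz0, hzS⟩ := exists_fix B.S2 B.dat.two hAS hne
  apply hz0
  have hYM : ∀ x ∈ B.YM, x • z = z := by
    intro x hx
    induction hx using closure_induction with
    | mem x hx =>
      obtain ⟨m, hm, k, hk, rfl⟩ := hx
      exact B.cent_rest hm hk (hz.2 m hm)
    | one => exact one_smul _ _
    | mul a b _ _ ha hb => rw [mul_smul, hb, ha]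
    | inv a _ ha => rw [inv_smul_eq_iff, ha]
  exact B.cz z hz.1 hzS fun o ho => hYM o (B.O_le ho)

/-- the component of a fixed point is nonzero -/
theorem comp_ne {z : U} (hz0 : z ≠ 0) (hzV : z ∈ V) (hz : ∀ s ∈ S, s • z = z) {m : H} (hm : m ∈ M) :
    z ∉ B.rest m := by
  intro h1
  refine hz0 (inf_rest B hzV fun m' hm' => ?_)
  obtain ⟨s, hs, e⟩ := B.trans hm hm'
  have h2 := smul_rest B (B.SM hs) h1
  rw [hz s hs] at h2
  rwa [rest_congr B (m := s * m) (m' := m') (by rw [mul_smul, e])] at h2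

omit [Finite U] [AddCommGroup U] [DistribMulAction H U] B in
/-- a subgroup of odd index meets a subnormal subgroup in a subgroup of odd index -/
theorem sn_odd {Y K T : Subgroup H} (h : Sn Y K) (hT : ¬ 2 ∣ T.relIndex K) : ¬ 2 ∣ T.relIndex Y := by
  induction h with
  | refl => exact hT
  | @step K K' _ h1 h2 ih =>
    refine ih ?_
    have hn : (K.subgroupOf K').Normal := ⟨fun n hn g => h2 g g.2 n hn⟩
    have h3 := not_dvd_relIndex (M := K') (S := T.subgroupOf K') (N := K.subgroupOf K') hT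
    rwa [relIndex_subgroupOf h1] at h3

omit [Finite U] in
theorem odd_T {m : H} (hm : m ∈ M) : ¬ 2 ∣ (S.map (MulAut.conj m⁻¹).toMonoidHom).relIndex Y := by
  refine sn_odd (K := KV) B.sn ?_
  have hn : (KV.subgroupOf M).Normal := ⟨fun n hn g => B.nK g g.2 n hn⟩
  have h1 : ¬ 2 ∣ ((S.map (MulAut.conj m⁻¹).toMonoidHom).subgroupOf M).index := by
    have e : (S.map (MulAut.conj m⁻¹).toMonoidHom).relIndex (M.map (MulAut.conj m⁻¹).toMonoidHom) = S.relIndex M :=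
      relIndex_map_map_of_injective _ _ (MulAut.conj m⁻¹).injective
    have e2 : M.map (MulAut.conj m⁻¹).toMonoidHom = M := by
      ext x
      constructor
      · rintro ⟨y, hy, rfl⟩
        exact mul_mem (mul_mem (inv_mem hm) hy) (inv_mem (inv_mem hm))
      · intro hx
        refine ⟨m * x * m⁻¹, mul_mem (mul_mem hm hx) (inv_mem hm), ?_⟩
        change m⁻¹ * (m * x * m⁻¹) * m⁻¹⁻¹ = x
        group
    rw [e2] at e
    change ¬ 2 ∣ (S.map (MulAut.conj m⁻¹).toMonoidHom).relIndex M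
    rw [e]
    exact B.syl
  have h2 := not_dvd_relIndex (N := KV.subgroupOf M) h1
  rwa [relIndex_subgroupOf B.KM] at h2

/-- the component in `m V₁` of a fixed point is fixed by `m Y m⁻¹ ∩ S` -/
theorem comp_fix {m : H} (hm : m ∈ M) {z a b : U} (hz : ∀ s ∈ S, s • z = z) (ha : a ∈ m • V1 B.dat)
    (hb : b ∈ B.rest m) (e : z = a + b) {s : H} (hs : s ∈ S) (hsK : s ∈ KV) : s • a = a := by
  have h1 : s • a ∈ m • V1 B.dat := B.smul_V1_K hm hsK ha
  have h2 : s • b ∈ B.rest m := by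
    have h3 := smul_rest B (B.SM hs) hb
    rwa [rest_congr B (m := s * m) (m' := m) (by rw [mul_smul, B.smul_eq_K hm hsK])] at h3
  have h3 := hz s hs
  rw [e, smul_add] at h3
  have h4 : s • a - a = b - s • b := by
    rw [sub_eq_sub_iff_add_eq_add, h3, add_comm]
  have h5 : s • a - a ∈ m • V1 B.dat ⊓ B.rest m :=
    AddSubgroup.mem_inf.2 ⟨sub_mem h1 ha, by rw [h4]; exact sub_mem hb h2⟩
  rw [B.indep hm, AddSubgroup.mem_bot] at h5
  exact sub_eq_zero.1 h5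

/-- **(ANN)** -/
theorem ann {z z' : U} (hzV : z ∈ V) (hz0 : z ≠ 0) (hz : ∀ s ∈ S, s • z = z) (hzV' : z' ∈ V)
    (hz' : ∀ s ∈ S, s • z' = z') {c : AddMonoid.End U} (hc : c ∈ ring U KV) (h0 : c z = 0) : c z' = 0 := by
  have hcV : c z' ∈ V := apply_mem (X := KV) (fun k hk v hv => B.mV k (B.KM hk) v hv) hzV' hc
  refine inf_rest B hcV fun m hm => ?_
  obtain ⟨a, ha, b, hb, e⟩ := B.exists_add m hzV
  obtain ⟨a', ha', b', hb', e'⟩ := B.exists_add m hzV'
  have hrK : ∀ x ∈ KV, ∀ v ∈ B.rest m, x • v ∈ B.rest m := by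
    intro x hx v hv
    have h3 := smul_rest B (B.KM hx) hv
    rwa [rest_congr B (m := x * m) (m' := m) (by rw [mul_smul, B.smul_eq_K hm hx])] at h3
  have hVK : ∀ x ∈ KV, ∀ v ∈ m • V1 B.dat, x • v ∈ m • V1 B.dat := fun x hx v hv => B.smul_V1_K hm hx hv
  have hca : c a ∈ m • V1 B.dat := apply_mem hVK ha hc
  have hcb : c b ∈ B.rest m := apply_mem hrK hb hc
  have hcb' : c b' ∈ B.rest m := apply_mem hrK hb' hc
  have h1 : c a = 0 := by
    rw [e, map_add] at h0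
    have h2 : c a ∈ m • V1 B.dat ⊓ B.rest m := by
      refine AddSubgroup.mem_inf.2 ⟨hca, ?_⟩
      rw [eq_neg_of_add_eq_zero_left h0]
      exact neg_mem hcb
    rwa [B.indep hm, AddSubgroup.mem_bot] at h2
  have ha0 : a ≠ 0 := by
    intro h2
    apply comp_ne B hz0 hzV hz hm
    rw [e, h2, zero_add]
    exact hb
  -- conjugate by `m⁻¹`
  have hcm : op U m⁻¹ * c * op U m⁻¹⁻¹ ∈ ring U KV :=
    Descent.conj_mem (fun x hx => B.nK _ (inv_mem hm) x hx) hc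
  have key : ∀ v : U, (op U m⁻¹ * c * op U m⁻¹⁻¹) (m⁻¹ • v) = m⁻¹ • c v := by
    intro v
    change m⁻¹ • c (m⁻¹⁻¹ • m⁻¹ • v) = _
    rw [inv_inv, smul_inv_smul]
  have hmem : ∀ v ∈ m • V1 B.dat, m⁻¹ • v ∈ V1 B.dat := fun v hv =>
    AddSubgroup.mem_pointwise_smul_iff_inv_smul_mem.1 hv
  have hfix : ∀ v, v ∈ m • V1 B.dat → (∀ s ∈ S, s ∈ KV → s • v = v) →
      ∀ t ∈ S.map (MulAut.conj m⁻¹).toMonoidHom, t ∈ Y → t • m⁻¹ • v = m⁻¹ • v := by
    rintro v - hv _ ⟨s, hs, rfl⟩ ht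
    have hsK : s ∈ KV := by
      have h2 := B.nK m hm _ (B.YK ht)
      have e3 : m * (MulAut.conj m⁻¹).toMonoidHom s * m⁻¹ = s := by
        change m * (m⁻¹ * s * m⁻¹⁻¹) * m⁻¹ = s
        group
      rwa [e3] at h2
    change (m⁻¹ * s * m⁻¹⁻¹) • m⁻¹ • v = _
    rw [smul_smul, inv_inv, mul_assoc, mul_inv_cancel, mul_one, mul_smul, hv s hs hsK]
  have h2 : (op U m⁻¹ * c * op U m⁻¹⁻¹) (m⁻¹ • a') = 0 := by
    refine ann_one B (T := S.map (MulAut.conj m⁻¹).toMonoidHom) (B.S2.map _) (odd_T B hm)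
      (w := m⁻¹ • a) (hmem a ha) (hfix a ha fun s hs hsK => comp_fix B hm hz ha hb e hs hsK) ?_ (hmem a' ha')
      (hfix a' ha' fun s hs hsK => comp_fix B hm hz' ha' hb' e' hs hsK) hcm ?_
    · intro h3
      exact ha0 (by rw [← smul_inv_smul m a, h3, smul_zero])
    · rw [key, h1, smul_zero]
  rw [key] at h2
  have h3 : c a' = 0 := by rw [← smul_inv_smul m (c a'), h2, smul_zero]
  rw [e', map_add, h3, zero_add]
  exact hcb'

end Cfsg.Agent.Omega.NO3b.Exit.DescAnn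

end

end
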