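import Cfsg.Agent.Mrg.Omega.NO3b.TI
import Cfsg.Agent.Mrg.Omega.NO3S.NotFF.Basic
import Cfsg.Agent.Mrg.Omega.NO3b.Exit.TightDat
import Cfsg.Agent.Mrg.Omega.NO3b.Exit.MU
import Cfsg.Agent.MinSimple.EmptyE.Trans

-- merged: Cfsg.Agent.Mrg.Omega.NO3S.TINat
section

section


/-!
# THEOREM TI-NAT (helper619, bb OMEGA #16825): natural lines which meet nontrivially commute

`S` a Sylow 2-subgroup of `G`, `Z = Ω₁(Z(S))`, `V` a natural line with point `Z`: `|V| = |Z|²`, every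
`s ∈ S - C_S(V)` has `C_V(s) = Z = [V, s]`.  No hypothesis on `J(S)`, no nonlocality, no torus.

* `NLine S V` : the hypotheses;
* `NLine.core` : a group `D < Z`, maximal such that two lines on points above `D` do not commute, has
  `V ≤ O₂(C_G(D))`;
* `NLine.le_o2` : `V ≤ O₂(C_G(D))` for every `1 ≠ D ≤ Z`;
* `NLine.ti` : `1 ≠ D ≤ Z^a ∩ Z^b` implies that `V^a` and `V^b` commute.
-/

set_option autoImplicit false

namespace Cfsg.Agent.Omega.NO3S.TINat

open Subgroup Cfsg Cfsg.Agent.ZN Cfsg.Agent.ZN.ChoiceBase Cfsg.Agent.ZN.ChoiceSit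
open Cfsg.Agent.Omega.NO3b.EZero Cfsg.Agent.Omega.NO3b.TI
open Cfsg.Agent.MinSimple.EmptyTI (zc_cj)
open Cfsg.Agent.Omega.NO3S.NotFF (le_normalizer_of_forall conj_mem)

universe u

variable {G : Type u} [Group G]

/-- The hypotheses of THEOREM TI-NAT. -/
structure NLine [Finite G] (S : Sylow 2 G) (V : Subgroup G) : Prop where
  char2 : IsCharacteristicTwoType G
  sq : ∀ v ∈ V, v ^ 2 = 1
  comm : V ≤ centralizer (V : Set G)
  Z_le : zc (S : Subgroup G) ≤ V
  norm : (S : Subgroup G) ≤ normalizer (V : Set G)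
  /-- `[V, S] ≤ Z` -/
  act : ∀ s ∈ (S : Subgroup G), ∀ v ∈ V, s * v * s⁻¹ * v⁻¹ ∈ zc (S : Subgroup G)
  /-- `C_V(s) = Z` if `s` does not centralise `V` -/
  free : ∀ s ∈ (S : Subgroup G), ∀ v ∈ V, v ∉ zc (S : Subgroup G) → s * v = v * s →
    s ∈ centralizer (V : Set G)
  card : Nat.card V = Nat.card (zc (S : Subgroup G)) * Nat.card (zc (S : Subgroup G))
  /-- `V^n`, `n ∈ N_G(Z)`, lies in `O₂(C_G(Z))` as soon as `V` does -/
  low : V ≤ o2 (centralizer (zc (S : Subgroup G) : Set G))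
  noff : ∀ g : G, V ≤ normalizer ((cj g V : Subgroup G) : Set G) → cj g V ≤ normalizer (V : Set G) →
    V ≤ centralizer ((cj g V : Subgroup G) : Set G)

/-- `V` and `V^g` do not commute, and `1 ≠ D` lies in their points `Z` and `Z^g`. -/
def Bad [Finite G] (S : Sylow 2 G) (V D : Subgroup G) : Prop :=
  D ≠ ⊥ ∧ D ≤ zc (S : Subgroup G) ∧ ∃ g : G, D ≤ cj g (zc (S : Subgroup G)) ∧
    ¬ V ≤ centralizer ((cj g V : Subgroup G) : Set G)

/-- Two involutions which generate a group that is not a 2-group. -/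
theorem exists_pow_ne [Finite G] {X : Subgroup G} {v : G} (hv : v ∈ X) (hv2 : v * v = 1) (hvO : v ∉ o2 X) :
    ∃ g ∈ X, (v * (g * v * g⁻¹)) ^ 4 ≠ 1 := by
  by_contra hcon
  push Not at hcon
  exact hvO (mem_o2_of_conj hv hv2 hcon)

theorem pow_four {v w : G} (hv : v * v = 1) (hw : w * w = 1)
    (h : w * (v * w * v⁻¹) = v * w * v⁻¹ * w) : (v * w) ^ 4 = 1 := by
  have hvi : v⁻¹ = v := inv_eq_of_mul_eq_one_left hv
  rw [hvi] at h
  have e : (v * w) ^ 4 = (v * w * v * w) * (v * w * v * w) := by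
    rw [show (4 : ℕ) = 2 * 2 from rfl, pow_mul, pow_two, pow_two]; group
  rw [e]
  nth_rewrite 1 [← h]
  calc w * (v * w * v) * (v * w * v * w) = w * v * w * (v * v) * w * v * w := by group
    _ = w * v * (w * w) * v * w := by rw [hv]; group
    _ = w * (v * v) * w := by rw [hw]; group
    _ = 1 := by rw [hv, mul_one, hw]

/-- The other form. -/
theorem pow_four' {v w : G} (hv : v * v = 1) (hw : w * w = 1)
    (h : v * (w * v * w⁻¹) = w * v * w⁻¹ * v) : (v * w) ^ 4 = 1 := by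
  have h1 := pow_four hw hv h
  have hvi : v⁻¹ = v := inv_eq_of_mul_eq_one_left hv
  have hwi : w⁻¹ = w := inv_eq_of_mul_eq_one_left hw
  have e : (v * w)⁻¹ = w * v := by rw [mul_inv_rev, hvi, hwi]
  rw [← inv_inv (v * w), e, inv_pow, h1, inv_one]

theorem card_lt_of_lt [Finite G] {A B : Subgroup G} (h : A < B) : Nat.card A < Nat.card B := by
  refine lt_of_le_of_ne (Subgroup.card_le_of_le h.le) fun h2 => ?_
  exact h.ne (Subgroup.eq_of_le_of_card_ge h.le h2.ge)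

/-- A 2-subgroup of `N_G(Z)`, `Z = Ω₁(Z(S))`, centralises `Z`. -/
theorem two_cent [Finite G] (S : Sylow 2 G) {A : Subgroup G} (hA : IsPGroup 2 A)
    (hn : A ≤ normalizer (zc (S : Subgroup G) : Set G)) : A ≤ centralizer (zc (S : Subgroup G) : Set G) := by
  obtain ⟨T, hT, hAT⟩ := exists_syl hA hn
  obtain ⟨x, hx, hxT⟩ := syl_conj
    (MinSimple.EmptyTI.syl_of_le (S := S) (le_normalizer_zc (S : Subgroup G))) hT
  have h1 := cj_mono x (MinSimple.VModule.le_centralizer_zc (S : Subgroup G))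
  rw [hxT, cj_centralizer, mem_normalizer_iff_cj.1 hx] at h1
  exact hAT.trans h1

theorem two_cent_mem [Finite G] (S : Sylow 2 G) {e : G} (he : e * e = 1)
    (hn : ∀ z ∈ zc (S : Subgroup G), e * z * e⁻¹ ∈ zc (S : Subgroup G)) {z : G}
    (hz : z ∈ zc (S : Subgroup G)) : e * z * e⁻¹ = z := by
  have h1 : e ∈ normalizer (zc (S : Subgroup G) : Set G) := by
    refine mem_normalizer_of_cj_le fun x hx => ?_
    have := hn _ (mem_cj.1 hx)
    have e1 : e * (e⁻¹ * x * e) * e⁻¹ = x := by group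
    rwa [e1] at this
  have h2 : IsPGroup 2 (zpowers e) := by
    intro x
    obtain ⟨k, hk⟩ := mem_zpowers_iff.1 x.2
    refine ⟨1, Subtype.ext ?_⟩
    have : ((x : G)) ^ 2 = 1 := by
      rw [← hk, ← zpow_natCast, ← zpow_mul, mul_comm, zpow_mul]
      have : e ^ ((2 : ℕ) : ℤ) = 1 := by rw [zpow_natCast, pow_two, he]
      rw [this, one_zpow]
    simpa using this
  have h3 := two_cent S h2 (zpowers_le.2 h1) (mem_zpowers e)
  rw [mul_inv_eq_iff_eq_mul]
  exact (mem_centralizer_iff.1 h3 z hz).symm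

namespace NLine

variable [Finite G] {S : Sylow 2 G} {V : Subgroup G} (h : NLine S V)
include h

theorem sqm {v : G} (hv : v ∈ V) : v * v = 1 := by rw [← pow_two]; exact h.sq v hv

theorem vcomm {v w : G} (hv : v ∈ V) (hw : w ∈ V) : v * w = w * v :=
  (mem_centralizer_iff.1 (h.comm hv) w hw).symm

/-- for `s ∈ S - C_S(V)` the map `v ↦ [s, v]`, `V → Z`, is onto -/
theorem surj {s : G} (hs : s ∈ (S : Subgroup G)) (hsV : s ∉ centralizer (V : Set G)) {z : G}
    (hz : z ∈ zc (S : Subgroup G)) : ∃ v ∈ V, s * v * s⁻¹ * v⁻¹ = z := by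
  let φ : V →* (zc (S : Subgroup G)) :=
    { toFun := fun v => ⟨s * v * s⁻¹ * (v : G)⁻¹, h.act s hs v v.2⟩
      map_one' := Subtype.ext (by simp)
      map_mul' := by
        intro a b
        apply Subtype.ext
        change s * ((a : G) * b) * s⁻¹ * ((a : G) * b)⁻¹ =
          (s * a * s⁻¹ * (a : G)⁻¹) * (s * b * s⁻¹ * (b : G)⁻¹)
        have h1 := h.vcomm (h.Z_le (h.act s hs b b.2)) (V.inv_mem a.2)
        calc s * ((a : G) * b) * s⁻¹ * ((a : G) * b)⁻¹
            = s * a * s⁻¹ * ((s * b * s⁻¹ * (b : G)⁻¹) * (a : G)⁻¹) := by group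
          _ = s * a * s⁻¹ * ((a : G)⁻¹ * (s * b * s⁻¹ * (b : G)⁻¹)) := by rw [h1]
          _ = _ := by group }
  have hφ : ∀ v : V, (φ v : G) = s * v * s⁻¹ * (v : G)⁻¹ := fun _ => rfl
  have hker : Nat.card φ.ker ≤ Nat.card (zc (S : Subgroup G)) := by
    refine Nat.card_le_card_of_injective (fun a : φ.ker => (⟨((a : V) : G), ?_⟩ : zc (S : Subgroup G))) ?_
    · by_contra hcon
      refine hsV (h.free s hs _ (a : V).2 hcon ?_)
      have h1 : (φ (a : V) : G) = 1 := congrArg Subtype.val a.2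
      rw [hφ, mul_inv_eq_one, mul_inv_eq_iff_eq_mul] at h1
      exact h1
    · intro a b hab
      have h1 : ((a : V) : G) = ((b : V) : G) := congrArg (fun x : zc (S : Subgroup G) => (x : G)) hab
      exact Subtype.ext (Subtype.ext h1)
  have h1 : Nat.card φ.ker * Nat.card φ.range = Nat.card V := by
    rw [← φ.ker.card_mul_index, Subgroup.index_ker]
  have h2 : Nat.card φ.range ≤ Nat.card (zc (S : Subgroup G)) := Subgroup.card_le_card_group _
  have h3 : Nat.card φ.range = Nat.card (zc (S : Subgroup G)) := by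
    refine le_antisymm h2 ?_
    have h4 : Nat.card (zc (S : Subgroup G)) * Nat.card (zc (S : Subgroup G)) ≤
        Nat.card (zc (S : Subgroup G)) * Nat.card φ.range := by
      rw [← h.card, ← h1]
      exact Nat.mul_le_mul_right _ hker
    exact Nat.le_of_mul_le_mul_left h4 Nat.card_pos
  have h4 : φ.range = ⊤ := Subgroup.eq_top_of_card_eq _ h3
  obtain ⟨v, hv⟩ := (MonoidHom.range_eq_top.1 h4) ⟨z, hz⟩
  exact ⟨v, v.2, by rw [← hφ, hv]⟩

omit h in
theorem o2_le_S {D : Subgroup G} (hD : D ≤ zc (S : Subgroup G)) :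
    o2 (centralizer (D : Set G)) ≤ (S : Subgroup G) :=
  o2_le_syl (MinSimple.EmptyTI.syl_of_le
    ((MinSimple.VModule.le_centralizer_zc (S : Subgroup G)).trans (centralizer_le hD)))

omit h in
/-- `O₂(C_G(D)) ≤ S^g` for `D ≤ Z^g` -/
theorem o2_le_conj {D : Subgroup G} {g : G} (hD : D ≤ cj g (zc (S : Subgroup G))) :
    o2 (centralizer (D : Set G)) ≤ cj g (S : Subgroup G) := by
  have h1 : cj g⁻¹ D ≤ zc (S : Subgroup G) := by rw [cj_le_iff, inv_inv]; exact hD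
  have h2 := cj_mono g (o2_le_S (S := S) h1)
  rwa [← o2_cj, cj_centralizer, cj_cj_inv] at h2

/-- If two lines on points above `D` lie in `O₂(C_G(D))` they commute. -/
theorem comm_of_le {D : Subgroup G} {g : G} (hD : D ≤ zc (S : Subgroup G))
    (hDg : D ≤ cj g (zc (S : Subgroup G))) (h1 : V ≤ o2 (centralizer (D : Set G)))
    (h2 : cj g V ≤ o2 (centralizer (D : Set G))) : V ≤ centralizer ((cj g V : Subgroup G) : Set G) :=
  h.noff g (h1.trans ((o2_le_conj hDg).trans (cj_norm h.norm))) (h2.trans ((o2_le_S hD).trans h.norm))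

/-- lines on the same point commute -/
theorem comm_point {g : G} (hg : zc (S : Subgroup G) ≤ cj g (zc (S : Subgroup G))) :
    V ≤ centralizer ((cj g V : Subgroup G) : Set G) := by
  refine h.comm_of_le le_rfl hg h.low ?_
  have h1 : cj g (zc (S : Subgroup G)) = zc (S : Subgroup G) :=
    (Subgroup.eq_of_le_of_card_ge hg (card_cj g _).le).symm
  have h2 := cj_mono g h.low
  rwa [← o2_cj, cj_centralizer, h1] at h2

omit h in
theorem bad_of {D : Subgroup G} (hD1 : D ≠ ⊥) {a b : G} (ha : D ≤ cj a (zc (S : Subgroup G)))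
    (hb : D ≤ cj b (zc (S : Subgroup G))) (hn : ¬ cj a V ≤ centralizer ((cj b V : Subgroup G) : Set G)) :
    Bad S V (cj a⁻¹ D) := by
  refine ⟨cj_ne_bot hD1, ?_, a⁻¹ * b, ?_, fun h0 => hn ?_⟩
  · rw [cj_le_iff, inv_inv]; exact ha
  · rw [← cj_cj]; exact cj_mono _ hb
  · have h1 := cj_cent (g := a) h0
    rwa [cj_cj, mul_inv_cancel_left] at h1

omit h in
/-- maximality of `D` -/
theorem comm_of_mem {D : Subgroup G} (hD1 : D ≠ ⊥) (hmax : ∀ E, Bad S V E → Nat.card E ≤ Nat.card D)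
    {a b : G} (ha : D ≤ cj a (zc (S : Subgroup G))) (hb : D ≤ cj b (zc (S : Subgroup G))) {x : G}
    (hxa : x ∈ cj a (zc (S : Subgroup G))) (hxb : x ∈ cj b (zc (S : Subgroup G))) (hx : x ∉ D) :
    cj a V ≤ centralizer ((cj b V : Subgroup G) : Set G) := by
  by_contra hcon
  have h1 : D < cj a (zc (S : Subgroup G)) ⊓ cj b (zc (S : Subgroup G)) := by
    refine lt_of_le_not_ge (le_inf ha hb) fun h0 => hx (h0 ⟨hxa, hxb⟩)
  have h2 : cj a (zc (S : Subgroup G)) ⊓ cj b (zc (S : Subgroup G)) ≠ ⊥ := fun h0 => by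
    rw [h0] at h1
    exact hD1 (le_bot_iff.1 h1.le)
  have h3 := hmax _ (bad_of h2 inf_le_left inf_le_right hcon)
  rw [card_cj] at h3
  exact absurd (card_lt_of_lt h1) (not_lt.2 h3)

/-- **The core.** -/
theorem core {D : Subgroup G} (hD1 : D ≠ ⊥) (hDZ : D ≤ zc (S : Subgroup G))
    (hmax : ∀ E, Bad S V E → Nat.card E ≤ Nat.card D) (hlt : ∃ z ∈ zc (S : Subgroup G), z ∉ D) :
    V ≤ o2 (centralizer (D : Set G)) := by
  by_contra hVO
  set X := centralizer (D : Set G) with hX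
  set O := o2 X with hO
  have hDV : D ≤ V := hDZ.trans h.Z_le
  have hVX : V ≤ X := h.comm.trans (centralizer_le hDV)
  have hOS : O ≤ (S : Subgroup G) := o2_le_S hDZ
  have hOn := ChoiceSit.le_normalizer_o2 X
  have hZc : ∀ s ∈ (S : Subgroup G), ∀ z ∈ zc (S : Subgroup G), s * z = z * s := fun s hs z hz =>
    (ChoiceBase.mem_zc.1 hz).2.2 s hs
  have hDp : IsPGroup 2 D := fun x => ⟨1, Subtype.ext (by simpa using h.sq x (hDV x.2))⟩
  have hZO : zc (S : Subgroup G) ≤ O := by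
    refine le_trans ?_ (NOne.LemmaT.char2_centralizer h.char2 hDp hD1)
    refine le_inf (h.Z_le.trans hVX) fun z hz => mem_centralizer_iff.2 fun y hy => ?_
    exact hZc y (hOS hy) z hz
  obtain ⟨v, hv, hvO⟩ := SetLike.not_le_iff_exists.1 hVO
  have hvX := hVX hv
  have hv2 := h.sqm hv
  obtain ⟨g, hg, h4⟩ := exists_pow_ne hvX hv2 hvO
  set w := g * v * g⁻¹ with hw
  have hwX : w ∈ X := mul_mem (mul_mem hg hvX) (inv_mem hg)
  have hwV : w ∈ cj g V := mem_cj_self hv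
  have hw2 : w * w = 1 := by
    calc w * w = g * (v * v) * g⁻¹ := by rw [hw]; group
      _ = 1 := by rw [hv2]; group
  have hDx : ∀ x ∈ X, cj x D = D := fun x hx => cj_eq_of_mem_normalizer (centralizer_le_normalizer _ hx)
  have hDle : ∀ x ∈ X, D ≤ cj x (zc (S : Subgroup G)) := fun x hx => by
    have := cj_mono x hDZ
    rwa [hDx x hx] at this
  have hyO : cj g (zc (S : Subgroup G)) ≤ O := by
    have := cj_mono g hZO
    rwa [hO, cj_eq_of_mem_normalizer (hOn hg)] at this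
  have hdc : ∀ x ∈ X, ∀ d ∈ D, x * d * x⁻¹ = d := fun x hx d hd => by
    rw [← mem_centralizer_iff.1 hx d hd, mul_inv_cancel_right]
  -- (2a)
  have h2a : ∀ z ∈ zc (S : Subgroup G), z⁻¹ * (w * z * w⁻¹) ∈ D → z ∈ D := by
    intro z hz hzD
    by_contra hzn
    have e1 : w * z * w⁻¹ = z * (z⁻¹ * (w * z * w⁻¹)) := by group
    have h5 : w * z * w⁻¹ ∉ D := by
      intro h6
      have h7 := hdc w⁻¹ (inv_mem hwX) _ h6
      have e2 : w⁻¹ * (w * z * w⁻¹) * w⁻¹⁻¹ = z := by group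
      rw [e2] at h7
      exact hzn (h7 ▸ h6)
    have h6 : w * z * w⁻¹ ∈ zc (S : Subgroup G) := by
      rw [e1]; exact mul_mem hz (hDZ hzD)
    have h7 := comm_of_mem (V := V) hD1 hmax (a := 1) (b := w) (by rw [cj_one]; exact hDZ) (hDle w hwX)
      (x := w * z * w⁻¹) (by rw [cj_one]; exact h6) (mem_cj_self hz) h5
    rw [cj_one] at h7
    refine h4 (pow_four' hv2 hw2 ?_)
    exact (mem_centralizer_iff.1 (h7 hv) _ (mem_cj_self hv)).symm
  -- (2b)
  have h2b : ∀ a ∈ cj g (zc (S : Subgroup G)), a * v = v * a → a ∈ D := by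
    intro a ha hav
    by_contra han
    have e1 : v * a * v⁻¹ = a := by rw [← hav, mul_inv_cancel_right]
    have h5 : a ∈ cj (v * g) (zc (S : Subgroup G)) := by
      rw [← cj_cj, ← e1]
      exact mem_cj_self ha
    have h7 := comm_of_mem (V := V) hD1 hmax (a := g) (b := v * g) (hDle g hg)
      (hDle _ (mul_mem hvX hg)) ha h5 han
    refine h4 (pow_four hv2 hw2 ?_)
    have h8 : v * w * v⁻¹ ∈ cj (v * g) V := by
      rw [← cj_cj]; exact mem_cj_self hwV
    exact (mem_centralizer_iff.1 (h7 hwV) _ h8).symm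
  have h2c : ∀ a ∈ cj g (zc (S : Subgroup G)), a ∈ centralizer (V : Set G) → a ∈ D := fun a ha hac =>
    h2b a ha (mem_centralizer_iff.1 hac v hv).symm
  -- (3)
  obtain ⟨z₀, hz₀, hz₀D⟩ := hlt
  set a₀ := g * z₀ * g⁻¹ with ha₀
  have ha₀y : a₀ ∈ cj g (zc (S : Subgroup G)) := mem_cj_self hz₀
  have ha₀D : a₀ ∉ D := by
    intro h5
    have h6 := hdc g⁻¹ (inv_mem hg) _ h5
    have e2 : g⁻¹ * a₀ * g⁻¹⁻¹ = z₀ := by rw [ha₀]; group
    rw [e2] at h6
    exact hz₀D (h6 ▸ h5)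
  obtain ⟨d, hd, hd1⟩ : ∃ d ∈ D, d ≠ 1 := by
    obtain ⟨d, hd⟩ := Subgroup.ne_bot_iff_exists_ne_one.1 hD1
    exact ⟨d, d.2, fun h0 => hd (Subtype.ext h0)⟩
  have ha₀S : a₀ ∈ (S : Subgroup G) := hOS (hyO ha₀y)
  obtain ⟨v', hv', hv'd⟩ := h.surj ha₀S (fun h5 => ha₀D (h2c _ ha₀y h5)) (hDZ hd)
  have hv'Z : v' ∉ zc (S : Subgroup G) := by
    intro h5
    apply hd1
    rw [← hv'd, hZc a₀ ha₀S v' h5]
    group
  have hv'X := hVX hv'
  have hcom : cj g V ≤ centralizer ((cj (v' * g) V : Subgroup G) : Set G) := by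
    have e1 : v' * a₀ * v'⁻¹ = d⁻¹ * a₀ := by
      rw [← hv'd]; group
    have h5 : d⁻¹ * a₀ ∈ cj g (zc (S : Subgroup G)) := mul_mem (inv_mem (hDle g hg hd)) ha₀y
    refine comm_of_mem (V := V) hD1 hmax (hDle g hg) (hDle _ (mul_mem hv'X hg)) (x := d⁻¹ * a₀) h5 ?_ ?_
    · rw [← cj_cj, ← e1]; exact mem_cj_self ha₀y
    · intro h6
      exact ha₀D ((D.mul_mem_cancel_left (D.inv_mem hd)).1 h6)
  -- (4)
  set w' := v' * w * v'⁻¹ with hw'
  have hw'V : w' ∈ cj (v' * g) V := by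
    rw [← cj_cj]; exact mem_cj_self hwV
  have hww' : w' * w = w * w' := mem_centralizer_iff.1 (hcom hwV) _ hw'V
  have hw'2 : w' * w' = 1 := by
    calc w' * w' = v' * (w * w) * v'⁻¹ := by rw [hw']; group
      _ = 1 := by rw [hw2]; group
  have hee : w * w' * (w * w') = 1 := by
    calc w * w' * (w * w') = w * (w' * w) * w' := by group
      _ = (w * w) * (w' * w') := by rw [hww']; group
      _ = 1 := by rw [hw2, hw'2, mul_one]
  have hay : ∀ z ∈ zc (S : Subgroup G), z⁻¹ * (w * z * w⁻¹) ∈ cj g (zc (S : Subgroup G)) := by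
    intro z hz
    have h5 : z⁻¹ ∈ cj g (S : Subgroup G) := by
      have h6 := cj_mono g hOS
      rw [hO, cj_eq_of_mem_normalizer (hOn hg)] at h6
      exact h6 (inv_mem (hZO hz))
    have h6 := h.act _ (mem_cj.1 h5) v hv
    rw [mem_cj]
    have e1 : g⁻¹ * (z⁻¹ * (w * z * w⁻¹)) * g = g⁻¹ * z⁻¹ * g * v * (g⁻¹ * z⁻¹ * g)⁻¹ * v⁻¹ := by
      rw [hw]; group
    rwa [e1]
  have key : ∀ z ∈ zc (S : Subgroup G), w * w' * z * (w * w')⁻¹ =
      z * ((z⁻¹ * (w * z * w⁻¹))⁻¹ * (v' * (z⁻¹ * (w * z * w⁻¹)) * v'⁻¹)) := by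
    intro z hz
    set a := z⁻¹ * (w * z * w⁻¹) with ha
    have ha' : v' * a * v'⁻¹ ∈ cj (v' * g) V := by
      rw [← cj_cj]
      exact mem_cj_self (cj_mono g h.Z_le (hay z hz))
    have h5 : v' * a * v'⁻¹ * w = w * (v' * a * v'⁻¹) := mem_centralizer_iff.1 (hcom hwV) _ ha'
    have h6 : v' * z = z * v' := h.vcomm hv' (h.Z_le hz)
    have haa : a⁻¹ = a := by
      refine inv_eq_of_mul_eq_one_left ?_
      have h7 := mem_cj.1 (cj_mono g h.Z_le (hay z hz))
      have h8 := h.sqm h7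
      calc a * a = g * (g⁻¹ * a * g * (g⁻¹ * a * g)) * g⁻¹ := by group
        _ = 1 := by rw [h8]; group
    have e1 : w' * z * w'⁻¹ = z * (v' * a * v'⁻¹) := by
      calc w' * z * w'⁻¹ = v' * w * (v'⁻¹ * z * v') * w⁻¹ * v'⁻¹ := by rw [hw']; group
        _ = v' * w * z * w⁻¹ * v'⁻¹ := by rw [mul_assoc v'⁻¹ z v', ← h6]; group
        _ = (v' * z) * a * v'⁻¹ := by rw [ha]; group
        _ = z * (v' * a * v'⁻¹) := by rw [h6]; group
    calc w * w' * z * (w * w')⁻¹ = w * (w' * z * w'⁻¹) * w⁻¹ := by group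
      _ = w * z * (v' * a * v'⁻¹) * w⁻¹ := by rw [e1]; group
      _ = w * z * w⁻¹ * (w * (v' * a * v'⁻¹)) * w⁻¹ := by group
      _ = w * z * w⁻¹ * (v' * a * v'⁻¹) := by rw [← h5]; group
      _ = z * (a * (v' * a * v'⁻¹)) := by rw [ha]; group
      _ = z * (a⁻¹ * (v' * a * v'⁻¹)) := by rw [haa]
  have hcZ : ∀ z ∈ zc (S : Subgroup G),
      (z⁻¹ * (w * z * w⁻¹))⁻¹ * (v' * (z⁻¹ * (w * z * w⁻¹)) * v'⁻¹) ∈ zc (S : Subgroup G) := by
    intro z hz
    have h5 := h.act _ (inv_mem (hOS (hyO (hay z hz)))) v' hv'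
    convert h5 using 1
    group
  have hfix : ∀ z ∈ zc (S : Subgroup G),
      v' * (z⁻¹ * (w * z * w⁻¹)) * v'⁻¹ = z⁻¹ * (w * z * w⁻¹) := by
    intro z hz
    have h5 := two_cent_mem S hee (fun z hz => by rw [key z hz]; exact mul_mem hz (hcZ z hz)) hz
    rw [key z hz, mul_eq_left, inv_mul_eq_one] at h5
    exact h5.symm
  -- (5)
  have h5 := hfix z₀ hz₀
  refine hz₀D (h2a z₀ hz₀ (h2c _ (hay z₀ hz₀) (h.free _ (hOS (hyO (hay z₀ hz₀))) v' hv' hv'Z ?_)))
  rw [mul_inv_eq_iff_eq_mul] at h5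
  exact h5.symm

/-- **THEOREM TI-NAT**: there is no bad `D`. -/
theorem not_bad (D : Subgroup G) : ¬ Bad S V D := by
  intro hbad
  obtain ⟨D, hD, hmax⟩ := Set.exists_max_image {D : Subgroup G | Bad S V D} (fun D => Nat.card D)
    (Set.toFinite _) ⟨D, hbad⟩
  have hmax' : ∀ E, Bad S V E → Nat.card E ≤ Nat.card D := hmax
  obtain ⟨hD1, hDZ, g, hDg, hn⟩ := hD
  have hlt : ∃ z ∈ zc (S : Subgroup G), z ∉ D := by
    by_contra hcon
    push Not at hcon
    have h1 : zc (S : Subgroup G) ≤ D := hcon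
    exact hn (h.comm_point (h1.trans hDg))
  have h1 := h.core hD1 hDZ hmax' hlt
  refine hn (h.comm_of_le hDZ hDg h1 ?_)
  have h2 : cj g⁻¹ D ≤ zc (S : Subgroup G) := by rw [cj_le_iff, inv_inv]; exact hDg
  have h3 := h.core (D := cj g⁻¹ D) (cj_ne_bot hD1) h2 (fun E hE => by rw [card_cj]; exact hmax' E hE) (by
    by_contra hcon
    push Not at hcon
    have h4 : Nat.card (zc (S : Subgroup G)) ≤ Nat.card (cj g⁻¹ D) := Subgroup.card_le_of_le hcon
    rw [card_cj] at h4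
    obtain ⟨z, hz, hzD⟩ := hlt
    exact hzD ((Subgroup.eq_of_le_of_card_ge hDZ h4) ▸ hz))
  have h4 := cj_mono g h3
  rwa [← o2_cj, cj_centralizer, cj_cj_inv] at h4

/-- **Lines on points above `D ≠ 1` commute.** -/
theorem ti {D : Subgroup G} (hD : D ≠ ⊥) {a b : G} (ha : D ≤ cj a (zc (S : Subgroup G)))
    (hb : D ≤ cj b (zc (S : Subgroup G))) : cj a V ≤ centralizer ((cj b V : Subgroup G) : Set G) := by
  by_contra hcon
  exact h.not_bad _ (bad_of hD ha hb hcon)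

/-- **`V ≤ O₂(C_G(D))` for all `1 ≠ D ≤ Z`.** -/
theorem le_o2 {D : Subgroup G} (hD : D ≠ ⊥) (hDZ : D ≤ zc (S : Subgroup G)) :
    V ≤ o2 (centralizer (D : Set G)) := by
  intro v hv
  by_contra hvO
  have hVX : V ≤ centralizer (D : Set G) := h.comm.trans (centralizer_le (hDZ.trans h.Z_le))
  obtain ⟨g, hg, hn⟩ := exists_not_comm h.sq hVX hv hvO
  have ht : g⁻¹ * v * g ∈ centralizer (D : Set G) := mul_mem (mul_mem (inv_mem hg) (hVX hv)) hg
  have h1 := h.ti hD (a := 1) (b := g⁻¹ * v * g) (by rw [cj_one]; exact hDZ) (by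
    have := cj_mono (g⁻¹ * v * g) hDZ
    rwa [cj_eq_of_mem_normalizer (centralizer_le_normalizer _ ht)] at this)
  rw [cj_one] at h1
  exact hn h1

end NLine

end Cfsg.Agent.Omega.NO3S.TINat

end

section


/-!
# The trace lemma (helper7, bb OMEGA #18484 (TR); Gaschütz)

* `exists_trace` : `T ≤ X` of odd index, `X` normalises the elementary abelian 2-group `U`: the trace
  `C_U(T) → C_U(X)`, the identity on `C_U(X)`, equivariant for the elements normalising `T`, `X`, `U`;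
* `cent_le` : **LEMMA G.** if the 2-group `S` normalises `X` and `U`, `S ∩ X` has odd index in `X` and
  `C_U(S) ≤ C(X)` then `C_U(S ∩ X) ≤ C(X)`.
-/

set_option autoImplicit false

namespace Cfsg.Agent.Omega.NO3S.Tens.Trace

open Subgroup Cfsg Cfsg.Agent.ZN Cfsg.Agent.ZN.ChoiceBase Cfsg.Agent.ZN.ChoiceSit
open Cfsg.Agent.Omega.NO3b.TI
open Cfsg.Agent.Omega.NO3S.NotFF (le_normalizer_of_forall conj_mem)

universe u

variable {G : Type u} [Group G]

/-- `U` as a commutative group -/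
abbrev cg (U : Subgroup G) (hc : ∀ u ∈ U, ∀ w ∈ U, u * w = w * u) : CommGroup U :=
  { (inferInstance : Group U) with mul_comm := fun a b => Subtype.ext (hc a a.2 b b.2) }

/-- conjugation -/
def cU {U : Subgroup G} {x : G} (hx : x ∈ normalizer (U : Set G)) : U →* U where
  toFun u := ⟨x * u * x⁻¹, (mem_normalizer_iff.1 hx u).1 u.2⟩
  map_one' := Subtype.ext (by simp)
  map_mul' a b := Subtype.ext (by
    change x * ((a : G) * b) * x⁻¹ = x * a * x⁻¹ * (x * b * x⁻¹)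
    group)

theorem exists_trace [Finite G] {U T X : Subgroup G} (hTX : T ≤ X)
    (hc : ∀ u ∈ U, ∀ w ∈ U, u * w = w * u) (hsq : ∀ u ∈ U, u * u = 1)
    (hXU : X ≤ normalizer (U : Set G)) (hodd : ¬ 2 ∣ T.relIndex X) :
    ∃ τ : G → G, (∀ u ∈ U ⊓ centralizer (T : Set G), τ u ∈ U) ∧
      (∀ u ∈ U ⊓ centralizer (T : Set G), ∀ x ∈ X, x * τ u * x⁻¹ = τ u) ∧
      (∀ u ∈ U ⊓ centralizer (T : Set G), ∀ v ∈ U ⊓ centralizer (T : Set G), τ (u * v) = τ u * τ v) ∧
      (∀ u ∈ U ⊓ centralizer (X : Set G), τ u = u) ∧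
      (∀ s, s ∈ normalizer (X : Set G) → s ∈ normalizer (T : Set G) → s ∈ normalizer (U : Set G) →
        ∀ u ∈ U ⊓ centralizer (T : Set G), τ (s * u * s⁻¹) = s * τ u * s⁻¹) := by
  classical
  let _ : CommGroup U := cg U hc
  let _ : Fintype (X ⧸ T.subgroupOf X) := Fintype.ofFinite _
  -- the function on the cosets
  have hex : ∀ u : G, u ∈ U ⊓ centralizer (T : Set G) → ∃ f : X ⧸ T.subgroupOf X → U,
      ∀ x : X, (f (QuotientGroup.mk x) : G) = x * u * (x : G)⁻¹ := by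
    intro u hu
    refine ⟨Quotient.lift (fun x : X => (⟨x * u * (x : G)⁻¹, (mem_normalizer_iff.1 (hXU x.2) u).1 hu.1⟩ : U))
      ?_, fun x => rfl⟩
    intro x y hxy
    have h1 : (x : G)⁻¹ * y ∈ T :=
      mem_subgroupOf.1 ((QuotientGroup.leftRel_apply (s := T.subgroupOf X)).1 hxy)
    have h2 := mem_centralizer_iff.1 hu.2 _ h1
    apply Subtype.ext
    change (x : G) * u * (x : G)⁻¹ = y * u * (y : G)⁻¹
    have h3 : (y : G) = x * ((x : G)⁻¹ * y) := by group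
    rw [h3]
    calc (x : G) * u * (x : G)⁻¹ = x * (u * ((x : G)⁻¹ * y)) * ((x : G)⁻¹ * y)⁻¹ * (x : G)⁻¹ := by group
      _ = x * (((x : G)⁻¹ * y) * u) * ((x : G)⁻¹ * y)⁻¹ * (x : G)⁻¹ := by rw [h2]
      _ = _ := by group
  choose! f hf using hex
  have huniq : ∀ u (hu : u ∈ U ⊓ centralizer (T : Set G)) (g : X ⧸ T.subgroupOf X → U),
      (∀ x : X, (g (QuotientGroup.mk x) : G) = x * u * (x : G)⁻¹) → g = f u := by
    intro u hu g hg
    funext q
    obtain ⟨x, rfl⟩ := QuotientGroup.mk_surjective q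
    exact Subtype.ext ((hg x).trans (hf u hu x).symm)
  refine ⟨fun u => ((∏ q, f u q : U) : G), ?_, ?_, ?_, ?_, ?_⟩
  · intro u _
    exact (∏ q, f u q : U).2
  · intro u hu x hx
    have h1 : cU (hXU hx) (∏ q, f u q) = ∏ q, f u q := by
      rw [map_prod]
      refine Fintype.prod_equiv (MulAction.toPerm (⟨x, hx⟩ : X)) _ _ fun q => ?_
      obtain ⟨y, rfl⟩ := QuotientGroup.mk_surjective q
      apply Subtype.ext
      have h2 : (MulAction.toPerm (⟨x, hx⟩ : X)) (QuotientGroup.mk y : X ⧸ T.subgroupOf X) =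
        QuotientGroup.mk (⟨x, hx⟩ * y) := rfl
      rw [h2, hf u hu]
      change x * (f u (QuotientGroup.mk y) : G) * x⁻¹ = _
      rw [hf u hu]
      change x * (y * u * (y : G)⁻¹) * x⁻¹ = (x * y) * u * (x * (y : G))⁻¹
      group
    exact congrArg Subtype.val h1
  · intro u hu v hv
    have h1 : f (u * v) = fun q => f u q * f v q := by
      symm
      refine huniq _ (mul_mem hu hv) _ fun x => ?_
      change (f u (QuotientGroup.mk x) : G) * (f v (QuotientGroup.mk x) : G) = _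
      rw [hf u hu, hf v hv]
      group
    change ((∏ q, f (u * v) q : U) : G) = _
    rw [h1, Finset.prod_mul_distrib]
    rfl
  · intro u hu
    have hu' : u ∈ U ⊓ centralizer (T : Set G) := ⟨hu.1, centralizer_le (SetLike.coe_subset_coe.2 hTX) hu.2⟩
    have h1 : ∀ q, f u q = ⟨u, hu.1⟩ := by
      intro q
      obtain ⟨x, rfl⟩ := QuotientGroup.mk_surjective q
      apply Subtype.ext
      rw [hf u hu', mem_centralizer_iff.1 hu.2 x x.2]
      group
    change ((∏ q, f u q : U) : G) = u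
    rw [Finset.prod_congr rfl fun q _ => h1 q, Finset.prod_const]
    have h2 : (Finset.univ : Finset (X ⧸ T.subgroupOf X)).card = T.relIndex X := by
      rw [Finset.card_univ, ← Nat.card_eq_fintype_card]
      rfl
    rw [h2]
    obtain ⟨m, hm⟩ : ∃ m, T.relIndex X = 2 * m + 1 := by
      rcases Nat.even_or_odd' (T.relIndex X) with ⟨m, h | h⟩
      · exact absurd ⟨m, h⟩ hodd
      · exact ⟨m, h⟩
    rw [hm, pow_add, pow_mul, pow_one, pow_two]
    have h3 : ((⟨u, hu.1⟩ : U) * ⟨u, hu.1⟩) = 1 := Subtype.ext (hsq u hu.1)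
    rw [h3, one_pow, one_mul]
  · intro s hsX hsT hsU u hu
    have hu2 : s * u * s⁻¹ ∈ U ⊓ centralizer (T : Set G) := by
      refine ⟨(mem_normalizer_iff.1 hsU u).1 hu.1, mem_centralizer_iff.2 fun t ht => ?_⟩
      have h1 : s⁻¹ * t * s ∈ T := by
        have := (mem_normalizer_iff.1 (inv_mem hsT) t).1 ht
        rwa [inv_inv] at this
      have h2 := mem_centralizer_iff.1 hu.2 _ h1
      calc t * (s * u * s⁻¹) = s * ((s⁻¹ * t * s) * u) * s⁻¹ := by group
        _ = s * (u * (s⁻¹ * t * s)) * s⁻¹ := by rw [h2]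
        _ = _ := by group
    -- the permutation of the cosets
    obtain ⟨σ, hσ⟩ : ∃ σ : (X ⧸ T.subgroupOf X) ≃ (X ⧸ T.subgroupOf X), ∀ x y : X,
        (y : G) = s * x * s⁻¹ → σ (QuotientGroup.mk x) = QuotientGroup.mk y := by
      have key : ∀ r : G, r ∈ normalizer (X : Set G) → r ∈ normalizer (T : Set G) →
          ∃ σ : (X ⧸ T.subgroupOf X) → (X ⧸ T.subgroupOf X), ∀ x y : X,
          (y : G) = r * x * r⁻¹ → σ (QuotientGroup.mk x) = QuotientGroup.mk y := by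
        intro r hrX hrT
        refine ⟨Quotient.map (fun x : X => (⟨r * x * r⁻¹, (mem_normalizer_iff.1 hrX x).1 x.2⟩ : X)) ?_, ?_⟩
        · intro x y hxy
          have h1 : (x : G)⁻¹ * y ∈ T :=
            mem_subgroupOf.1 ((QuotientGroup.leftRel_apply (s := T.subgroupOf X)).1 hxy)
          refine (QuotientGroup.leftRel_apply (s := T.subgroupOf X)).2 (mem_subgroupOf.2 ?_)
          change (r * (x : G) * r⁻¹)⁻¹ * (r * y * r⁻¹) ∈ T
          have h2 := (mem_normalizer_iff.1 hrT _).1 h1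
          have e : (r * (x : G) * r⁻¹)⁻¹ * (r * y * r⁻¹) = r * ((x : G)⁻¹ * y) * r⁻¹ := by group
          rwa [e]
        · intro x y hxy
          have : y = ⟨r * x * r⁻¹, (mem_normalizer_iff.1 hrX x).1 x.2⟩ := Subtype.ext hxy
          rw [this]
          rfl
      obtain ⟨σ, hσ⟩ := key s hsX hsT
      obtain ⟨ρ, hρ⟩ := key s⁻¹ (inv_mem hsX) (inv_mem hsT)
      refine ⟨⟨σ, ρ, ?_, ?_⟩, hσ⟩
      · intro q
        obtain ⟨x, rfl⟩ := QuotientGroup.mk_surjective q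
        rw [hσ x ⟨s * x * s⁻¹, (mem_normalizer_iff.1 hsX x).1 x.2⟩ rfl]
        refine hρ _ _ ?_
        change (x : G) = s⁻¹ * (s * x * s⁻¹) * s⁻¹⁻¹
        group
      · intro q
        obtain ⟨x, rfl⟩ := QuotientGroup.mk_surjective q
        rw [hρ x ⟨s⁻¹ * x * s⁻¹⁻¹, (mem_normalizer_iff.1 (inv_mem hsX) x).1 x.2⟩ rfl]
        refine hσ _ _ ?_
        change (x : G) = s * (s⁻¹ * x * s⁻¹⁻¹) * s⁻¹
        group
    have h1 : cU hsU (∏ q, f u q) = ∏ q, f (s * u * s⁻¹) q := by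
      rw [map_prod]
      refine Fintype.prod_equiv σ _ _ fun q => ?_
      obtain ⟨x, rfl⟩ := QuotientGroup.mk_surjective q
      rw [hσ x ⟨s * x * s⁻¹, (mem_normalizer_iff.1 hsX x).1 x.2⟩ rfl]
      apply Subtype.ext
      rw [hf _ hu2]
      change s * (f u (QuotientGroup.mk x) : G) * s⁻¹ = _
      rw [hf u hu]
      change s * (x * u * (x : G)⁻¹) * s⁻¹ = (s * x * s⁻¹) * (s * u * s⁻¹) * (s * (x : G) * s⁻¹)⁻¹
      group
    exact (congrArg Subtype.val h1).symm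

/-- **LEMMA G** -/
theorem cent_le [Finite G] {S X U : Subgroup G} (hS : IsPGroup 2 S) (hSX : S ≤ normalizer (X : Set G))
    (hodd : ¬ 2 ∣ (S ⊓ X).relIndex X)
    (hc : ∀ u ∈ U, ∀ w ∈ U, u * w = w * u) (hsq : ∀ u ∈ U, u * u = 1)
    (hXU : X ≤ normalizer (U : Set G)) (hSU : S ≤ normalizer (U : Set G))
    (hfix : U ⊓ centralizer (S : Set G) ≤ centralizer (X : Set G)) :
    U ⊓ centralizer ((S ⊓ X : Subgroup G) : Set G) ≤ centralizer (X : Set G) := by
  obtain ⟨τ, hτU, hτX, hτm, hτ1, hτs⟩ := exists_trace (U := U) (T := S ⊓ X) (X := X) inf_le_right hc hsq hXU hodd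
  have hτC : ∀ u ∈ U ⊓ centralizer ((S ⊓ X : Subgroup G) : Set G), τ u ∈ U ⊓ centralizer (X : Set G) := by
    intro u hu
    refine ⟨hτU u hu, mem_centralizer_iff.2 fun x hx => ?_⟩
    have := hτX u hu x hx
    exact mul_inv_eq_iff_eq_mul.1 this
  have hST : S ≤ normalizer ((S ⊓ X : Subgroup G) : Set G) := by
    intro s hs
    refine mem_normalizer_iff.2 fun t => ?_
    constructor
    · rintro ⟨h1, h2⟩
      exact ⟨S.mul_mem (S.mul_mem hs h1) (S.inv_mem hs), (mem_normalizer_iff.1 (hSX hs) t).1 h2⟩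
    · rintro ⟨h1, h2⟩
      refine ⟨?_, (mem_normalizer_iff.1 (hSX hs) t).2 h2⟩
      have h3 := S.mul_mem (S.mul_mem (S.inv_mem hs) h1) hs
      have e : s⁻¹ * (s * t * s⁻¹) * s = t := by group
      rwa [e] at h3
  -- the kernel of `τ`
  let K : Subgroup G :=
    { carrier := {u | u ∈ U ⊓ centralizer ((S ⊓ X : Subgroup G) : Set G) ∧ τ u = 1}
      one_mem' := ⟨(U ⊓ centralizer ((S ⊓ X : Subgroup G) : Set G)).one_mem,
        hτ1 1 (U ⊓ centralizer (X : Set G)).one_mem⟩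
      mul_mem' := by
        rintro a b ⟨ha, ha1⟩ ⟨hb, hb1⟩
        exact ⟨mul_mem ha hb, by rw [hτm a ha b hb, ha1, hb1, one_mul]⟩
      inv_mem' := by
        rintro a ⟨ha, ha1⟩
        have h1 : a⁻¹ = a := inv_eq_of_mul_eq_one_left (hsq a ha.1)
        rw [h1]
        exact ⟨ha, ha1⟩ }
  have hKm : ∀ u, u ∈ K ↔ u ∈ U ⊓ centralizer ((S ⊓ X : Subgroup G) : Set G) ∧ τ u = 1 := fun _ => Iff.rfl
  have hSC : S ≤ normalizer ((centralizer ((S ⊓ X : Subgroup G) : Set G) : Subgroup G) : Set G) := by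
    refine le_normalizer_of_forall fun s hs u hu => mem_centralizer_iff.2 fun t ht => ?_
    have h1 : s⁻¹ * t * s ∈ S ⊓ X := by
      have := (mem_normalizer_iff.1 (inv_mem (hST hs)) t).1 ht
      rwa [inv_inv] at this
    have h2 := mem_centralizer_iff.1 hu _ h1
    calc t * (s * u * s⁻¹) = s * ((s⁻¹ * t * s) * u) * s⁻¹ := by group
      _ = s * (u * (s⁻¹ * t * s)) * s⁻¹ := by rw [h2]
      _ = _ := by group
  have hKbot : K = ⊥ := by
    by_contra hne
    have hK2 : IsPGroup 2 K := by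
      intro x
      refine ⟨1, Subtype.ext ?_⟩
      have h1 := hsq x ((hKm x).1 x.2).1.1
      simpa [pow_two] using h1
    have hSK : S ≤ normalizer (K : Set G) := by
      refine le_normalizer_of_forall fun s hs u hu => ?_
      obtain ⟨hu1, hu2⟩ := (hKm u).1 hu
      refine (hKm _).2 ⟨⟨(mem_normalizer_iff.1 (hSU hs) u).1 hu1.1, (mem_normalizer_iff.1 (hSC hs) u).1 hu1.2⟩, ?_⟩
      rw [hτs s (hSX hs) (hST hs) (hSU hs) u hu1, hu2]
      group
    obtain ⟨c, hc1, hc2, hc3⟩ := Lin.exists_fixed hK2 hne hS hSK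
    obtain ⟨h1, h2⟩ := (hKm c).1 hc1
    have h3 : c ∈ U ⊓ centralizer (X : Set G) := ⟨h1.1, hfix ⟨h1.1, hc3⟩⟩
    rw [hτ1 c h3] at h2
    exact hc2 h2
  intro u hu
  have h1 := hτC u hu
  have h2 : u * τ u ∈ K := by
    have h3 : τ u ∈ U ⊓ centralizer ((S ⊓ X : Subgroup G) : Set G) :=
      ⟨h1.1, centralizer_le (SetLike.coe_subset_coe.2 inf_le_right) h1.2⟩
    refine (hKm _).2 ⟨mul_mem hu h3, ?_⟩
    rw [hτm u hu _ h3, hτ1 _ h1]
    exact hsq _ h1.1
  rw [hKbot, mem_bot] at h2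
  have h4 : u = (τ u)⁻¹ := eq_inv_of_mul_eq_one_left h2
  rw [h4]
  exact inv_mem h1.2

end Cfsg.Agent.Omega.NO3S.Tens.Trace

end

section


/-!
# `V = N ⊗ Y` (helper7, bb OMEGA #18484): SETTING, (NM), (C1), (C2), W

`V = {ζ a · η b}`, `Z = ζ(Y)`, `S` acts on `V` by `η y ↦ η y · ζ(c y)`, `c ∈ F`, `dim_F Y ≥ 2`.

* `NY S V F ζ η` : this situation;
* `NY.nline` : it is an `NLine` (so THEOREM TI-NAT applies);
* `NY.cent_le` : **(C1)** `C_X(v) ≤ C(V)` for `v ∈ V - Z`, `S ≤ X ≤ C(Z)`;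
* `NY.two` : **(C2)** `c ∈ X`, `[v, c] ∈ Z`: `c` acts on `V` as an element of `S`;
* `NY.kz_cl` : `C_X(W/Z) = C_X(⟨v^X⟩Z/Z)`, `W = ⟨V^X⟩`;
* `Amal.exists_crit` : a critical pair `(W, W^g)`; `Amal.inf_Z` : `Z ∩ Z^g = 1`.
-/

set_option autoImplicit false

namespace Cfsg.Agent.Omega.NO3S.Tens

open Subgroup Cfsg Cfsg.Agent.ZN Cfsg.Agent.ZN.ChoiceBase Cfsg.Agent.ZN.ChoiceSit
open Cfsg.Agent.Omega.NO3b.EZero
open Cfsg.Agent.Omega.NO3S.NotFF (le_normalizer_of_forall conj_mem)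
open Cfsg.Agent.Omega.NO3S.TINat (NLine)

universe u

variable {G : Type u} [Group G]

theorem card_inf_relIndex (A C : Subgroup G) : C.relIndex A * Nat.card ↥(A ⊓ C) = Nat.card A := by
  have e := relIndex_inf_mul_relIndex (⊥ : Subgroup G) C A
  rw [relIndex_bot_left, bot_inf_eq, relIndex_bot_left, mul_comm, inf_comm] at e
  exact e

theorem syl_inf [Finite G] {T H N : Subgroup G} (hT : Syl T H) (hN : N ≤ H)
    (hn : H ≤ normalizer (N : Set G)) : Syl (T ⊓ N) N := by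
  refine ⟨inf_le_right, hT.2.1.to_le inf_le_left, ?_⟩
  intro R hR h2 hTR
  obtain ⟨S, hS, hRS⟩ := exists_syl h2 (hR.trans hN)
  obtain ⟨x, hx, e⟩ := syl_conj hS hT
  have h1 : cj x R ≤ T ⊓ N := by
    refine le_inf ((cj_mono x hRS).trans e.le) ?_
    have := cj_mono x hR
    rwa [cj_eq_of_mem_normalizer (hn hx)] at this
  have h3 := Subgroup.card_le_of_le h1
  rw [card_cj] at h3
  exact (Subgroup.eq_of_le_of_card_ge hTR h3).symm

theorem norm_o2 (K : Subgroup G) : normalizer (K : Set G) ≤ normalizer (o2 K : Set G) := by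
  intro n hn
  rw [mem_normalizer_iff_cj, ← ChoiceSit.o2_cj, mem_normalizer_iff_cj.1 hn]

/-- `{c ∈ X ∩ C(Z) | [c, w] ∈ Z for w ∈ W}` -/
def kz (X Z : Subgroup G) (W : Set G) : Subgroup G where
  carrier := {c | c ∈ X ∧ c ∈ centralizer (Z : Set G) ∧ ∀ w ∈ W, c * w * c⁻¹ * w⁻¹ ∈ Z}
  one_mem' := ⟨one_mem _, one_mem _, fun w _ => by
    have e : 1 * w * 1⁻¹ * w⁻¹ = 1 := by group
    rw [e]; exact one_mem _⟩
  mul_mem' := by
    rintro c d ⟨hc, hc', hc2⟩ ⟨hd, hd', hd2⟩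
    refine ⟨mul_mem hc hd, mul_mem hc' hd', fun w hw => ?_⟩
    have h1 := mem_centralizer_iff.1 hc' _ (hd2 w hw)
    have e : c * d * w * (c * d)⁻¹ * w⁻¹ = (c * (d * w * d⁻¹ * w⁻¹)) * c⁻¹ * (c * w * c⁻¹ * w⁻¹) := by group
    rw [e, ← h1, mul_inv_cancel_right]
    exact mul_mem (hd2 w hw) (hc2 w hw)
  inv_mem' := by
    rintro c ⟨hc, hc', hc2⟩
    refine ⟨inv_mem hc, inv_mem hc', fun w hw => ?_⟩
    have h1 := mem_centralizer_iff.1 (inv_mem hc') _ (inv_mem (hc2 w hw))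
    have e : c⁻¹ * w * c⁻¹⁻¹ * w⁻¹ = c⁻¹ * (c * w * c⁻¹ * w⁻¹)⁻¹ * c := by group
    rw [e, ← h1, inv_mul_cancel_right]
    exact inv_mem (hc2 w hw)

theorem mem_kz {X Z : Subgroup G} {W : Set G} {c : G} :
    c ∈ kz X Z W ↔ c ∈ X ∧ c ∈ centralizer (Z : Set G) ∧ ∀ w ∈ W, c * w * c⁻¹ * w⁻¹ ∈ Z := Iff.rfl

theorem kz_le {X Z : Subgroup G} {W : Set G} : kz X Z W ≤ X := fun _ hc => hc.1

/-- The situation: `V = N ⊗ Y`. -/
structure NY [Finite G] (S : Sylow 2 G) (V : Subgroup G) (F : Type*) {Y : Type*} [Field F] [AddCommGroup Y]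
    [Module F Y] (ζ η : Y → G) : Prop where
  char2 : IsCharacteristicTwoType G
  ζ_add : ∀ a b, ζ (a + b) = ζ a * ζ b
  η_add : ∀ a b, η (a + b) = η a * η b
  ζ_one : ∀ a, ζ a = 1 → a = 0
  mem_Z : ∀ g, g ∈ zc (S : Subgroup G) ↔ ∃ a, ζ a = g
  η_Z : ∀ y, η y ∈ zc (S : Subgroup G) → y = 0
  mem_V : ∀ g, g ∈ V ↔ ∃ a b, ζ a * η b = g
  low : V ≤ o2 (centralizer (zc (S : Subgroup G) : Set G))
  act : ∀ s ∈ (S : Subgroup G), ∃ c : F, ∀ y : Y, s * η y * s⁻¹ = η y * ζ (c • y)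
  full : ∀ c : F, ∃ s ∈ (S : Subgroup G), ∀ y : Y, s * η y * s⁻¹ = η y * ζ (c • y)
  rank : 2 ≤ Module.finrank F Y

namespace NY

variable [Finite G] {S : Sylow 2 G} {V : Subgroup G} {F : Type*} {Y : Type*} [Field F] [AddCommGroup Y]
  [Module F Y] {ζ η : Y → G} (h : NY S V F ζ η)
include h

theorem ζ_zero : ζ 0 = 1 := by
  have := h.ζ_add 0 0
  rw [add_zero] at this
  exact left_eq_mul.1 this

theorem η_zero : η 0 = 1 := by
  have := h.η_add 0 0
  rw [add_zero] at this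
  exact left_eq_mul.1 this

theorem ζ_mem (a : Y) : ζ a ∈ zc (S : Subgroup G) := (h.mem_Z _).2 ⟨a, rfl⟩

theorem η_mem (b : Y) : η b ∈ V := (h.mem_V _).2 ⟨0, b, by rw [h.ζ_zero, one_mul]⟩

theorem Z_le : zc (S : Subgroup G) ≤ V := by
  intro z hz
  obtain ⟨a, rfl⟩ := (h.mem_Z z).1 hz
  exact (h.mem_V _).2 ⟨a, 0, by rw [h.η_zero, mul_one]⟩

theorem add_self (a : Y) : a + a = 0 := by
  refine h.ζ_one _ ?_
  rw [h.ζ_add, ← pow_two]
  exact (ChoiceBase.mem_zc.1 (h.ζ_mem a)).2.1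

theorem ζ_sq (a : Y) : ζ a * ζ a = 1 := by rw [← h.ζ_add, h.add_self, h.ζ_zero]

theorem η_sq (a : Y) : η a * η a = 1 := by rw [← h.η_add, h.add_self, h.η_zero]

theorem ζ_inv (a : Y) : (ζ a)⁻¹ = ζ a := inv_eq_of_mul_eq_one_left (h.ζ_sq a)

theorem η_inv (a : Y) : (η a)⁻¹ = η a := inv_eq_of_mul_eq_one_left (h.η_sq a)

theorem ζ_inj {a b : Y} (hab : ζ a = ζ b) : a = b := by
  have h1 : ζ (a + b) = 1 := by rw [h.ζ_add, hab, h.ζ_sq]
  have h2 := h.ζ_one _ h1
  rw [add_eq_zero_iff_eq_neg] at h2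
  rw [h2, neg_eq_iff_add_eq_zero]
  exact h.add_self b

omit h [Finite G] in
theorem Z_central {s z : G} (hs : s ∈ (S : Subgroup G)) (hz : z ∈ zc (S : Subgroup G)) : s * z = z * s :=
  (ChoiceBase.mem_zc.1 hz).2.2 s hs

theorem V_le_S : V ≤ (S : Subgroup G) := h.low.trans (TINat.NLine.o2_le_S le_rfl)

theorem comm_ζη (a b : Y) : ζ a * η b = η b * ζ a :=
  (Z_central (h.V_le_S (h.η_mem b)) (h.ζ_mem a)).symm

theorem mem_Z_iff {a b : Y} : ζ a * η b ∈ zc (S : Subgroup G) ↔ b = 0 := by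
  constructor
  · intro h1
    exact h.η_Z b (((zc (S : Subgroup G)).mul_mem_cancel_left (h.ζ_mem a)).1 h1)
  · rintro rfl
    rw [h.η_zero, mul_one]
    exact h.ζ_mem a

theorem sq : ∀ v ∈ V, v ^ 2 = 1 := by
  intro v hv
  obtain ⟨a, b, rfl⟩ := (h.mem_V v).1 hv
  rw [pow_two]
  calc ζ a * η b * (ζ a * η b) = ζ a * (η b * ζ a) * η b := by group
    _ = ζ a * (ζ a * η b) * η b := by rw [h.comm_ζη]
    _ = (ζ a * ζ a) * (η b * η b) := by group
    _ = 1 := by rw [h.ζ_sq, h.η_sq, one_mul]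

theorem comm : V ≤ centralizer (V : Set G) := by
  intro v hv
  rw [mem_centralizer_iff]
  intro w hw
  have h1 : w * v * (w * v) = 1 := by rw [← pow_two]; exact h.sq _ (mul_mem hw hv)
  have h2 : v * v = 1 := by rw [← pow_two]; exact h.sq _ hv
  have h3 : w * w = 1 := by rw [← pow_two]; exact h.sq _ hw
  calc w * v = w * v * (w * v) * (v * w) := by
        calc w * v = w * v * (w * (v * v) * w) := by rw [h2, mul_one, h3, mul_one]
          _ = _ := by group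
    _ = v * w := by rw [h1, one_mul]

theorem act_V {s : G} {c : F} (hs : s ∈ (S : Subgroup G)) (hc : ∀ y : Y, s * η y * s⁻¹ = η y * ζ (c • y)) (a b : Y) :
    s * (ζ a * η b) * s⁻¹ = ζ a * η b * ζ (c • b) := by
  have h1 := Z_central hs (h.ζ_mem a)
  calc s * (ζ a * η b) * s⁻¹ = (s * ζ a) * η b * s⁻¹ := by group
    _ = (ζ a * s) * η b * s⁻¹ := by rw [h1]
    _ = ζ a * (s * η b * s⁻¹) := by group
    _ = _ := by rw [hc, mul_assoc]

theorem norm : (S : Subgroup G) ≤ normalizer (V : Set G) := by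
  refine le_normalizer_of_forall fun s hs v hv => ?_
  obtain ⟨a, b, rfl⟩ := (h.mem_V v).1 hv
  obtain ⟨c, hc⟩ := h.act s hs
  rw [h.act_V hs hc]
  exact mul_mem hv (h.Z_le (h.ζ_mem _))

theorem card_V : Nat.card V = Nat.card (zc (S : Subgroup G)) * Nat.card (zc (S : Subgroup G)) := by
  rw [← Nat.card_prod]
  have hz : ∀ z : (zc (S : Subgroup G)), ∃ a, ζ a = z := fun z => (h.mem_Z _).1 z.2
  choose f hf using hz
  refine (Nat.card_congr (Equiv.ofBijective (fun p : (zc (S : Subgroup G)) × (zc (S : Subgroup G)) =>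
    (⟨ζ (f p.1) * η (f p.2), (h.mem_V _).2 ⟨_, _, rfl⟩⟩ : V)) ⟨?_, ?_⟩)).symm
  · rintro ⟨p, q⟩ ⟨r, s⟩ hpq
    have h1 : ζ (f p) * η (f q) = ζ (f r) * η (f s) := congrArg Subtype.val hpq
    have h2 : ζ (f r + f p) * η (f q + f s) = 1 := by
      rw [h.ζ_add, h.η_add]
      calc ζ (f r) * ζ (f p) * (η (f q) * η (f s)) = ζ (f r) * (ζ (f p) * η (f q)) * η (f s) := by group
        _ = ζ (f r) * (ζ (f r) * η (f s)) * η (f s) := by rw [h1]
        _ = (ζ (f r) * ζ (f r)) * (η (f s) * η (f s)) := by group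
        _ = 1 := by rw [h.ζ_sq, h.η_sq, one_mul]
    have h3 : f q + f s = 0 := h.mem_Z_iff.1 (h2 ▸ one_mem _)
    have h4 : f r + f p = 0 := by
      rw [h3, h.η_zero, mul_one] at h2
      exact h.ζ_one _ h2
    have h5 : f q = f s := by
      have := h.add_self (f s)
      exact add_right_cancel (h3.trans this.symm)
    have h6 : f r = f p := by
      have := h.add_self (f p)
      exact add_right_cancel (h4.trans this.symm)
    have h7 : p = r := Subtype.ext (by rw [← hf p, ← hf r, h6])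
    have h8 : q = s := Subtype.ext (by rw [← hf q, ← hf s, h5])
    rw [h7, h8]
  · rintro ⟨v, hv⟩
    obtain ⟨a, b, rfl⟩ := (h.mem_V v).1 hv
    have e : ∀ a, f ⟨ζ a, h.ζ_mem a⟩ = a := fun a => h.ζ_inj (hf _)
    exact ⟨(⟨ζ a, h.ζ_mem a⟩, ⟨ζ b, h.ζ_mem b⟩), Subtype.ext (by simp only [e])⟩

theorem act_mem (s : G) (hs : s ∈ (S : Subgroup G)) (v : G) (hv : v ∈ V) :
    s * v * s⁻¹ * v⁻¹ ∈ zc (S : Subgroup G) := by
  obtain ⟨a, b, rfl⟩ := (h.mem_V v).1 hv
  obtain ⟨c, hc⟩ := h.act s hs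
  rw [h.act_V hs hc, (Z_central (h.V_le_S hv) (h.ζ_mem _)), mul_inv_cancel_right]
  exact h.ζ_mem _

theorem free (s : G) (hs : s ∈ (S : Subgroup G)) (v : G) (hv : v ∈ V) (hvZ : v ∉ zc (S : Subgroup G))
    (hc : s * v = v * s) : s ∈ centralizer (V : Set G) := by
  obtain ⟨a, b, rfl⟩ := (h.mem_V v).1 hv
  obtain ⟨c, hc'⟩ := h.act s hs
  have h1 := h.act_V hs hc' a b
  rw [hc, mul_inv_cancel_right] at h1
  have h2 : c • b = 0 := h.ζ_one _ (left_eq_mul.1 h1)
  have h3 : c = 0 := by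
    rcases smul_eq_zero.1 h2 with h3 | h3
    · exact h3
    · exact absurd (h.mem_Z_iff.2 h3) hvZ
  rw [mem_centralizer_iff]
  intro w hw
  obtain ⟨a', b', rfl⟩ := (h.mem_V w).1 hw
  have h4 := h.act_V hs hc' a' b'
  rw [h3, zero_smul, h.ζ_zero, mul_one, mul_inv_eq_iff_eq_mul] at h4
  exact h4.symm

/-- a 2-group which normalises `V` is `S`-like -/
theorem exists_conj {R : Subgroup G} (hR : IsPGroup 2 R) (hRV : R ≤ normalizer (V : Set G)) :
    ∃ n ∈ normalizer (V : Set G), R ≤ cj n (S : Subgroup G) := by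
  obtain ⟨T, hT, hRT⟩ := exists_syl hR hRV
  obtain ⟨x, hx, hxT⟩ := syl_conj (MinSimple.EmptyTI.syl_of_le (S := S) h.norm) hT
  exact ⟨x, hx, hRT.trans hxT.ge⟩

theorem relIndex_le [Finite F] {R : Subgroup G} (hR : IsPGroup 2 R) (hRV : R ≤ normalizer (V : Set G)) :
    (centralizer (V : Set G)).relIndex R ≤ Nat.card F := by
  obtain ⟨n, hn, hRn⟩ := h.exists_conj hR hRV
  have h1 : ∀ r : R, ∃ c : F, ∀ y : Y, (n⁻¹ * r * n) * η y * (n⁻¹ * r * n)⁻¹ = η y * ζ (c • y) :=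
    fun r => h.act _ (mem_cj.1 (hRn r.2))
  choose f hf using h1
  have hV : cj n V = V := mem_normalizer_iff_cj.1 hn
  refine Nat.card_le_card_of_injective (fun q : R ⧸ (centralizer (V : Set G)).subgroupOf R => f q.out) ?_
  intro p q hpq
  have h2 : f p.out = f q.out := hpq
  rw [← QuotientGroup.out_eq' p, ← QuotientGroup.out_eq' q, QuotientGroup.eq]
  rw [mem_subgroupOf, mem_centralizer_iff]
  intro v hv
  rw [← hV] at hv
  obtain ⟨a, b, hab⟩ := (h.mem_V _).1 (mem_cj.1 hv)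
  have h3 := h.act_V (mem_cj.1 (hRn p.out.2)) (hf p.out) a b
  have h4 := h.act_V (mem_cj.1 (hRn q.out.2)) (hf q.out) a b
  rw [← h2, ← h3, hab] at h4
  have h5 : (q.out : G) * v * (q.out : G)⁻¹ = (p.out : G) * v * (p.out : G)⁻¹ := by
    have h6 := congrArg (fun t => n * t * n⁻¹) h4
    calc (q.out : G) * v * (q.out : G)⁻¹
        = n * ((n⁻¹ * q.out * n) * (n⁻¹ * v * n) * (n⁻¹ * q.out * n)⁻¹) * n⁻¹ := by group
      _ = n * ((n⁻¹ * p.out * n) * (n⁻¹ * v * n) * (n⁻¹ * p.out * n)⁻¹) * n⁻¹ := h6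
      _ = _ := by group
  change v * ((p.out : G)⁻¹ * q.out) = ((p.out : G)⁻¹ * q.out) * v
  calc v * ((p.out : G)⁻¹ * q.out) = (p.out : G)⁻¹ * ((p.out : G) * v * (p.out : G)⁻¹) * q.out := by group
    _ = (p.out : G)⁻¹ * ((q.out : G) * v * (q.out : G)⁻¹) * q.out := by rw [h5]
    _ = _ := by group

/-- `|V : C_V(b)| ≥ |Z|` for a 2-element `b ∈ N(V) - C(V)` -/
theorem le_relIndex {R : Subgroup G} (hR : IsPGroup 2 R) (hRV : R ≤ normalizer (V : Set G)) {b : G} (hb : b ∈ R)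
    (hbV : b ∉ centralizer (V : Set G)) :
    Nat.card (zc (S : Subgroup G)) ≤ (centralizer ({b} : Set G)).relIndex V := by
  obtain ⟨n, hn, hRn⟩ := h.exists_conj hR hRV
  have hV : cj n V = V := mem_normalizer_iff_cj.1 hn
  have h1 : V ⊓ centralizer ({b} : Set G) ≤ cj n (zc (S : Subgroup G)) := by
    intro v hv'
    obtain ⟨hv, hvb⟩ := mem_inf.1 hv'
    rw [mem_centralizer_singleton_iff] at hvb
    rw [mem_cj]
    by_contra hcon
    refine hbV ?_
    have h2 := h.free _ (mem_cj.1 (hRn hb)) _ (mem_cj.1 (by rw [hV]; exact hv)) hcon (by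
      calc n⁻¹ * b * n * (n⁻¹ * v * n) = n⁻¹ * (b * v) * n := by group
        _ = n⁻¹ * (v * b) * n := by rw [hvb]
        _ = _ := by group)
    have h3 : b ∈ cj n (centralizer (V : Set G)) := mem_cj.2 h2
    rwa [cj_centralizer, hV] at h3
  have h2 := Subgroup.card_le_of_le h1
  rw [card_cj] at h2
  have h3 : (centralizer ({b} : Set G)).relIndex V * Nat.card (V ⊓ centralizer ({b} : Set G) : Subgroup G) =
      Nat.card V := card_inf_relIndex _ _
  rw [h.card_V] at h3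
  have h4 : 0 < Nat.card (zc (S : Subgroup G)) := Nat.card_pos
  by_contra hcon
  push Not at hcon
  have h5 : (centralizer ({b} : Set G)).relIndex V * Nat.card (V ⊓ centralizer ({b} : Set G) : Subgroup G) <
      Nat.card (zc (S : Subgroup G)) * Nat.card (zc (S : Subgroup G)) :=
    lt_of_le_of_lt (Nat.mul_le_mul_left _ h2) (Nat.mul_lt_mul_of_pos_right hcon h4)
  omega

theorem card_Z : Nat.card (zc (S : Subgroup G)) = Nat.card Y := by
  have hz : ∀ z : (zc (S : Subgroup G)), ∃ a, ζ a = z := fun z => (h.mem_Z _).1 z.2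
  choose f hf using hz
  refine Nat.card_congr ⟨f, fun a => ⟨ζ a, h.ζ_mem a⟩, fun z => Subtype.ext (hf z), fun a => h.ζ_inj (hf _)⟩

theorem finite_Y : Finite Y :=
  Finite.of_injective (fun a => (⟨ζ a, h.ζ_mem a⟩ : zc (S : Subgroup G))) fun _ _ hab =>
    h.ζ_inj (congrArg Subtype.val hab)

theorem card_lt [Finite F] : Nat.card F < Nat.card (zc (S : Subgroup G)) := by
  have := h.finite_Y
  rw [h.card_Z, Module.natCard_eq_pow_finrank (K := F) (V := Y)]
  have h1 := h.rank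
  have h2 : 1 < Nat.card F := Finite.one_lt_card
  have h3 := Nat.pow_lt_pow_right h2 (show 1 < Module.finrank F Y by omega)
  rwa [pow_one] at h3

/-- **(NM)** -/
theorem noff [Finite F] (g : G) (h1 : V ≤ normalizer ((cj g V : Subgroup G) : Set G))
    (h2 : cj g V ≤ normalizer (V : Set G)) : V ≤ centralizer ((cj g V : Subgroup G) : Set G) := by
  have hV2 : IsPGroup 2 V := fun x => ⟨1, Subtype.ext (by simpa using h.sq x x.2)⟩
  by_contra hcon
  rw [SetLike.not_le_iff_exists] at hcon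
  obtain ⟨b, hb, hbV⟩ := hcon
  -- `|V^g : C(b)| ≥ |Z|`
  have h3 : Nat.card (zc (S : Subgroup G)) ≤ (centralizer ({b} : Set G)).relIndex (cj g V) := by
    have h4 := h.le_relIndex (R := cj g⁻¹ V) (isPGroup_cj _ hV2) (by
      have := NO3b.EZero.cj_norm (g := g⁻¹) h1
      rwa [cj_inv_cj] at this) (b := g⁻¹ * b * g) (by
        rw [mem_cj, inv_inv]
        have e : g * (g⁻¹ * b * g) * g⁻¹ = b := by group
        rwa [e]) (fun h0 => hbV (by
          have h5 : b ∈ cj g (centralizer (V : Set G)) := mem_cj.2 h0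
          rwa [cj_centralizer] at h5))
    rw [← NO3b.EZero.relIndex_cj g] at h4
    have h5 : cj g (centralizer ({g⁻¹ * b * g} : Set G)) = centralizer ({b} : Set G) := by
      ext x
      rw [mem_cj, mem_centralizer_singleton_iff, mem_centralizer_singleton_iff]
      constructor
      · intro h6
        calc x * b = g * ((g⁻¹ * x * g) * (g⁻¹ * b * g)) * g⁻¹ := by group
          _ = g * ((g⁻¹ * b * g) * (g⁻¹ * x * g)) * g⁻¹ := by rw [h6]
          _ = _ := by group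
      · intro h6
        calc (g⁻¹ * x * g) * (g⁻¹ * b * g) = g⁻¹ * (x * b) * g := by group
          _ = g⁻¹ * (b * x) * g := by rw [h6]
          _ = _ := by group
    rwa [h5] at h4
  have h4 := h.relIndex_le (isPGroup_cj g hV2) h2
  have h5 : (centralizer ({b} : Set G)).relIndex (cj g V) ≤ (centralizer (V : Set G)).relIndex (cj g V) :=
    Nat.le_of_dvd (Nat.pos_of_ne_zero index_ne_zero_of_finite)
      (relIndex_dvd_of_le_left _ (centralizer_le (Set.singleton_subset_iff.2 hb)))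
  have := h.card_lt
  omega

theorem nline [Finite F] : NLine S V where
  char2 := h.char2
  sq := h.sq
  comm := h.comm
  Z_le := h.Z_le
  norm := h.norm
  act := h.act_mem
  free := h.free
  card := h.card_V
  low := h.low
  noff := h.noff

/-! ### (C1), (C2) -/

section X

variable {X : Subgroup G}

omit h [Finite G] in
theorem cj_Z (hXZ : X ≤ centralizer (zc (S : Subgroup G) : Set G)) {x : G} (hx : x ∈ X) :
    cj x (zc (S : Subgroup G)) = zc (S : Subgroup G) :=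
  cj_eq_of_mem_normalizer (centralizer_le_normalizer _ (hXZ hx))

omit h in
/-- `O₂(X) ≥ O₂(C(Z)) ∩ X` -/
theorem o2_inf_le (hXZ : X ≤ centralizer (zc (S : Subgroup G) : Set G)) :
    o2 (centralizer (zc (S : Subgroup G) : Set G)) ⊓ X ≤ o2 X := by
  refine le_o2 ((ChoiceSit.isPGroup_o2 _).to_le inf_le_left) inf_le_right ?_
  exact NO3S.NotFF.normalizer_inf (hXZ.trans (ChoiceSit.le_normalizer_o2 _)) le_normalizer

theorem V_le_o2 (hSX : (S : Subgroup G) ≤ X) (hXZ : X ≤ centralizer (zc (S : Subgroup G) : Set G)) : V ≤ o2 X :=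
  (le_inf h.low (h.V_le_S.trans hSX)).trans (o2_inf_le hXZ)

theorem W_le_o2 (hSX : (S : Subgroup G) ≤ X) (hXZ : X ≤ centralizer (zc (S : Subgroup G) : Set G)) :
    cl V X ≤ o2 X := by
  refine cl_le fun x hx => ?_
  have h1 := cj_mono x (h.V_le_o2 hSX hXZ)
  rwa [cj_eq_of_mem_normalizer (ChoiceSit.le_normalizer_o2 X hx)] at h1

omit h in
theorem o2_le_S (hSX : (S : Subgroup G) ≤ X) : o2 X ≤ (S : Subgroup G) :=
  o2_le_syl (MinSimple.EmptyTI.syl_of_le hSX)

theorem W_le_S (hSX : (S : Subgroup G) ≤ X) (hXZ : X ≤ centralizer (zc (S : Subgroup G) : Set G)) :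
    cl V X ≤ (S : Subgroup G) := (h.W_le_o2 hSX hXZ).trans (o2_le_S hSX)

variable [Finite F]

theorem lines_comm (hXZ : X ≤ centralizer (zc (S : Subgroup G) : Set G)) {x y : G} (hx : x ∈ X) (hy : y ∈ X) :
    cj x V ≤ centralizer ((cj y V : Subgroup G) : Set G) := by
  have h1 := h.nline.comm_point (g := x⁻¹ * y) (by
    rw [cj_Z hXZ (mul_mem (inv_mem hx) hy)])
  have h2 := cj_cent (g := x) h1
  rwa [cj_cj, mul_inv_cancel_left] at h2

theorem W_comm (hXZ : X ≤ centralizer (zc (S : Subgroup G) : Set G)) :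
    cl V X ≤ centralizer (cl V X : Set G) :=
  cl_le fun _ hx => cent_symm (cl_le fun _ hy => h.lines_comm hXZ hy hx)

theorem W_sq (hXZ : X ≤ centralizer (zc (S : Subgroup G) : Set G)) : ∀ w ∈ cl V X, w ^ 2 = 1 := by
  refine sq_of_comm (h.W_comm hXZ) (fun i : X => cj_le_cl i.2) le_rfl fun i v hv => ?_
  have h1 := h.sq _ (mem_cj.1 hv)
  have e : v ^ 2 = (i : G) * ((i : G)⁻¹ * v * i) ^ 2 * (i : G)⁻¹ := by rw [pow_two, pow_two]; group
  rw [e, h1]; group

/-- `C_W(S) = Z` -/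
theorem cent_S (hSX : (S : Subgroup G) ≤ X) (hXZ : X ≤ centralizer (zc (S : Subgroup G) : Set G)) :
    cl V X ⊓ centralizer (S : Set G) ≤ zc (S : Subgroup G) := by
  intro w hw
  refine ChoiceBase.mem_zc.2 ⟨h.W_le_S hSX hXZ hw.1, h.W_sq hXZ w hw.1, fun s hs => mem_centralizer_iff.1 hw.2 s hs⟩

/-- **(C1)** -/
theorem cent_le (hSX : (S : Subgroup G) ≤ X) (hXZ : X ≤ centralizer (zc (S : Subgroup G) : Set G)) {v : G}
    (hv : v ∈ V) (hvZ : v ∉ zc (S : Subgroup G)) : X ⊓ centralizer ({v} : Set G) ≤ centralizer (V : Set G) := by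
  set K := X ⊓ centralizer ({v} : Set G) with hK
  have hKm : ∀ {c : G}, c ∈ K ↔ c ∈ X ∧ c * v = v * c := by
    intro c
    rw [hK, mem_inf, mem_centralizer_singleton_iff]
  have hSK : (S : Subgroup G) ≤ normalizer (K : Set G) := by
    refine le_normalizer_of_forall fun s hs c hc => ?_
    obtain ⟨h1, h2⟩ := hKm.1 hc
    refine hKm.2 ⟨mul_mem (mul_mem (hSX hs) h1) (inv_mem (hSX hs)), ?_⟩
    obtain ⟨z, hz⟩ : ∃ z, z = s⁻¹ * v * s⁻¹⁻¹ * v⁻¹ := ⟨_, rfl⟩
    have h3 : z ∈ zc (S : Subgroup G) := by rw [hz]; exact h.act_mem _ (inv_mem hs) _ hv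
    have h4 : s⁻¹ * v * s = z * v := by rw [hz]; group
    have h5 : z * c = c * z := mem_centralizer_iff.1 (hXZ h1) z h3
    calc s * c * s⁻¹ * v = s * (c * (s⁻¹ * v * s)) * s⁻¹ := by group
      _ = s * (c * (z * v)) * s⁻¹ := by rw [h4]
      _ = s * ((c * z) * v) * s⁻¹ := by group
      _ = s * ((z * c) * v) * s⁻¹ := by rw [h5]
      _ = s * (z * (c * v)) * s⁻¹ := by group
      _ = s * (z * (v * c)) * s⁻¹ := by rw [h2]
      _ = s * ((z * v) * c) * s⁻¹ := by group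
      _ = s * ((s⁻¹ * v * s) * c) * s⁻¹ := by rw [h4]
      _ = v * (s * c * s⁻¹) := by group
  have hS2 : IsPGroup 2 (S : Subgroup G) := S.isPGroup'
  have hodd : ¬ 2 ∣ ((S : Subgroup G) ⊓ K).relIndex K := by
    refine ChoiceSit.syl_not_dvd (syl_inf (H := (S : Subgroup G) ⊔ K) ?_ le_sup_right ?_)
    · exact MinSimple.EmptyTI.syl_of_le le_sup_left
    · exact sup_le hSK le_normalizer
  have hKX : K ≤ X := fun c hc => (hKm.1 hc).1
  have h1 := Trace.cent_le hS2 hSK hodd (U := cl V X)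
    (fun u hu w hw => (mem_centralizer_iff.1 (h.W_comm hXZ hu) w hw).symm)
    (fun u hu => by rw [← pow_two]; exact h.W_sq hXZ u hu)
    (hKX.trans (le_normalizer_cl V X)) (hSX.trans (le_normalizer_cl V X))
    ((h.cent_S hSX hXZ).trans (cent_symm (hKX.trans hXZ)))
  refine cent_symm (le_trans (le_inf (le_cl V X) ?_) h1)
  refine cent_symm ?_
  rintro s ⟨hs, hsK⟩
  exact h.free s hs v hv hvZ (hKm.1 hsK).2

omit [Finite F] in
theorem S_le_kz (hSX : (S : Subgroup G) ≤ X) (hXZ : X ≤ centralizer (zc (S : Subgroup G) : Set G)) {v : G}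
    (hv : v ∈ V) : (S : Subgroup G) ≤ kz X (zc (S : Subgroup G)) {v} := by
  intro s hs
  refine mem_kz.2 ⟨hSX hs, hXZ (hSX hs), ?_⟩
  rintro w rfl
  exact h.act_mem s hs w hv

omit [Finite F] in
/-- `{c ∈ X | [c, v] ∈ Z} = C_X(V) S` -/
theorem kz_le_sup (hSX : (S : Subgroup G) ≤ X) (hXZ : X ≤ centralizer (zc (S : Subgroup G) : Set G)) {v : G}
    (hv : v ∈ V) : kz X (zc (S : Subgroup G)) {v} ≤ (X ⊓ centralizer ({v} : Set G)) ⊔ (S : Subgroup G) := by
  set D := X ⊓ centralizer ({v} : Set G) with hD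
  set A := kz X (zc (S : Subgroup G)) {v} with hA
  let φ : A →* zc (S : Subgroup G) :=
    { toFun := fun c => ⟨c * v * (c : G)⁻¹ * v⁻¹, (mem_kz.1 c.2).2.2 v rfl⟩
      map_one' := Subtype.ext (by simp)
      map_mul' := by
        intro c d
        apply Subtype.ext
        change (c : G) * d * v * ((c : G) * d)⁻¹ * v⁻¹ = (c * v * (c : G)⁻¹ * v⁻¹) * (d * v * (d : G)⁻¹ * v⁻¹)
        have h1 := mem_centralizer_iff.1 (mem_kz.1 c.2).2.1 _ ((mem_kz.1 d.2).2.2 v rfl)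
        have h2 := Z_central (S := S) (h.V_le_S hv) ((mem_kz.1 d.2).2.2 v rfl)
        have h3 := mem_centralizer_iff.1 (h.comm (h.Z_le ((mem_kz.1 d.2).2.2 v rfl))) _
          (h.Z_le ((mem_kz.1 c.2).2.2 v rfl))
        rw [h3]
        have e : (c : G) * d * v * ((c : G) * d)⁻¹ * v⁻¹ =
          ((c : G) * (d * v * (d : G)⁻¹ * v⁻¹)) * (c : G)⁻¹ * (c * v * (c : G)⁻¹ * v⁻¹) := by group
        rw [e, ← h1, mul_inv_cancel_right] }
  have hker : φ.ker.map A.subtype = D := by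
    ext c
    constructor
    · rintro ⟨c, hc, rfl⟩
      refine ⟨kz_le c.2, ?_⟩
      have h1 : (c : G) * v * (c : G)⁻¹ * v⁻¹ = 1 := congrArg Subtype.val hc
      refine mem_centralizer_singleton_iff.2 ?_
      rw [mul_inv_eq_one, mul_inv_eq_iff_eq_mul] at h1
      exact h1
    · rintro ⟨hc, hcv⟩
      have h1 : c * v = v * c := mem_centralizer_singleton_iff.1 hcv
      have h2 : c * v * c⁻¹ * v⁻¹ = 1 := by rw [h1, mul_inv_cancel_right, mul_inv_cancel]
      refine ⟨⟨c, mem_kz.2 ⟨hc, hXZ hc, ?_⟩⟩, Subtype.ext h2, rfl⟩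
      rintro w rfl
      rw [h2]; exact one_mem _
  have hDA : D ≤ A := by rw [← hker]; exact map_subtype_le _
  have h1 : D.relIndex A ∣ Nat.card (zc (S : Subgroup G)) := by
    have e : D.relIndex A = φ.ker.index := by
      rw [relIndex]
      congr 1
      rw [← hker, subgroupOf, comap_map_eq_self_of_injective A.subtype_injective]
    rw [e, index_ker]
    exact card_subgroup_dvd_card _
  have hZ2 : IsPGroup 2 (zc (S : Subgroup G)) := S.isPGroup'.to_le (ChoiceSit.zc_le _)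
  obtain ⟨n, hn⟩ := hZ2.exists_card_eq
  rw [hn] at h1
  have h2 : ¬ 2 ∣ (S : Subgroup G).relIndex A :=
    ChoiceSit.syl_not_dvd (MinSimple.EmptyTI.syl_of_le (h.S_le_kz hSX hXZ hv))
  have h3 : (D ⊔ (S : Subgroup G)).relIndex A = 1 := by
    have h4 : (D ⊔ (S : Subgroup G)).relIndex A ∣ D.relIndex A := relIndex_dvd_of_le_left _ le_sup_left
    have h5 : (D ⊔ (S : Subgroup G)).relIndex A ∣ (S : Subgroup G).relIndex A :=
      relIndex_dvd_of_le_left _ le_sup_right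
    obtain ⟨m, -, hm⟩ := (Nat.dvd_prime_pow Nat.prime_two).1 (h4.trans h1)
    rw [hm] at h5 ⊢
    rcases m with _ | m
    · rfl
    · exact absurd ((dvd_pow_self 2 (Nat.succ_ne_zero m)).trans h5) h2
  exact relIndex_eq_one.1 h3

/-- **(C2)** -/
theorem two (hSX : (S : Subgroup G) ≤ X) (hXZ : X ≤ centralizer (zc (S : Subgroup G) : Set G)) {v : G}
    (hv : v ∈ V) (hvZ : v ∉ zc (S : Subgroup G)) {c : G} (hc : c ∈ kz X (zc (S : Subgroup G)) {v}) :
    ∃ γ : F, ∀ y : Y, c * η y * c⁻¹ = η y * ζ (γ • y) := by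
  have h1 := h.kz_le_sup hSX hXZ hv hc
  have hn : (S : Subgroup G) ≤ normalizer ((X ⊓ centralizer ({v} : Set G) : Subgroup G) : Set G) := by
    have h2 : X ⊓ centralizer ({v} : Set G) = X ⊓ centralizer (V : Set G) := le_antisymm
      (le_inf inf_le_left (h.cent_le hSX hXZ hv hvZ))
      (inf_le_inf_left _ (centralizer_le (Set.singleton_subset_iff.2 hv)))
    rw [h2]
    exact NO3S.NotFF.normalizer_inf (hSX.trans le_normalizer) (NO3S.NotFF.normalizer_centralizer h.norm)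
  rw [sup_comm] at h1
  obtain ⟨s, hs, d, hd, rfl⟩ := NO3b.CTwo.mem_sup_of_le_norm hn h1
  obtain ⟨γ, hγ⟩ := h.act s hs
  refine ⟨γ, fun y => ?_⟩
  have h2 := mem_centralizer_iff.1 (h.cent_le hSX hXZ hv hvZ hd) _ (h.η_mem y)
  have e : s * d * η y * (s * d)⁻¹ = s * (d * η y) * d⁻¹ * s⁻¹ := by group
  rw [e, ← h2, ← hγ]
  group

/-- (C2) on all lines -/
theorem two' (hSX : (S : Subgroup G) ≤ X) (hXZ : X ≤ centralizer (zc (S : Subgroup G) : Set G)) {v : G}
    (hv : v ∈ V) (hvZ : v ∉ zc (S : Subgroup G)) {c x : G} (hc : c ∈ X) (hx : x ∈ X)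
    (hcx : c * (x * v * x⁻¹) * c⁻¹ * (x * v * x⁻¹)⁻¹ ∈ zc (S : Subgroup G)) :
    ∃ γ : F, ∀ y : Y, c * (x * η y * x⁻¹) * c⁻¹ = x * η y * x⁻¹ * ζ (γ • y) := by
  obtain ⟨γ, hγ⟩ := h.two hSX hXZ hv hvZ (c := x⁻¹ * c * x)
    (mem_kz.2 ⟨mul_mem (mul_mem (inv_mem hx) hc) hx, hXZ (mul_mem (mul_mem (inv_mem hx) hc) hx), by
      rintro w rfl
      have h1 := mem_centralizer_iff.1 (hXZ hx) _ hcx
      have e : x⁻¹ * c * x * w * (x⁻¹ * c * x)⁻¹ * w⁻¹ =
          x⁻¹ * ((c * (x * w * x⁻¹) * c⁻¹ * (x * w * x⁻¹)⁻¹) * x) := by group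
      rw [e, h1, inv_mul_cancel_left]
      exact hcx⟩)
  refine ⟨γ, fun y => ?_⟩
  have h2 := mem_centralizer_iff.1 (hXZ hx) _ (h.ζ_mem (γ • y))
  calc c * (x * η y * x⁻¹) * c⁻¹ = x * ((x⁻¹ * c * x) * η y * (x⁻¹ * c * x)⁻¹) * x⁻¹ := by group
    _ = x * (η y * ζ (γ • y)) * x⁻¹ := by rw [hγ]
    _ = x * η y * (ζ (γ • y) * x) * x⁻¹ * x⁻¹ := by group
    _ = x * η y * (x * ζ (γ • y)) * x⁻¹ * x⁻¹ := by rw [h2]
    _ = _ := by
      have h3 : ζ (γ • y) * x⁻¹ = x⁻¹ * ζ (γ • y) := mem_centralizer_iff.1 (hXZ (inv_mem hx)) _ (h.ζ_mem (γ • y))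
      calc x * η y * (x * ζ (γ • y)) * x⁻¹ * x⁻¹ = x * η y * (ζ (γ • y) * x) * x⁻¹ * x⁻¹ := by rw [h2]
        _ = x * η y * (ζ (γ • y) * x⁻¹) := by group
        _ = x * η y * (x⁻¹ * ζ (γ • y)) := by rw [h3]
        _ = _ := by group

omit [Finite F] in
/-- a subgroup which contains `Z` and all `x η(y) x⁻¹` contains `W` -/
theorem W_le_of {U : Subgroup G} (hZU : zc (S : Subgroup G) ≤ U)
    (hXZ : X ≤ centralizer (zc (S : Subgroup G) : Set G)) (hU : ∀ x ∈ X, ∀ y : Y, x * η y * x⁻¹ ∈ U) :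
    cl V X ≤ U := by
  refine cl_le fun x hx v hv => ?_
  obtain ⟨a, b, hab⟩ := (h.mem_V _).1 (mem_cj.1 hv)
  have h1 : v = ζ a * (x * η b * x⁻¹) := by
    have h2 := mem_centralizer_iff.1 (hXZ hx) _ (h.ζ_mem a)
    calc v = x * (x⁻¹ * v * x) * x⁻¹ := by group
      _ = x * (ζ a * η b) * x⁻¹ := by rw [hab]
      _ = (x * ζ a) * η b * x⁻¹ := by group
      _ = (ζ a * x) * η b * x⁻¹ := by rw [h2]
      _ = _ := by group
  rw [h1]
  exact mul_mem (hZU (h.ζ_mem a)) (hU x hx b)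

omit [Finite F] in
theorem line_mem {x : G} (hx : x ∈ X) (y : Y) : x * η y * x⁻¹ ∈ cl V X :=
  cj_le_cl hx (mem_cj_self (h.η_mem y))

/-- the elements of `X` trivial on the orbit of `v` are trivial on `W / Z` -/
theorem kz_cl (hSX : (S : Subgroup G) ≤ X) (hXZ : X ≤ centralizer (zc (S : Subgroup G) : Set G)) {v : G}
    (hv : v ∈ V) (hvZ : v ∉ zc (S : Subgroup G)) {c : G} (hc : c ∈ X)
    (hcx : ∀ x ∈ X, c * (x * v * x⁻¹) * c⁻¹ * (x * v * x⁻¹)⁻¹ ∈ zc (S : Subgroup G)) :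
    c ∈ kz X (zc (S : Subgroup G)) (cl V X) := by
  refine mem_kz.2 ⟨hc, hXZ hc, ?_⟩
  let U : Subgroup G :=
    { carrier := {w | w ∈ cl V X ∧ c * w * c⁻¹ * w⁻¹ ∈ zc (S : Subgroup G)}
      one_mem' := ⟨one_mem _, by
        have e : c * 1 * c⁻¹ * (1 : G)⁻¹ = 1 := by group
        rw [e]; exact one_mem _⟩
      mul_mem' := by
        rintro a b ⟨ha, ha'⟩ ⟨hb, hb'⟩
        refine ⟨mul_mem ha hb, ?_⟩
        have h1 := Z_central (S := S) (h.W_le_S hSX hXZ ha) hb'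
        have e : c * (a * b) * c⁻¹ * (a * b)⁻¹ = (c * a * c⁻¹) * (c * b * c⁻¹ * b⁻¹) * a⁻¹ := by group
        have e2 : (c * a * c⁻¹) * (c * b * c⁻¹ * b⁻¹) * a⁻¹ =
            (c * a * c⁻¹ * a⁻¹) * (a * (c * b * c⁻¹ * b⁻¹)) * a⁻¹ := by group
        rw [e, e2, h1]
        have e3 : (c * a * c⁻¹ * a⁻¹) * ((c * b * c⁻¹ * b⁻¹) * a) * a⁻¹ =
            (c * a * c⁻¹ * a⁻¹) * (c * b * c⁻¹ * b⁻¹) := by group
        rw [e3]
        exact mul_mem ha' hb'
      inv_mem' := by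
        rintro a ⟨ha, ha'⟩
        have h1 : a⁻¹ = a := inv_eq_of_mul_eq_one_left (by rw [← pow_two]; exact h.W_sq hXZ a ha)
        rw [h1]
        exact ⟨ha, ha'⟩ }
  have hU : cl V X ≤ U := by
    refine h.W_le_of ?_ hXZ ?_
    · intro z hz
      refine ⟨(h.Z_le.trans (le_cl V X)) hz, ?_⟩
      rw [← mem_centralizer_iff.1 (hXZ hc) z hz, mul_inv_cancel_right, mul_inv_cancel]
      exact one_mem _
    · intro x hx y
      refine ⟨h.line_mem hx y, ?_⟩
      obtain ⟨γ, hγ⟩ := h.two' hSX hXZ hv hvZ hc hx (hcx x hx)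
      rw [hγ, ← (Z_central (S := S) (h.W_le_S hSX hXZ (h.line_mem hx y)) (h.ζ_mem _)) |>.symm,
        mul_inv_cancel_right]
      exact h.ζ_mem _
  exact fun w hw => (hU hw).2

end X

end NY

/-! ### Critical pairs -/

/-- The amalgam of `X`, `S ≤ X ≤ C_G(Z)`, and `P ≤ N_G(V)`; `Q0` : `O₂(C_G(V))` if `X = C_G(Z)`. -/
structure Amal [Finite G] (S : Sylow 2 G) (V X P Q0 : Subgroup G) : Prop where
  SX : (S : Subgroup G) ≤ X
  XZ : X ≤ centralizer (zc (S : Subgroup G) : Set G)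
  PV : P ≤ normalizer (V : Set G)
  PQ : P ≤ normalizer (Q0 : Set G)
  Q0_le : Q0 ≤ o2 (X ⊓ centralizer (V : Set G))
  le_Q0 : o2 X ⊓ centralizer (V : Set G) ≤ Q0
  nonloc : ∀ R : Subgroup G, IsPGroup 2 R → P ≤ normalizer (R : Set G) → X ≤ normalizer (R : Set G) → R = ⊥

namespace Amal

variable [Finite G] {S : Sylow 2 G} {V : Subgroup G} {F : Type*} {Y : Type*} [Field F] [Finite F] [AddCommGroup Y]
  [Module F Y] {ζ η : Y → G} {X P Q0 : Subgroup G}

theorem le_cj_Q0 (h : NY S V F ζ η) (a : Amal S V X P Q0) {n : ℕ} {g : G} (hg : NO3b.K0.Wk X P n g)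
    (hm : ∀ m < n, ∀ k, NO3b.K0.Wk X P m k → cl V X ≤ centralizer ((cj k (cl V X) : Subgroup G) : Set G)) :
    cl V X ≤ cj g Q0 := by
  have hW2 : IsPGroup 2 (cl V X) := fun x => ⟨1, Subtype.ext (by simpa using h.W_sq a.XZ x x.2)⟩
  have hQP : ∀ {l : G}, l ∈ P → cj l Q0 = Q0 := fun hl => cj_eq_of_mem_normalizer (a.PQ hl)
  induction hg with
  | base hl =>
    rw [hQP hl]
    exact (le_inf (h.W_le_o2 a.SX a.XZ) (cent_symm ((le_cl V X).trans (h.W_comm a.XZ)))).trans a.le_Q0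
  | @step n g x l hg hx hl ih =>
    have h1 := ih fun m hmn k hk => hm m (by omega) k hk
    have h2 := hm n (by omega) g hg
    -- `W ≤ (O₂(C_X(W)))^g ≤ O₂(X)^g`
    have h3 : cj g⁻¹ (cl V X) ≤ o2 X := by
      have h4 : cj g⁻¹ (cl V X) ≤ Q0 := by rw [cj_le_iff, inv_inv]; exact h1
      have h5 : cj g⁻¹ (cl V X) ≤ centralizer (cl V X : Set G) := by
        have := cj_cent (g := g⁻¹) h2
        rwa [cj_inv_cj] at this
      have h6 : cj g⁻¹ (cl V X) ≤ o2 (X ⊓ centralizer (cl V X : Set G)) := by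
        have h7 : o2 (X ⊓ centralizer (V : Set G)) ⊓ (X ⊓ centralizer (cl V X : Set G)) ≤
            o2 (X ⊓ centralizer (cl V X : Set G)) := by
          refine le_o2 ((ChoiceSit.isPGroup_o2 _).to_le inf_le_left) inf_le_right ?_
          refine NO3S.NotFF.normalizer_inf (le_trans ?_ (ChoiceSit.le_normalizer_o2 _)) le_normalizer
          exact inf_le_inf_left _ (centralizer_le (le_cl V X))
        refine le_trans (le_inf (h4.trans a.Q0_le) (le_inf ?_ h5)) h7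
        exact (h4.trans a.Q0_le).trans ((ChoiceSit.o2_le _).trans inf_le_left)
      refine h6.trans (le_o2 (ChoiceSit.isPGroup_o2 _) ((ChoiceSit.o2_le _).trans inf_le_left) ?_)
      refine le_trans ?_ (norm_o2 (X ⊓ centralizer (cl V X : Set G)))
      exact NO3S.NotFF.normalizer_inf le_normalizer (NO3S.NotFF.normalizer_centralizer (le_normalizer_cl V X))
    -- now the next line
    have h4 : cj (g * x)⁻¹ (cl V X) ≤ o2 X := by
      have h5 := cj_mono x⁻¹ h3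
      rwa [cj_cj, ← mul_inv_rev, cj_eq_of_mem_normalizer (ChoiceSit.le_normalizer_o2 X (inv_mem hx))] at h5
    have h5 : cj (g * x)⁻¹ (cl V X) ≤ centralizer (V : Set G) := by
      have h6 := cj_cent (g := (g * x)⁻¹) h2
      rw [cj_cj] at h6
      refine h6.trans (centralizer_le ?_)
      have h7 : (g * x)⁻¹ * g = x⁻¹ := by group
      rw [h7, cj_cl (inv_mem hx)]
      exact le_cl V X
    have h6 := (le_inf h4 h5).trans a.le_Q0
    rw [cj_le_iff, inv_inv] at h6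
    rwa [← cj_cj (g * x) l, hQP hl]

theorem exists_crit (h : NY S V F ζ η) (a : Amal S V X P Q0) : ∃ g, NO3b.K0.Crit V X Q0 g := by
  have hVne : V ≠ ⊥ := by
    intro h0
    have h1 := h.card_lt
    have h2 : Nat.card (zc (S : Subgroup G)) ≤ Nat.card V := Subgroup.card_le_of_le h.Z_le
    rw [h0, card_bot] at h2
    have h3 : 1 < Nat.card F := Finite.one_lt_card
    omega
  have hex : ∃ n, ∃ g, NO3b.K0.Wk X P n g ∧ ¬ cl V X ≤ centralizer ((cj g (cl V X) : Subgroup G) : Set G) := by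
    by_contra hcon
    push Not at hcon
    have h1 : ∀ k ∈ X ⊔ P, cl V X ≤ centralizer ((cj k (cl V X) : Subgroup G) : Set G) := by
      intro k hk
      rcases NO3b.K0.Wk.cover hk with hk | ⟨n, g, x, hx, y, hy, hg, rfl⟩
      · rw [cj_cl hk]; exact h.W_comm a.XZ
      · have h2 := cj_cent (g := x) (hcon n g hg)
        rw [cj_cl hx] at h2
        rwa [← cj_cj, cj_cl hy, ← cj_cj]
    have hc : cl (cl V X) (X ⊔ P) ≤ centralizer ((cl (cl V X) (X ⊔ P) : Subgroup G) : Set G) := by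
      refine cl_le fun a ha => cent_symm (cl_le fun b hb => ?_)
      have h2 := cj_cent (g := b) (h1 (b⁻¹ * a) (mul_mem (inv_mem hb) ha))
      rwa [cj_cj, mul_inv_cancel_left] at h2
    have hsq : ∀ w ∈ cl (cl V X) (X ⊔ P), w ^ 2 = 1 :=
      sq_of_comm hc (fun i : (X ⊔ P : Subgroup G) => cj_le_cl i.2) le_rfl fun i v hv => by
        have h1 := h.W_sq a.XZ _ (mem_cj.1 hv)
        have e : v ^ 2 = (i : G) * ((i : G)⁻¹ * v * i) ^ 2 * (i : G)⁻¹ := by rw [pow_two, pow_two]; group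
        rw [e, h1]; group
    have h2 := a.nonloc _ (fun x => ⟨1, Subtype.ext (by simpa using hsq x x.2)⟩)
      (le_sup_right.trans (le_normalizer_cl _ _)) (le_sup_left.trans (le_normalizer_cl _ _))
    exact hVne (le_bot_iff.1 (((le_cl V X).trans (le_cl _ _)).trans h2.le))
  classical
  obtain ⟨g, hg, hne⟩ := Nat.find_spec hex
  have hm : ∀ m < Nat.find hex, ∀ k, NO3b.K0.Wk X P m k →
      cl V X ≤ centralizer ((cj k (cl V X) : Subgroup G) : Set G) := by
    intro m hmn k hk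
    by_contra h0
    exact Nat.find_min hex hmn ⟨k, hk, h0⟩
  refine ⟨g, hne, a.le_cj_Q0 h hg hm, ?_⟩
  rw [cj_le_iff]
  exact a.le_cj_Q0 h hg.inv hm

/-- `Z ∩ Z^g = 1` for a critical pair -/
theorem inf_Z (h : NY S V F ζ η) (a : Amal S V X P Q0) {g : G} (c : NO3b.K0.Crit V X Q0 g) :
    zc (S : Subgroup G) ⊓ cj g (zc (S : Subgroup G)) = ⊥ := by
  by_contra hne
  apply c.ncomm
  refine cl_le fun x hx => cent_symm ?_
  unfold cl
  rw [cj_iSup]
  refine iSup_le fun y => ?_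
  rw [cj_cj]
  refine h.nline.ti hne ?_ ?_
  · rw [← cj_cj, NY.cj_Z a.XZ y.2]
    exact inf_le_right
  · rw [NY.cj_Z a.XZ hx]
    exact inf_le_left

omit [Finite F] in
/-- the case `X = C_G(Z)` -/
theorem of_full (h : NY S V F ζ η) {P : Subgroup G} (hPV : P ≤ normalizer (V : Set G))
    (hloc : ∀ R : Subgroup G, IsPGroup 2 R → P ≤ normalizer (R : Set G) →
      centralizer (zc (S : Subgroup G) : Set G) ≤ normalizer (R : Set G) → R = ⊥) :
    Amal S V (centralizer (zc (S : Subgroup G) : Set G)) P (o2 (centralizer (V : Set G))) where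
  SX := MinSimple.VModule.le_centralizer_zc (S : Subgroup G)
  XZ := le_rfl
  PV := hPV
  PQ := by
    refine hPV.trans fun n hn => ?_
    rw [mem_normalizer_iff_cj, ← ChoiceSit.o2_cj, cj_centralizer, mem_normalizer_iff_cj.1 hn]
  Q0_le := by rw [inf_eq_right.2 (centralizer_le h.Z_le)]
  le_Q0 := by
    refine le_o2 ((ChoiceSit.isPGroup_o2 _).to_le inf_le_left) inf_le_right ?_
    exact NO3S.NotFF.normalizer_inf ((centralizer_le h.Z_le).trans (ChoiceSit.le_normalizer_o2 _)) le_normalizer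
  nonloc := hloc

end Amal


end Cfsg.Agent.Omega.NO3S.Tens

end

section


/-!
# `O₂(M / C_M(V)) = 1` for `V = ⟨Z^M⟩`, `Z ≤ C_V(S)` (LOC, piece L2')

* `red_of` : `S` a Sylow 2-subgroup of `M`, `Z ≤ V` centralised by `S`, `V` the smallest `M`-invariant subgroup over
  `Z`: then `Red M V`.

Proof: a normal subgroup `N` of `M` which acts on `V` as a 2-group is `(S ∩ N) C_N(V)`, so `Z ≤ C_V(N)`, which is
`M`-invariant.
-/

set_option autoImplicit false

namespace Cfsg.Agent.Omega.NO3b.Exit.TDat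

open Subgroup
open Cfsg.Agent.ZN.ChoiceSit (Syl syl_not_dvd)

universe u v

variable {H : Type u} {U : Type v} [Group H] [AddCommGroup U] [DistribMulAction H U]

/-- `O₂(M / C_M(V)) = 1` -/
theorem red_of [Finite H] {M S : Subgroup H} {V Z : AddSubgroup U} (hS : Syl S M)
    (hMV : ∀ m ∈ M, ∀ v ∈ V, m • v ∈ V) (hZV : Z ≤ V) (hZ : ∀ s ∈ S, ∀ z ∈ Z, s • z = z)
    (hV : ∀ W : AddSubgroup U, (∀ m ∈ M, ∀ w ∈ W, m • w ∈ W) → Z ≤ W → V ≤ W) : Red M V := by
  intro N hNM hN h2 n hn v hv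
  have : Fact (Nat.Prime 2) := ⟨Nat.prime_two⟩
  -- `C_N(V)`
  let C : Subgroup H :=
    { carrier := {x | x ∈ N ∧ ∀ v ∈ V, x • v = v}
      one_mem' := ⟨one_mem _, fun v _ => one_smul _ v⟩
      mul_mem' := fun {a b} ha hb => ⟨mul_mem ha.1 hb.1, fun v hv => by rw [mul_smul, hb.2 v hv, ha.2 v hv]⟩
      inv_mem' := fun {a} ha => ⟨inv_mem ha.1, fun v hv => by rw [inv_smul_eq_iff, ha.2 v hv]⟩ }
  have hCN : C ≤ N := fun x hx => hx.1
  have hCn : (C.subgroupOf N).Normal := by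
    constructor
    intro c hc g
    refine ⟨N.mul_mem (N.mul_mem g.2 c.2) (N.inv_mem g.2), fun v hv => ?_⟩
    have h1 : ((g : H))⁻¹ • v ∈ V := hMV _ (inv_mem (hNM g.2)) v hv
    change ((g : H) * (c : H) * (g : H)⁻¹) • v = v
    have h2 : (c : H) • (g : H)⁻¹ • v = (g : H)⁻¹ • v := hc.2 _ h1
    rw [mul_smul, mul_smul, h2, smul_inv_smul]
  have hq : IsPGroup 2 (N ⧸ C.subgroupOf N) := by
    intro q
    induction q using QuotientGroup.induction_on with | _ x =>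
    obtain ⟨j, hj⟩ := h2 x x.2
    refine ⟨j, ?_⟩
    rw [← QuotientGroup.mk_pow, QuotientGroup.eq_one_iff, mem_subgroupOf]
    exact ⟨N.pow_mem x.2 _, hj⟩
  obtain ⟨k, hk⟩ := IsPGroup.iff_card.1 hq
  have hCi : C.relIndex N = 2 ^ k := hk
  -- `C_V(N)`
  let W : AddSubgroup U :=
    { carrier := {u | ∀ n ∈ N, n • u = u}
      zero_mem' := fun n _ => smul_zero n
      add_mem' := fun {a b} ha hb n hn => by rw [smul_add, ha n hn, hb n hn]
      neg_mem' := fun {a} ha n hn => by rw [smul_neg, ha n hn] }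
  have hW : ∀ m ∈ M, ∀ w ∈ W, m • w ∈ W := by
    intro m hm w hw n hn
    have h1 := hw _ (by
      have := hN m⁻¹ (inv_mem hm) n hn
      exact this)
    have e : n • m • w = m • ((m⁻¹ * n * m⁻¹⁻¹) • w) := by
      rw [smul_smul, smul_smul]; congr 1; group
    rw [e, h1]
  have hZW : Z ≤ W := by
    intro z hz n hn
    let St : Subgroup H :=
      { carrier := {x | x ∈ N ∧ x • z = z}
        one_mem' := ⟨one_mem _, one_smul _ z⟩
        mul_mem' := fun {a b} ha hb => ⟨mul_mem ha.1 hb.1, by rw [mul_smul, hb.2, ha.2]⟩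
        inv_mem' := fun {a} ha => ⟨inv_mem ha.1, by rw [inv_smul_eq_iff, ha.2]⟩ }
    have h1 : S ⊓ N ≤ St := fun x hx => ⟨hx.2, hZ x hx.1 z hz⟩
    have h3 : C ≤ St := fun x hx => ⟨hx.1, hx.2 z (hZV hz)⟩
    have hsy : Syl (S ⊓ N) N := by
      refine Cfsg.Agent.Omega.NO3S.Tens.syl_inf hS hNM ?_
      intro m hm
      rw [mem_normalizer_iff]
      intro y
      refine ⟨fun hy => hN m hm y hy, fun hy => ?_⟩
      have h4 := hN m⁻¹ (inv_mem hm) _ hy
      have e : m⁻¹ * (m * y * m⁻¹) * m⁻¹⁻¹ = y := by group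
      rwa [e] at h4
    have h4 : ¬ 2 ∣ (S ⊓ N).relIndex N := syl_not_dvd hsy
    have h5 : St.relIndex N ∣ (S ⊓ N).relIndex N := relIndex_dvd_of_le_left N h1
    have h6 : St.relIndex N ∣ 2 ^ k := by rw [← hCi]; exact relIndex_dvd_of_le_left N h3
    obtain ⟨i, hi, h7⟩ := (Nat.dvd_prime_pow Nat.prime_two).1 h6
    have h8 : i = 0 := by
      by_contra h0
      apply h4
      refine dvd_trans ?_ h5
      rw [h7]
      exact dvd_pow_self 2 h0
    rw [h8, pow_zero] at h7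
    exact (relIndex_eq_one.1 h7 hn).2
  exact hV W hW hZW hv n hn

end Cfsg.Agent.Omega.NO3b.Exit.TDat

end

end

-- merged: Cfsg.Agent.Mrg.Omega.NO3b.Exit.LocBar
section

/-!
# LOC, piece L2': the M-side of the bridge group → module

`U` an abelian subgroup, `h : H ≤ N_G(U)`, `XX h` the group induced by `H` on `U` (`Exit/MU.lean`).

* `syl_im` : the image of a Sylow 2-subgroup;
* `im_smul`, `im_fix`, `im_conj`, ... : images of `M ≤ H` on `ad hc V`;
* `red_im` : `S` a Sylow 2-subgroup of `M ≤ H`, `Z ≤ V` centralised by `S`, every subgroup of `G` over `Z` normalised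
  by `M` contains `V`: then `Red (im h M) (ad hc V)`.
-/

set_option autoImplicit false

namespace Cfsg.Agent.Omega.NO3b.Exit.LocBar

open Subgroup Cfsg
open Cfsg.Agent.ZN.ChoiceSit (Syl)
open Cfsg.Agent.Omega.NO3b.Exit.Bridge
open Cfsg.Agent.Omega.NO3b.Exit.TDat (Red red_of)
open Cfsg.Agent.Omega.FFBr (XX pr im mem_im card_im coe_pr_smul pr_eq_one pr_surjective)
open Cfsg.Agent.Omega.FF.Basic (fx)

universe u

variable {G : Type u} [Group G] {H U : Subgroup G} (h : H ≤ normalizer (U : Set G))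

theorem pr_mem_im {A : Subgroup G} {a : G} (ha : a ∈ A) (haH : a ∈ H) : pr h ⟨a, haH⟩ ∈ im h A :=
  mem_im.2 ⟨⟨a, haH⟩, ha, rfl⟩

theorem im_mono {A B : Subgroup G} (hAB : A ≤ B) : im h A ≤ im h B := by
  rintro _ ⟨a, ha, rfl⟩
  exact ⟨a, hAB ha, rfl⟩

theorem syl_im [Finite G] {S M : Subgroup G} (hS : Syl S M) (hM : M ≤ H) : Syl (im h S) (im h M) :=
  Cfsg.Agent.MinSimple.EmptyE.Trans.syl_im (pr h) hS hM

theorem isPGroup_im {A : Subgroup G} (hA : IsPGroup 2 A) : IsPGroup 2 (im h A) :=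
  (hA.comap_of_injective _ H.subtype_injective).map _

variable {hc : U ≤ centralizer (U : Set G)}

/-- the image of `M ≤ N(V)` normalises `V` -/
theorem im_smul {M V : Subgroup G} (hV : M ≤ normalizer (V : Set G)) {m : XX h} (hm : m ∈ im h M) {v : MU hc}
    (hv : v ∈ ad hc V) : m • v ∈ ad hc V := by
  obtain ⟨a, ha, rfl⟩ := mem_im.1 hm
  rw [mem_ad, val_smul]
  exact (mem_normalizer_iff.1 (hV ha) _).1 hv

/-- the image of `M ≤ C(V)` centralises `V` -/
theorem im_fix {M V : Subgroup G} (hV : M ≤ centralizer (V : Set G)) {m : XX h} (hm : m ∈ im h M) {v : MU hc}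
    (hv : v ∈ ad hc V) : m • v = v := by
  obtain ⟨a, ha, rfl⟩ := mem_im.1 hm
  exact (pr_smul_eq_iff' h).2 (mem_centralizer_iff.1 (hV ha) _ hv).symm

/-- the image of `M ≤ N(D)` normalises the image of `D` -/
theorem im_conj {M D : Subgroup G} (hD : M ≤ normalizer (D : Set G)) {m d : XX h} (hm : m ∈ im h M)
    (hd : d ∈ im h D) : m * d * m⁻¹ ∈ im h D := by
  obtain ⟨a, ha, rfl⟩ := mem_im.1 hm
  obtain ⟨b, hb, rfl⟩ := mem_im.1 hd
  exact mem_im.2 ⟨a * b * a⁻¹, (mem_normalizer_iff.1 (hD ha) _).1 hb, by rw [map_mul, map_mul, map_inv]⟩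

/-- `O₂(M / C_M(V)) = 1` for `V = ⟨Z^M⟩` -/
theorem red_im [Finite G] {M S V Z : Subgroup G} (hM : M ≤ H) (hS : Syl S M) (hVU : V ≤ U)
    (hMV : M ≤ normalizer (V : Set G)) (hZV : Z ≤ V) (hZ : S ≤ centralizer (Z : Set G))
    (hV : ∀ W : Subgroup G, Z ≤ W → M ≤ normalizer (W : Set G) → V ≤ W) : Red (im h M) (ad hc V) := by
  refine red_of (S := im h S) (Z := ad hc Z) (syl_im h hS hM) (fun m hm v hv => im_smul h hMV hm hv) (ad_mono hZV)
    (fun s hs z hz => im_fix h hZ hs hz) fun W hW hZW => ?_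
  have h1 : V ≤ un W := by
    refine hV _ (fun z hz => ?_) fun m hm => ?_
    · have hzU := hVU (hZV hz)
      have h2 : mk hc hzU ∈ W := hZW hz
      exact ⟨_, h2, rfl⟩
    · have hmH := hM hm
      have key : ∀ a : G, a ∈ M → ∀ w ∈ un W, a * w * a⁻¹ ∈ un W := by
        rintro a ha _ ⟨w, hw, rfl⟩
        exact ⟨pr h ⟨a, hM ha⟩ • w, hW _ (pr_mem_im h ha (hM ha)) w hw, rfl⟩
      rw [mem_normalizer_iff]
      intro w
      refine ⟨key m hm w, fun hw => ?_⟩
      have h2 := key m⁻¹ (inv_mem hm) _ hw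
      have e : m⁻¹ * (m * w * m⁻¹) * m⁻¹⁻¹ = w := by group
      rwa [e] at h2
  intro v hv
  exact val_mem_un.1 (h1 hv)

end Cfsg.Agent.Omega.NO3b.Exit.LocBar

end
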